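import Mathlib

/-!
Characters of the multiplicative group of a field with `2 ^ n` elements, indexed by `ZMod (2 ^ n - 1)`,
and the expansion of additive maps out of the field in Frobenius powers.
-/

set_option autoImplicit false
set_option linter.unusedSectionVars false

namespace Cfsg.Lib.CIT.Rad2

open Finset

/-- The weights of the torus. -/
abbrev Wt (n : ℕ) : Type := ZMod (2 ^ n - 1)

variable {n : ℕ}

/-- The weight of the `i`-th Frobenius power. -/
def pw (i : ZMod n) : Wt n := 2 ^ i.val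

theorem two_pow_n : (2 : Wt n) ^ n = 1 := by
  have h : ((2 ^ n - 1 : ℕ) : Wt n) = 0 := ZMod.natCast_self _
  rw [Nat.cast_sub Nat.one_le_two_pow, sub_eq_zero] at h
  simpa using h

theorem pw_natCast [NeZero n] (j : ℕ) : pw (j : ZMod n) = 2 ^ j := by
  rw [pw, ZMod.val_natCast]
  conv_rhs => rw [← Nat.mod_add_div j n, pow_add, pow_mul, two_pow_n, one_pow, mul_one]

theorem pw_add [NeZero n] (i j : ZMod n) : pw (i + j) = pw i * pw j := by
  conv_lhs => rw [← ZMod.natCast_rightInverse i, ← ZMod.natCast_rightInverse j, ← Nat.cast_add, pw_natCast]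
  rw [pow_add]
  rfl

theorem pw_zero [NeZero n] : pw (0 : ZMod n) = 1 := by
  rw [pw, ZMod.val_zero, pow_zero]

theorem pw_one [NeZero n] : pw (1 : ZMod n) = 2 := by
  rw [show (1 : ZMod n) = ((1 : ℕ) : ZMod n) from Nat.cast_one.symm, pw_natCast, pow_one]

theorem pw_succ [NeZero n] (i : ZMod n) : pw i + pw i = pw (i + 1) := by
  rw [pw_add, pw_one, mul_two]

theorem isUnit_pw [NeZero n] (i : ZMod n) : IsUnit (pw i) := by
  refine IsUnit.of_mul_eq_one (pw (-i)) ?_
  rw [← pw_add, add_neg_cancel, pw_zero]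

theorem sum_pw_eq [NeZero n] {S T : Finset (ZMod n)} (hS : S ≠ univ) (hT : T ≠ univ)
    (h : ∑ i ∈ S, pw i = ∑ i ∈ T, pw i) : S = T := by
  classical
  have hinj : Function.Injective (ZMod.val : ZMod n → ℕ) := ZMod.val_injective n
  have cast_sum : ∀ U : Finset (ZMod n),
      ∑ i ∈ U, pw i = ((∑ j ∈ U.image ZMod.val, 2 ^ j : ℕ) : Wt n) := fun U => by
    rw [Finset.sum_image fun a _ b _ hab => hinj hab, Nat.cast_sum]
    exact Finset.sum_congr rfl fun i _ => by rw [pw, Nat.cast_pow, Nat.cast_ofNat]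
  have hfull : ∑ j ∈ Finset.range n, 2 ^ j = 2 ^ n - 1 := Nat.geomSum_eq (le_refl 2) n |>.trans (by simp)
  have bound : ∀ U : Finset (ZMod n), U ≠ univ → ∑ j ∈ U.image ZMod.val, 2 ^ j < 2 ^ n - 1 := fun U hU => by
    rw [← hfull]
    obtain ⟨x, hx⟩ : ∃ x, x ∉ U := by
      by_contra hc; push Not at hc; exact hU (eq_univ_of_forall hc)
    refine Finset.sum_lt_sum_of_subset (i := x.val) (fun j hj => ?_) (Finset.mem_range.2 (ZMod.val_lt x))
      (fun hm => ?_) (by positivity) fun j _ _ => Nat.zero_le _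
    · obtain ⟨i, -, rfl⟩ := Finset.mem_image.1 hj
      exact Finset.mem_range.2 (ZMod.val_lt i)
    · obtain ⟨i, hi, he⟩ := Finset.mem_image.1 hm
      exact hx (hinj he ▸ hi)
  rw [cast_sum, cast_sum, ZMod.natCast_eq_natCast_iff', Nat.mod_eq_of_lt (bound S hS),
    Nat.mod_eq_of_lt (bound T hT)] at h
  have key : ∀ U : Finset (ZMod n),
      (∑ j ∈ U.image ZMod.val, 2 ^ j).bitIndices.toFinset = U.image ZMod.val := fun U =>
    Finset.toFinset_bitIndices_sum_two_pow _
  exact Finset.image_injective hinj (by rw [← key S, ← key T, h])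

variable {F : Type*} [Field F] [Fintype F] [DecidableEq F]

/-- The character of a weight. -/
def ch (w : Wt n) (s : Fˣ) : F := (s : F) ^ w.val

section Char

variable [NeZero n] (hF : Fintype.card F = 2 ^ n)
include hF

theorem card_units_eq : Fintype.card Fˣ = 2 ^ n - 1 := by
  classical
  rw [Fintype.card_units, hF]

theorem pow_mod_units (s : Fˣ) (j : ℕ) : (s : F) ^ (j % (2 ^ n - 1)) = (s : F) ^ j := by
  classical
  have h1 : (s : F) ^ (2 ^ n - 1) = 1 := by
    rw [← card_units_eq hF, ← Units.val_pow_eq_pow_val, pow_card_eq_one, Units.val_one]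
  conv_rhs => rw [← Nat.mod_add_div j (2 ^ n - 1), pow_add, pow_mul, h1, one_pow, mul_one]

omit hF in
theorem neZero_mod : NeZero (2 ^ n - 1) := ⟨by
  have : 2 ^ 1 ≤ 2 ^ n := Nat.pow_le_pow_right two_pos (NeZero.one_le)
  omega⟩

theorem ch_natCast (j : ℕ) (s : Fˣ) : ch (j : Wt n) s = (s : F) ^ j := by
  rw [ch, ZMod.val_natCast, pow_mod_units hF]

theorem ch_add (w w' : Wt n) (s : Fˣ) : ch (w + w') s = ch w s * ch w' s := by
  haveI := neZero_mod (n := n)
  rw [ch, ZMod.val_add, pow_mod_units hF, pow_add]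
  rfl

theorem ch_zero (s : Fˣ) : ch (0 : Wt n) s = 1 := by
  haveI := neZero_mod (n := n)
  rw [ch, ZMod.val_zero, pow_zero]

theorem ch_neg_mul (w : Wt n) (s : Fˣ) : ch (-w) s * ch w s = 1 := by
  rw [← ch_add hF, neg_add_cancel, ch_zero hF]

theorem ch_pw (i : ZMod n) (s : Fˣ) : ch (pw i) s = (s : F) ^ (2 ^ i.val) := by
  rw [pw, show ((2 : Wt n) ^ i.val) = ((2 ^ i.val : ℕ) : Wt n) by simp, ch_natCast hF]

theorem ch_mul_natCast (w : Wt n) (j : ℕ) (s : Fˣ) : ch (w * (j : Wt n)) s = ch w s ^ j := by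
  haveI := neZero_mod (n := n)
  rw [ch, ch, ← pow_mul, ZMod.val_mul, pow_mod_units hF, ZMod.val_natCast]
  conv_rhs => rw [← pow_mod_units hF, Nat.mul_mod]
  rw [← pow_mod_units hF, Nat.mul_mod, Nat.mod_mod]

theorem charTwo : CharP F 2 := by
  haveI : Fact (Nat.Prime 2) := ⟨Nat.prime_two⟩
  exact charP_of_card_eq_prime_pow hF

theorem sum_ch (w : Wt n) : ∑ s : Fˣ, ch w s = if w = 0 then (1 : F) else 0 := by
  classical
  haveI := neZero_mod (n := n)
  haveI := charTwo hF
  simp only [ch]
  rw [FiniteField.sum_pow_units, hF]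
  by_cases hw : w = 0
  · rw [if_pos hw, if_pos (by rw [hw, ZMod.val_zero]; exact dvd_zero _), CharTwo.neg_eq]
  · rw [if_neg hw, if_neg fun hd => hw ((ZMod.val_eq_zero w).1 (Nat.eq_zero_of_dvd_of_lt hd (ZMod.val_lt w)))]

variable {V : Type*} [AddCommGroup V] [Module F V]

/-- The component of weight `w` of a function on the torus. -/
noncomputable def proj (w : Wt n) (g : Fˣ → V) : V := ∑ s : Fˣ, ch (-w) s • g s

theorem proj_sum {J : Type*} (A : Finset J) (w : Wt n) (wt : J → Wt n) (v : J → V) (g : Fˣ → V)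
    (h : ∀ s, g s = ∑ j ∈ A, ch (wt j) s • v j) : proj w g = ∑ j ∈ A.filter (fun j => wt j = w), v j := by
  classical
  simp only [proj, h, Finset.smul_sum, smul_smul]
  rw [Finset.sum_comm, Finset.sum_filter]
  refine Finset.sum_congr rfl fun j _ => ?_
  rw [← Finset.sum_smul]
  have : ∀ s : Fˣ, ch (-w) s * ch (wt j) s = ch (wt j - w) s := fun s => by
    rw [← ch_add hF, sub_eq_neg_add]
  simp only [this, sum_ch hF, sub_eq_zero]
  split <;> simp

theorem proj_mem {W : Submodule F V} (w : Wt n) {g : Fˣ → V} (h : ∀ s, g s ∈ W) : proj w g ∈ W :=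
  Submodule.sum_mem _ fun s _ => W.smul_mem _ (h s)

theorem proj_add (w : Wt n) (g g' : Fˣ → V) : proj w (fun s => g s + g' s) = proj w g + proj w g' := by
  simp [proj, smul_add, Finset.sum_add_distrib]

theorem proj_sub (w : Wt n) (g g' : Fˣ → V) : proj w (fun s => g s - g' s) = proj w g - proj w g' := by
  simp [proj, smul_sub, Finset.sum_sub_distrib]

omit hF in
theorem map_zero_of_additive {W : Type*} [AddCommGroup W] (g : F → W)
    (hg : ∀ x y, g (x + y) = g x + g y) : g 0 = 0 := by
  have := hg 0 0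
  rw [add_zero] at this
  exact left_eq_add.1 this

omit hF in
theorem pw_injective (hn : 1 < n) : Function.Injective (pw : ZMod n → Wt n) := fun i j h => by
  have hne : ∀ a : ZMod n, ({a} : Finset (ZMod n)) ≠ univ := fun a e => by
    have := congrArg Finset.card e
    rw [card_singleton, card_univ, ZMod.card] at this
    omega
  simpa using sum_pw_eq (hne i) (hne j) (by simpa using h)

/-- The coefficient of the `i`-th Frobenius power in an additive function. -/
noncomputable def coef (g : F → V) (i : ZMod n) : V := proj (pw i) fun s : Fˣ => g s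

/-- An additive function is a combination of Frobenius powers. -/
theorem expand (hn : 1 < n) {g : F → V} (hg : ∀ x y, g (x + y) = g x + g y) (x : F) :
    g x = ∑ i : ZMod n, x ^ (2 ^ i.val) • coef g i := by
  haveI := charTwo hF
  by_cases hx : x = 0
  · rw [hx, map_zero_of_additive g hg]
    refine (Finset.sum_eq_zero fun i _ => ?_).symm
    rw [zero_pow (by positivity), zero_smul]
  obtain ⟨u, rfl⟩ : ∃ u : Fˣ, (u : F) = x := ⟨Units.mk0 x hx, rfl⟩
  let T : Fˣ → F := fun s => ∑ i : ZMod n, ch (pw i) u * ch (-pw i) s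
  have hT : ∀ s, T s = 0 ∨ T s = 1 := fun s => by
    have h2 : T s ^ 2 = T s := by
      simp only [T]
      rw [CharTwo.sum_sq]
      refine Fintype.sum_equiv (Equiv.addRight 1) _ _ fun i => ?_
      rw [Equiv.coe_addRight, mul_pow, sq, sq, ← ch_add hF, ← ch_add hF, ← neg_add, pw_succ]
    have h3 : T s * (T s - 1) = 0 := by linear_combination h2
    exact (mul_eq_zero.1 h3).imp id sub_eq_zero.1
  have hs : ∑ s : Fˣ, T s * (s : F) = u := by
    simp only [T, Finset.sum_mul]
    rw [Finset.sum_comm]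
    have h1 : ∀ (i : ZMod n) (s : Fˣ), ch (pw i) u * ch (-pw i) s * (s : F) =
        ch (pw i) u * ch (pw 0 - pw i) s := fun i s => by
      rw [mul_assoc, sub_eq_neg_add, ch_add hF, ch_pw hF 0 s, ZMod.val_zero, pow_zero, pow_one]
    simp only [h1, ← Finset.mul_sum, sum_ch hF, sub_eq_zero, (pw_injective hn).eq_iff]
    simp [ch_pw hF]
  calc g u = g (∑ s : Fˣ, T s * (s : F)) := by rw [hs]
    _ = ∑ s : Fˣ, g (T s * (s : F)) := map_sum (AddMonoidHom.mk' g hg) _ _
    _ = ∑ s : Fˣ, T s • g s := Finset.sum_congr rfl fun s _ => by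
      rcases hT s with h | h <;> simp [h, map_zero_of_additive g hg]
    _ = _ := by
      simp only [T, coef, proj, Finset.sum_smul, Finset.smul_sum, smul_smul, ch_pw hF _ u]
      exact Finset.sum_comm

/-- A character that is additive is a Frobenius power. -/
theorem exists_pw_of_additive (hn : 1 < n) (w : Wt n) (g : F → F) (hgw : ∀ s : Fˣ, g s = ch w s)
    (hg : ∀ x y, g (x + y) = g x + g y) : ∃ i : ZMod n, w = pw i := by
  by_contra hc
  push Not at hc
  have h1 : proj (V := F) w (fun s : Fˣ => g s) = 0 := by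
    rw [proj_sum hF (univ : Finset (ZMod n)) w pw (coef g) _ fun s => by
      rw [expand hF hn hg]; exact Finset.sum_congr rfl fun i _ => by rw [ch_pw hF],
      Finset.filter_false_of_mem fun i _ e => hc i e.symm, Finset.sum_empty]
  haveI := charTwo hF
  have h2 := sum_ch hF (0 : Wt n)
  simp only [if_pos, ch_zero hF] at h2
  simp only [proj, hgw, smul_eq_mul, ch_neg_mul hF, h2] at h1
  exact one_ne_zero h1

end Char

end Cfsg.Lib.CIT.Rad2
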