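import Mathlib
import Cfsg.Agent.Lib.CIT.Rad2.Weights

/-!
Representations in characteristic two in which the elements of odd order act without fixed points, for a
group with a split BN pair of rank one over a field with `2 ^ n` elements.
-/

set_option autoImplicit false
set_option linter.unusedSectionVars false

universe u

namespace Cfsg.Lib.CIT.Rad2

open Finset

variable {G : Type*} [Group G] {F : Type*} [Field F]
variable {V : Type*} [AddCommGroup V] [Module F V]

/-- Nontrivial elements of odd order have no nonzero fixed vectors. -/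
def Fpf (ρ : G →* Module.End F V) : Prop :=
  ∀ g : G, g ≠ 1 → Odd (orderOf g) → ∀ v : V, ρ g v = v → v = 0

/-- A submodule stable under the representation. -/
def Inv (ρ : G →* Module.End F V) (M : Submodule F V) : Prop := ∀ g : G, ∀ v ∈ M, ρ g v ∈ M

/-- A nonzero representation without proper stable submodules. -/
def Irred (ρ : G →* Module.End F V) : Prop :=
  Nontrivial V ∧ ∀ M : Submodule F V, Inv ρ M → M = ⊥ ∨ M = ⊤

/-- The sum over the powers of an element of odd order vanishes. -/
theorem Fpf.sum_pow {ρ : G →* Module.End F V} (h : Fpf ρ) {g : G} (hg : g ≠ 1)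
    (ho : Odd (orderOf g)) (v : V) : ∑ i ∈ range (orderOf g), ρ (g ^ i) v = 0 := by
  refine h g hg ho _ ?_
  rw [map_sum]
  have e : ∀ i, ρ g (ρ (g ^ i) v) = ρ (g ^ (i + 1)) v := fun i => by
    rw [pow_succ', map_mul]; rfl
  simp only [e]
  have h1 := Finset.sum_range_succ' (fun i => ρ (g ^ i) v) (orderOf g)
  rw [Finset.sum_range_succ, pow_orderOf_eq_one, pow_zero] at h1
  exact (add_right_cancel h1).symm

theorem natCast_odd (R : Type*) [Ring R] [CharP R 2] {j : ℕ} (hj : Odd j) : (j : R) = 1 := by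
  obtain ⟨i, rfl⟩ := hj
  push_cast
  rw [CharTwo.two_eq_zero, zero_mul, zero_add]

theorem odd_smul_eq_self [CharP F 2] {j : ℕ} (hj : Odd j) (v : V) : j • v = v := by
  rw [← Nat.cast_smul_eq_nsmul F, natCast_odd F hj, one_smul]

/-- The converse of `Fpf.sum_pow`. -/
theorem fpf_of_sum [CharP F 2] {ρ : G →* Module.End F V}
    (h : ∀ g : G, g ≠ 1 → Odd (orderOf g) → ∀ v : V, ∑ i ∈ range (orderOf g), ρ (g ^ i) v = 0) :
    Fpf ρ := by
  intro g hg ho v hv
  have e : ∀ i, ρ (g ^ i) v = v := fun i => by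
    induction i with
    | zero => simp
    | succ i ih => rw [pow_succ', map_mul, Module.End.mul_apply, ih, hv]
  have h1 := h g hg ho v
  simp only [e, Finset.sum_const, Finset.card_range] at h1
  rwa [odd_smul_eq_self (F := F) ho] at h1

/-- The representation on a stable submodule. -/
def subRep (ρ : G →* Module.End F V) {M : Submodule F V} (hM : Inv ρ M) :
    G →* Module.End F M where
  toFun g := (ρ g).restrict (hM g)
  map_one' := LinearMap.ext fun v => Subtype.ext (by simp)
  map_mul' g h := LinearMap.ext fun v => Subtype.ext (by simp [LinearMap.restrict_apply])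

theorem coe_subRep (ρ : G →* Module.End F V) {M : Submodule F V} (hM : Inv ρ M) (g : G) (v : M) :
    ((subRep ρ hM g v : M) : V) = ρ g v := rfl

/-- The representation on a quotient by a stable submodule. -/
def quotRep (ρ : G →* Module.End F V) {M : Submodule F V} (hM : Inv ρ M) :
    G →* Module.End F (V ⧸ M) where
  toFun g := M.mapQ M (ρ g) fun v hv => hM g v hv
  map_one' := Submodule.linearMap_qext _ (LinearMap.ext fun v => by simp)
  map_mul' g h := Submodule.linearMap_qext _ (LinearMap.ext fun v => by simp)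

theorem quotRep_mk (ρ : G →* Module.End F V) {M : Submodule F V} (hM : Inv ρ M) (g : G) (v : V) :
    quotRep ρ hM g (Submodule.Quotient.mk v) = Submodule.Quotient.mk (ρ g v) := rfl

theorem Fpf.sub {ρ : G →* Module.End F V} (h : Fpf ρ) {M : Submodule F V} (hM : Inv ρ M) :
    Fpf (subRep ρ hM) := fun g hg ho v hv => Subtype.ext (h g hg ho v (congrArg Subtype.val hv))

theorem Fpf.quot [CharP F 2] {ρ : G →* Module.End F V} (h : Fpf ρ) {M : Submodule F V}
    (hM : Inv ρ M) : Fpf (quotRep ρ hM) := by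
  refine fpf_of_sum fun g hg ho w => ?_
  obtain ⟨v, rfl⟩ := Submodule.Quotient.mk_surjective M w
  simp only [quotRep_mk]
  show ∑ i ∈ range (orderOf g), M.mkQ (ρ (g ^ i) v) = 0
  rw [← map_sum M.mkQ, h.sum_pow hg ho, map_zero]

/-- The stable submodule generated by a vector. -/
def orbSpan (ρ : G →* Module.End F V) (a : V) : Submodule F V :=
  Submodule.span F (Set.range fun g : G => ρ g a)

theorem mem_orbSpan (ρ : G →* Module.End F V) (a : V) : a ∈ orbSpan ρ a :=
  Submodule.subset_span ⟨1, by simp⟩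

theorem orbSpan_le {ρ : G →* Module.End F V} {M : Submodule F V} (hM : Inv ρ M) {a : V} (ha : a ∈ M) :
    orbSpan ρ a ≤ M := Submodule.span_le.2 (by rintro _ ⟨g, rfl⟩; exact hM g a ha)

theorem inv_orbSpan (ρ : G →* Module.End F V) (a : V) : Inv ρ (orbSpan ρ a) := fun g v hv => by
  have h : (orbSpan ρ a).map (ρ g) ≤ orbSpan ρ a := by
    rw [orbSpan, Submodule.map_span, Submodule.span_le]
    rintro _ ⟨_, ⟨h, rfl⟩, rfl⟩
    exact Submodule.subset_span ⟨g * h, by simp⟩
  exact h ⟨v, hv, rfl⟩

/-- The data of a split BN pair of rank one over `F`. -/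
structure Frame (G : Type*) [Group G] (F : Type*) [Field F] [Fintype F] [DecidableEq F] (n : ℕ) where
  /-- The centre of the root group. -/
  z : F → G
  /-- The torus. -/
  k : Fˣ →* G
  /-- The Weyl involution. -/
  t : G
  /-- The root group. -/
  T : Subgroup G
  /-- The weight of the centre of the root group. -/
  δ : Wt n
  hn : 1 < n
  card : Fintype.card F = 2 ^ n
  isUnit_δ : IsUnit δ
  z_add : ∀ b c, z (b + c) = z b * z c
  z_mem : ∀ b, z b ∈ T
  z_comm : ∀ b, ∀ x ∈ T, z b * x = x * z b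
  k_z : ∀ (s : Fˣ) (b : F), k s * z b = z (ch δ s * b) * k s
  k_T : ∀ (s : Fˣ), ∀ x ∈ T, k s * x * (k s)⁻¹ ∈ T
  k_injective : Function.Injective k
  two_group : IsPGroup 2 T
  t_mul : t * t = 1
  t_k : ∀ s : Fˣ, t * k s = k s⁻¹ * t
  odd_pair : z 1 * (t * z 1 * t) ≠ 1 ∧ Odd (orderOf (z 1 * (t * z 1 * t)))
  bruhat : ∀ g : G, (∃ x ∈ T, ∃ s, g = x * k s) ∨ ∃ x ∈ T, ∃ s, ∃ y ∈ T, g = x * t * k s * y

namespace Frame

variable [Fintype F] [DecidableEq F] {n : ℕ} (D : Frame G F n)

include D in
theorem neZero : NeZero n := ⟨by have := D.hn; omega⟩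

include D in
theorem charP : CharP F 2 := by
  haveI := D.neZero
  exact charTwo D.card

theorem z_zero : D.z 0 = 1 := by
  have h := D.z_add 0 0
  rw [add_zero] at h
  exact left_eq_mul.1 h

/-- A vector fixed by the root group on which the torus acts by a character. -/
structure Eigen (ρ : G →* Module.End F V) (a : V) (lam : Wt n) : Prop where
  ne : a ≠ 0
  fix : ∀ x ∈ D.T, ρ x a = a
  wt : ∀ s : Fˣ, ρ (D.k s) a = ch lam s • a

variable {D} {ρ : G →* Module.End F V}

theorem z_fix {a : V} {lam : Wt n} (ha : D.Eigen ρ a lam) (b : F) : ρ (D.z b) a = a :=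
  ha.fix _ (D.z_mem b)

theorem k_t_apply {a : V} {lam : Wt n} (ha : D.Eigen ρ a lam) (s : Fˣ) :
    ρ (D.k s) (ρ D.t a) = ch (-lam) s • ρ D.t a := by
  haveI := D.neZero
  have e : D.k s * D.t = D.t * D.k s⁻¹ := by rw [D.t_k, inv_inv]
  rw [← Module.End.mul_apply, ← map_mul, e, map_mul, Module.End.mul_apply, ha.wt, map_smul]
  congr 1
  have h1 := ch_neg_mul D.card lam s
  have h2 : ch lam s⁻¹ * ch lam s = 1 := by
    rw [ch, ch, ← mul_pow, Units.inv_mul, one_pow]
  exact mul_right_cancel₀ (right_ne_zero_of_mul_eq_one h1) (h2.trans h1.symm)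

theorem t_t_apply (D : Frame G F n) (ρ : G →* Module.End F V) (v : V) : ρ D.t (ρ D.t v) = v := by
  rw [← Module.End.mul_apply, ← map_mul, D.t_mul, map_one, Module.End.one_apply]

/-- The weight of a fixed eigenvector is not zero. -/
theorem weight_ne_zero (hρ : Fpf ρ) {a : V} {lam : Wt n} (ha : D.Eigen ρ a lam) : lam ≠ 0 := by
  haveI := D.neZero
  intro h
  obtain ⟨s, hs⟩ : ∃ s : Fˣ, s ≠ 1 := by
    by_contra hc; push Not at hc
    haveI : Subsingleton Fˣ := ⟨fun a b => (hc a).trans (hc b).symm⟩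
    have h1 : Fintype.card Fˣ ≤ 1 := Fintype.card_le_one_iff_subsingleton.2 inferInstance
    rw [card_units_eq D.card] at h1
    have : 2 ^ 2 ≤ 2 ^ n := Nat.pow_le_pow_right two_pos D.hn
    omega
  refine ha.ne (hρ (D.k s) (fun e => hs (D.k_injective (e.trans (map_one D.k).symm))) ?_ a ?_)
  · refine Odd.of_dvd_nat ?_ ((orderOf_map_dvd D.k s).trans orderOf_dvd_card)
    rw [card_units_eq D.card]
    exact Nat.Even.sub_odd Nat.one_le_two_pow (even_two.pow_of_ne_zero (NeZero.ne n)) odd_one
  · rw [ha.wt, h, ch_zero D.card, one_smul]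

/-- A nonzero finite representation has an eigenvector fixed by the root group. -/
theorem exists_eigen (D : Frame G F n) (ρ : G →* Module.End F V) [Finite V] [Nontrivial V] :
    ∃ a lam, D.Eigen ρ a lam := by
  classical
  haveI := D.neZero
  haveI := neZero_mod (n := n)
  haveI : Fact (Nat.Prime 2) := ⟨Nat.prime_two⟩
  letI : MulAction D.T V :=
    { smul := fun x v => ρ (x : G) v
      one_smul := fun v => by show ρ ((1 : D.T) : G) v = v; simp
      mul_smul := fun x y v => by show ρ ((x * y : D.T) : G) v = ρ (x : G) (ρ (y : G) v); simp }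
  have h0 : (0 : V) ∈ MulAction.fixedPoints D.T V := fun x => map_zero (ρ (x : G))
  have hc : 2 ∣ Nat.card V := by
    obtain ⟨v, hv⟩ := exists_ne (0 : V)
    haveI := D.charP
    have h2 : (2 : ℕ) • v = 0 := by
      rw [← Nat.cast_smul_eq_nsmul F, CharP.cast_eq_zero, zero_smul]
    exact addOrderOf_eq_prime h2 hv ▸ addOrderOf_dvd_natCard v
  obtain ⟨v, hv, hne⟩ := D.two_group.exists_fixed_point_of_prime_dvd_card_of_fixed_point V hc h0
  let g : Fˣ → V := fun s => ρ (D.k s) v
  have hfix : ∀ s, ∀ x ∈ D.T, ρ x (g s) = g s := fun s x hx => by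
    have hx' : (D.k s)⁻¹ * x * D.k s ∈ D.T := by
      simpa using D.k_T s⁻¹ x hx
    have e : x * D.k s = D.k s * ((D.k s)⁻¹ * x * D.k s) := by group
    show ρ x (ρ (D.k s) v) = ρ (D.k s) v
    rw [← Module.End.mul_apply, ← map_mul, e, map_mul, Module.End.mul_apply]
    exact congrArg _ (hv ⟨_, hx'⟩)
  have hsum : ∑ w : Wt n, proj w g = v := by
    simp only [proj]
    rw [Finset.sum_comm]
    have h1 : ∀ s : Fˣ, ∑ w : Wt n, ch (-w) s = if s = 1 then (1 : F) else 0 := fun s => by
      haveI := D.charP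
      rw [Fintype.sum_equiv (Equiv.neg (Wt n)) (fun w => ch (-w) s) (fun w => ch w s) fun _ => rfl]
      have h2 : ∀ w : Wt n, ch w s = (s : F) ^ w.val := fun _ => rfl
      simp only [h2]
      rw [Finset.sum_nbij' (fun w : Wt n => w.val) (fun j : ℕ => (j : Wt n))
        (t := range (2 ^ n - 1)) (g := fun j => (s : F) ^ j)
        (fun w _ => mem_range.2 (ZMod.val_lt w)) (fun _ _ => mem_univ _)
        (fun w _ => ZMod.natCast_zmod_val w) (fun j hj => ZMod.val_natCast_of_lt (mem_range.1 hj))
        (fun _ _ => rfl)]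
      by_cases hs : s = 1
      · rw [if_pos hs, hs]
        simp only [Units.val_one, one_pow, Finset.sum_const, card_range, nsmul_eq_mul, mul_one]
        exact natCast_odd F (Nat.Even.sub_odd Nat.one_le_two_pow
          (even_two.pow_of_ne_zero (NeZero.ne n)) odd_one)
      · rw [if_neg hs]
        have h4 : (s : F) ^ (2 ^ n - 1) = 1 := by
          rw [← card_units_eq D.card, ← Units.val_pow_eq_pow_val, pow_card_eq_one, Units.val_one]
        have h5 := geom_sum_mul (s : F) (2 ^ n - 1)
        rw [h4, sub_self] at h5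
        exact (mul_eq_zero.1 h5).resolve_right fun e => hs (Units.ext (sub_eq_zero.1 e))
    simp only [← Finset.sum_smul, h1, ite_smul, one_smul, zero_smul, Finset.sum_ite_eq', mem_univ,
      if_true, g, map_one, Module.End.one_apply]
  obtain ⟨w, hw⟩ : ∃ w : Wt n, proj w g ≠ 0 := by
    by_contra hc; push Not at hc
    simp only [hc, Finset.sum_const_zero] at hsum
    exact hne hsum
  refine ⟨proj w g, w, hw, fun x hx => ?_, fun s => ?_⟩
  · simp only [proj, map_sum, map_smul, hfix _ x hx]
  · simp only [proj, map_sum, map_smul, Finset.smul_sum, smul_smul]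
    refine Fintype.sum_equiv (Equiv.mulLeft s) _ _ fun r => ?_
    simp only [Equiv.coe_mulLeft, g, map_mul, Module.End.mul_apply]
    congr 1
    have h5 : ch (-w) (s * r) = ch (-w) s * ch (-w) r := by
      simp only [ch, Units.val_mul, mul_pow]
    rw [h5, ← mul_assoc, mul_comm (ch w s), ch_neg_mul D.card, one_mul]

/-- In an irreducible representation the root group translates of the opposite vector span. -/
theorem span_eq_top (hI : Irred ρ) {a : V} {lam : Wt n} (ha : D.Eigen ρ a lam)
    (hmem : a ∈ Submodule.span F (Set.range fun x : D.T => ρ (x : G) (ρ D.t a))) :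
    Submodule.span F (Set.range fun x : D.T => ρ (x : G) (ρ D.t a)) = ⊤ := by
  set M := Submodule.span F (Set.range fun x : D.T => ρ (x : G) (ρ D.t a)) with hMdef
  have hk : ∀ g : G, ρ g a ∈ M := fun g => by
    rcases D.bruhat g with ⟨x, hx, s, rfl⟩ | ⟨x, hx, s, y, hy, rfl⟩
    · rw [map_mul, Module.End.mul_apply, ha.wt, map_smul, ha.fix x hx]
      exact M.smul_mem _ hmem
    · rw [map_mul, map_mul, map_mul]
      simp only [Module.End.mul_apply, ha.fix y hy, ha.wt, map_smul]
      exact M.smul_mem _ (Submodule.subset_span ⟨⟨x, hx⟩, rfl⟩)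
  have h1 : orbSpan ρ a ≤ M := Submodule.span_le.2 (by rintro _ ⟨g, rfl⟩; exact hk g)
  rcases hI.2 _ (inv_orbSpan ρ a) with h | h
  · exact absurd ((Submodule.eq_bot_iff _).1 h a (mem_orbSpan ρ a)) ha.ne
  · exact top_unique (h ▸ h1)

/-- What is needed of an irreducible representation. -/
structure GoodAt (D : Frame G F n) (ρ : G →* Module.End F V) (a : V) (lam : Wt n) (r : ZMod n) :
    Prop where
  weight : 2 * lam = D.δ * pw r
  span : Submodule.span F (Set.range fun x : D.T => ρ (x : G) (ρ D.t a)) = ⊤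
  step : ∀ b : F, ∀ x ∈ D.T,
    ρ x (ρ (D.z b) (ρ D.t a) - ρ D.t a) - (ρ (D.z b) (ρ D.t a) - ρ D.t a) ∈ F ∙ a
  additive : ∀ b c : F, ρ (D.z (b + c)) (ρ D.t a) - ρ D.t a =
    (ρ (D.z b) (ρ D.t a) - ρ D.t a) + (ρ (D.z c) (ρ D.t a) - ρ D.t a)
  lead : coef (fun b => ρ (D.z b) (ρ D.t a) - ρ D.t a) r ≠ 0

/-- All irreducible fixed point free representations are as wanted. -/
def IsGood (D : Frame G F n) : Prop :=
  ∀ (V : Type u) [AddCommGroup V] [Module F V] [Finite V] (ρ : G →* Module.End F V),
    Fpf ρ → Irred ρ → ∀ (a : V) (lam : Wt n), D.Eigen ρ a lam → ∃ r, D.GoodAt ρ a lam r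

end Frame

/-- A nonzero finite representation has an irreducible stable submodule. -/
theorem exists_irred [Finite V] [Nontrivial V] (ρ : G →* Module.End F V) :
    ∃ (M : Submodule F V) (hM : Inv ρ M), Irred (subRep ρ hM) := by
  classical
  haveI : Finite (Submodule F V) := Finite.of_injective _ SetLike.coe_injective
  have hne : {M : Submodule F V | Inv ρ M ∧ M ≠ ⊥}.Nonempty :=
    ⟨⊤, fun _ _ _ => Submodule.mem_top, top_ne_bot⟩
  obtain ⟨M, ⟨hM, hM0⟩, hmin⟩ := Set.Finite.exists_minimal (Set.toFinite _) hne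
  refine ⟨M, hM, Submodule.nontrivial_iff_ne_bot.2 hM0, fun N hN => ?_⟩
  by_contra hc
  push Not at hc
  have h1 : Inv ρ (N.map M.subtype) := fun g v hv => by
    obtain ⟨w, hw, rfl⟩ := hv
    exact ⟨subRep ρ hM g w, hN g w hw, rfl⟩
  have h2 : N.map M.subtype ≠ ⊥ := fun e => hc.1
    (Submodule.map_injective_of_injective M.subtype_injective (e.trans (Submodule.map_bot _).symm))
  refine hc.2 (Submodule.map_injective_of_injective M.subtype_injective ?_)
  rw [Submodule.map_subtype_top]
  exact le_antisymm (Submodule.map_subtype_le M N) (hmin ⟨h1, h2⟩ (Submodule.map_subtype_le M N))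

namespace Frame

variable [Fintype F] [DecidableEq F] {n : ℕ} {D : Frame G F n}

/-- The weight of a fixed eigenvector in an arbitrary representation. -/
theorem weight_of_fixed (hD : IsGood.{u} D) {W : Type u} [AddCommGroup W] [Module F W] [Finite W]
    {ρ : G →* Module.End F W} (hρ : Fpf ρ) {a : W} {lam : Wt n} (ha : D.Eigen ρ a lam) :
    ∃ r, 2 * lam = D.δ * pw r := by
  classical
  haveI := D.charP
  haveI : Finite (Submodule F W) := Finite.of_injective _ SetLike.coe_injective
  have hne : {M : Submodule F W | Inv ρ M ∧ a ∉ M}.Nonempty :=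
    ⟨⊥, fun g v hv => by rw [Submodule.mem_bot] at hv ⊢; rw [hv, map_zero], by simpa using ha.ne⟩
  obtain ⟨M, ⟨hM, haM⟩, hmax⟩ := Set.Finite.exists_maximal (Set.toFinite _) hne
  let σ := quotRep ρ hM
  let b : W ⧸ M := Submodule.Quotient.mk a
  have hN := inv_orbSpan σ b
  have hb : b ∈ orbSpan σ b := mem_orbSpan σ b
  have hb0 : b ≠ 0 := fun e => haM ((Submodule.Quotient.mk_eq_zero M).1 e)
  have hI : Irred (subRep σ hN) := by
    refine ⟨⟨⟨⟨b, hb⟩, 0, fun e => hb0 (congrArg Subtype.val e)⟩⟩, fun L hL => ?_⟩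
    by_cases hL0 : L = ⊥
    · exact Or.inl hL0
    refine Or.inr (top_unique ?_)
    let P : Submodule F W := (L.map (orbSpan σ b).subtype).comap M.mkQ
    have hP : Inv ρ P := fun g v hv => by
      obtain ⟨w, hw, e⟩ := hv
      exact ⟨subRep σ hN g w, hL g w hw, congrArg (σ g) e⟩
    have hMP : M ≤ P := fun v hv => by
      show M.mkQ v ∈ L.map (orbSpan σ b).subtype
      rw [Submodule.mkQ_apply, (Submodule.Quotient.mk_eq_zero M).2 hv]
      exact Submodule.zero_mem _
    have haP : a ∈ P := by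
      by_contra hc
      obtain ⟨w, hw, hw0⟩ := Submodule.exists_mem_ne_zero_of_ne_bot hL0
      obtain ⟨v, hv⟩ := Submodule.Quotient.mk_surjective M (w : W ⧸ M)
      have hvP : v ∈ P := ⟨w, hw, hv.symm⟩
      exact hw0 (Subtype.ext (hv.symm.trans ((Submodule.Quotient.mk_eq_zero M).2
        (hmax ⟨hP, hc⟩ hMP hvP))))
    obtain ⟨w, hw, e⟩ := haP
    have hle : orbSpan σ b ≤ L.map (orbSpan σ b).subtype :=
      orbSpan_le (fun g v hv => by
        obtain ⟨x, hx, rfl⟩ := hv
        exact ⟨subRep σ hN g x, hL g x hx, rfl⟩) ⟨w, hw, e⟩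
    intro x _
    obtain ⟨y, hy, e'⟩ := hle x.2
    exact (Subtype.ext e' : y = x) ▸ hy
  haveI : Finite (W ⧸ M) := Finite.of_surjective _ (Submodule.Quotient.mk_surjective M)
  haveI : Finite (orbSpan σ b) := Subtype.finite
  obtain ⟨r, hr⟩ := hD (orbSpan σ b) (subRep σ hN) ((hρ.quot hM).sub hN) hI ⟨b, hb⟩ lam
    { ne := fun e => hb0 (congrArg Subtype.val e)
      fix := fun x hx => Subtype.ext (by rw [coe_subRep, quotRep_mk, ha.fix x hx])
      wt := fun s => Subtype.ext (by
        rw [coe_subRep, quotRep_mk, ha.wt, Submodule.Quotient.mk_smul]; rfl) }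
  exact ⟨r, hr.weight⟩

end Frame

end Cfsg.Lib.CIT.Rad2
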