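import Mathlib
import Cfsg.Agent.Lib.CIT.Rad2.Base

/-!
An equivariant bilinear map between representations without fixed points of odd elements vanishes.
-/

set_option autoImplicit false
set_option linter.unusedSectionVars false

universe u

namespace Cfsg.Lib.CIT.Rad2

open Finset

variable {G : Type*} [Group G] {F : Type*} [Field F] [Fintype F] [DecidableEq F] {n : ℕ}

theorem pw_pair_eq [NeZero n] (hn : 1 < n) {a b c d : ZMod n} (hab : a ≠ b)
    (h : pw a + pw b = pw c + pw d) : (c = a ∧ d = b) ∨ (c = b ∧ d = a) := by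
  classical
  haveI : Fact (1 < 2 ^ n - 1) := ⟨by
    have : 2 ^ 2 ≤ 2 ^ n := Nat.pow_le_pow_right two_pos hn
    omega⟩
  have hsum : ∑ i ∈ ({a, b} : Finset (ZMod n)), pw i = pw a + pw b := Finset.sum_pair hab
  have hone : ∀ e : ZMod n, ({e} : Finset (ZMod n)) ≠ univ := fun e he => by
    have := congrArg Finset.card he
    rw [card_singleton, card_univ, ZMod.card] at this
    omega
  have huniv : ∑ i : ZMod n, pw i = (0 : Wt n) := by
    have h1 : ∑ i : ZMod n, pw (i + 1) = ∑ i : ZMod n, (pw i : Wt n) :=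
      Fintype.sum_equiv (Equiv.addRight (1 : ZMod n)) _ _ fun i => rfl
    simp only [← pw_succ, Finset.sum_add_distrib] at h1
    exact add_eq_left.1 h1
  by_cases hcd : c = d
  · exfalso
    subst hcd
    rw [pw_succ] at h
    by_cases hu : ({a, b} : Finset (ZMod n)) = univ
    · rw [← hsum, hu, huniv] at h
      exact (isUnit_pw (c + 1)).ne_zero h.symm
    · have := sum_pw_eq hu (hone (c + 1)) (by rw [hsum, Finset.sum_singleton, h])
      have h2 := congrArg Finset.card this
      rw [Finset.card_pair hab, card_singleton] at h2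
      omega
  have hset : ({a, b} : Finset (ZMod n)) = {c, d} := by
    by_cases hu : ({a, b} : Finset (ZMod n)) = univ
    · have hcard := congrArg Finset.card hu
      rw [Finset.card_pair hab] at hcard
      rw [hu]
      exact (Finset.eq_univ_of_card _ (by rw [Finset.card_pair hcd, hcard, card_univ])).symm
    by_cases hu' : ({c, d} : Finset (ZMod n)) = univ
    · have hcard := congrArg Finset.card hu'
      rw [Finset.card_pair hcd] at hcard
      exact absurd (Finset.eq_univ_of_card _ (by rw [Finset.card_pair hab, hcard, card_univ])) hu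
    exact sum_pw_eq hu hu' (by rw [hsum, Finset.sum_pair hcd, h])
  have hc : c = a ∨ c = b := by
    have : c ∈ ({a, b} : Finset (ZMod n)) := by rw [hset]; simp
    simpa using this
  have hd : d = a ∨ d = b := by
    have : d ∈ ({a, b} : Finset (ZMod n)) := by rw [hset]; simp
    simpa using this
  rcases hc with rfl | rfl <;> rcases hd with rfl | rfl
  · exact absurd rfl hcd
  · exact Or.inl ⟨rfl, rfl⟩
  · exact Or.inr ⟨rfl, rfl⟩
  · exact absurd rfl hcd

variable {A B C : Type u} [AddCommGroup A] [Module F A] [AddCommGroup B] [Module F B]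
  [AddCommGroup C] [Module F C] {ρA : G →* Module.End F A} {ρB : G →* Module.End F B}
  {ρC : G →* Module.End F C}

/-- A bilinear map commuting with the representations. -/
def Equivariant (ρA : G →* Module.End F A) (ρB : G →* Module.End F B) (ρC : G →* Module.End F C)
    (ω : A →ₗ[F] B →ₗ[F] C) : Prop :=
  ∀ g x y, ω (ρA g x) (ρB g y) = ρC g (ω x y)

theorem Equivariant.flip {ω : A →ₗ[F] B →ₗ[F] C} (h : Equivariant ρA ρB ρC ω) :
    Equivariant ρB ρA ρC ω.flip := fun g x y => h g y x

variable (D : Frame G F n)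

/-- The value on a fixed vector and an opposite one is fixed by the centre of the root group. -/
theorem z_fix_delta (hD : Frame.IsGood.{u} D) [Finite C] (hρB : Fpf ρB) (hρC : Fpf ρC)
    {ω : A →ₗ[F] B →ₗ[F] C} (hω : Equivariant ρA ρB ρC ω) {x : A} {y : B} {lam mu : Wt n}
    {r s : ZMod n} (hx : D.Eigen ρA x lam) (hy : D.Eigen ρB y mu) (hr : 2 * lam = D.δ * pw r)
    (hs : D.GoodAt ρB y mu s) (hrs : r ≠ s) (hxy : ω x y = 0) (b : F) :
    ρC (D.z b) (ω x (ρB D.t y)) = ω x (ρB D.t y) := by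
  haveI := D.neZero
  let g : F → B := fun c => ρB (D.z c) (ρB D.t y) - ρB D.t y
  suffices h : ∀ i, ω x (coef g i) = 0 by
    rw [← hω, Frame.z_fix hx, ← sub_eq_zero, ← map_sub]
    show ω x (g b) = 0
    rw [expand D.card D.hn (g := g) hs.additive, map_sum]
    exact Finset.sum_eq_zero fun i _ => by rw [map_smul, h, smul_zero]
  intro i
  have hT : ∀ u ∈ D.T, ρC u (ω x (coef g i)) = ω x (coef g i) := by
    intro u hu
    have hb : ∀ c, ω x (ρB u (g c)) = ω x (g c) := fun c => by
      obtain ⟨e, he⟩ := Submodule.mem_span_singleton.1 (hs.step c u hu)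
      rw [← sub_eq_zero, ← map_sub]
      show ω x (ρB u (ρB (D.z c) (ρB D.t y) - ρB D.t y) - (ρB (D.z c) (ρB D.t y) - ρB D.t y)) = 0
      rw [← he, map_smul, hxy, smul_zero]
    rw [← hω, hx.fix u hu]
    simp only [coef, proj, map_sum, map_smul, hb]
  have hk : ∀ σ : Fˣ, ρB (D.k σ) (coef g i) = ch (D.δ * pw i - mu) σ • coef g i := by
    intro σ
    have hne : ch D.δ σ ≠ (0 : F) := pow_ne_zero _ σ.ne_zero
    obtain ⟨τ, hτ⟩ : ∃ τ : Fˣ, τ = Units.mk0 (ch D.δ σ) hne := ⟨_, rfl⟩
    simp only [coef, proj, map_sum, map_smul, Finset.smul_sum, smul_smul]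
    refine Fintype.sum_equiv (Equiv.mulLeft τ) _ _ fun c => ?_
    have hg : ρB (D.k σ) (g c) = ch (-mu) σ • g ((τ * c : Fˣ) : F) := by
      simp only [g, map_sub, smul_sub]
      rw [← Module.End.mul_apply, ← map_mul, D.k_z, map_mul, Module.End.mul_apply,
        Frame.k_t_apply hy, map_smul, hτ, Units.val_mul, Units.val_mk0]
    rw [hg, smul_smul, Equiv.coe_mulLeft]
    congr 1
    haveI := neZero_mod (n := n)
    have h1 : ch (-pw i) (τ * c) = ch (-pw i) τ * ch (-pw i) c := by
      simp only [ch, Units.val_mul, mul_pow]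
    have h2 : ch (-pw i) τ = ch (-(D.δ * pw i)) σ := by
      rw [← mul_neg]
      conv_rhs => rw [← ZMod.natCast_zmod_val (-pw i : Wt n), ch_mul_natCast D.card]
      rw [hτ]; rfl
    have h4 : ch (D.δ * pw i - mu) σ * ch (-(D.δ * pw i)) σ = ch (-mu) σ := by
      rw [← ch_add D.card, sub_add_eq_add_sub, add_neg_cancel, zero_sub]
    rw [h1, h2, ← mul_assoc, h4, mul_comm]
  by_contra hne
  have hkC : ∀ σ : Fˣ, ρC (D.k σ) (ω x (coef g i)) =
      ch (lam + (D.δ * pw i - mu)) σ • ω x (coef g i) := fun σ => by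
    rw [← hω, hx.wt, hk]
    simp only [map_smul, LinearMap.smul_apply, smul_smul]
    rw [ch_add D.card]
    congr 1
    ring
  obtain ⟨e, he⟩ := Frame.weight_of_fixed hD hρC (a := ω x (coef g i)) ⟨hne, hT, hkC⟩
  have he' : pw r + pw (i + 1) = pw e + pw s := by
    refine D.isUnit_δ.mul_left_cancel ?_
    rw [mul_add, mul_add, ← hr, ← hs.weight, ← he, ← pw_succ]
    ring
  by_cases hri : r = i + 1
  · subst hri
    rw [pw_succ (i + 1)] at he'
    by_cases hes : e = s
    · subst hes
      rw [pw_succ] at he'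
      exact hrs (add_right_cancel (pw_injective D.hn he'))
    · rcases pw_pair_eq D.hn hes (show pw e + pw s = pw (i + 1) + pw (i + 1) by rw [← he', pw_succ])
        with ⟨h1, h2⟩ | ⟨h1, h2⟩
      · exact hes (h1.symm.trans h2)
      · exact hes (h2.symm.trans h1)
  rcases pw_pair_eq D.hn hri he' with ⟨-, h2⟩ | ⟨-, h2⟩
  · have h0 : D.δ * pw i - mu = 0 := by
      have h2u : IsUnit (2 : Wt n) := pw_one (n := n) ▸ isUnit_pw 1
      refine sub_eq_zero.2 (h2u.mul_left_cancel ?_)
      rw [hs.weight, h2, ← pw_succ]; ring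
    obtain ⟨σ, hσ⟩ : ∃ σ : Fˣ, σ ≠ 1 := by
      by_contra hc; push Not at hc
      haveI : Subsingleton Fˣ := ⟨fun a b => (hc a).trans (hc b).symm⟩
      have h1 : Fintype.card Fˣ ≤ 1 := Fintype.card_le_one_iff_subsingleton.2 inferInstance
      rw [card_units_eq D.card] at h1
      have : 2 ^ 2 ≤ 2 ^ n := Nat.pow_le_pow_right two_pos D.hn
      omega
    refine hne ?_
    rw [hρB (D.k σ) (fun e => hσ (D.k_injective (e.trans (map_one D.k).symm))) ?_ (coef g i)
      (by rw [hk, h0, ch_zero D.card, one_smul]), map_zero]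
    refine Odd.of_dvd_nat ?_ ((orderOf_map_dvd D.k σ).trans orderOf_dvd_card)
    rw [card_units_eq D.card]
    exact Nat.Even.sub_odd Nat.one_le_two_pow (even_two.pow_of_ne_zero (NeZero.ne n)) odd_one
  · exact hrs h2.symm

/-- The irreducible case. -/
theorem eq_zero_of_irred (hD : Frame.IsGood.{u} D) [Finite A] [Finite B] [Finite C] (hρA : Fpf ρA)
    (hρB : Fpf ρB) (hρC : Fpf ρC) (hA : Irred ρA) (hB : Irred ρB)
    {ω : A →ₗ[F] B →ₗ[F] C} (hω : Equivariant ρA ρB ρC ω) : ω = 0 := by
  haveI := D.neZero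
  haveI := hA.1
  haveI := hB.1
  obtain ⟨x, lam, hx⟩ := Frame.exists_eigen D ρA
  obtain ⟨y, mu, hy⟩ := Frame.exists_eigen D ρB
  obtain ⟨r, hr⟩ := hD A ρA hρA hA x lam hx
  obtain ⟨s, hs⟩ := hD B ρB hρB hB y mu hy
  have hΔ : ω x (ρB D.t y) = 0 := by
    by_cases hrs : r = s
    · obtain ⟨σ, hσ⟩ : ∃ σ : Fˣ, σ ≠ 1 := by
        by_contra hc; push Not at hc
        haveI : Subsingleton Fˣ := ⟨fun a b => (hc a).trans (hc b).symm⟩
        have h1 : Fintype.card Fˣ ≤ 1 := Fintype.card_le_one_iff_subsingleton.2 inferInstance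
        rw [card_units_eq D.card] at h1
        have : 2 ^ 2 ≤ 2 ^ n := Nat.pow_le_pow_right two_pos D.hn
        omega
      have hlm : lam = mu := by
        have h2u : IsUnit (2 : Wt n) := pw_one (n := n) ▸ isUnit_pw 1
        exact h2u.mul_left_cancel (by rw [hr.weight, hs.weight, hrs])
      refine hρC (D.k σ) (fun e => hσ (D.k_injective (e.trans (map_one D.k).symm))) ?_ _ ?_
      · refine Odd.of_dvd_nat ?_ ((orderOf_map_dvd D.k σ).trans orderOf_dvd_card)
        rw [card_units_eq D.card]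
        exact Nat.Even.sub_odd Nat.one_le_two_pow (even_two.pow_of_ne_zero (NeZero.ne n)) odd_one
      · rw [← hω, hx.wt, Frame.k_t_apply hy, hlm]
        simp only [map_smul, LinearMap.smul_apply, smul_smul, ch_neg_mul D.card, one_smul]
    · have hxy : ω x y = 0 := by
        by_contra hne
        obtain ⟨e, he⟩ := Frame.weight_of_fixed hD hρC (a := ω x y) (lam := lam + mu)
          ⟨hne, fun u hu => by rw [← hω, hx.fix u hu, hy.fix u hu], fun σ => by
            rw [← hω, hx.wt, hy.wt]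
            simp only [map_smul, LinearMap.smul_apply, smul_smul]
            rw [ch_add D.card, mul_comm]⟩
        have he' : pw r + pw s = pw (e - 1) + pw (e - 1) := by
          rw [pw_succ, sub_add_cancel]
          refine D.isUnit_δ.mul_left_cancel ?_
          rw [mul_add, ← hr.weight, ← hs.weight, ← he, mul_add]
        rcases pw_pair_eq D.hn hrs he' with ⟨h1, h2⟩ | ⟨h1, h2⟩
        · exact hrs (h1.symm.trans h2)
        · exact hrs (h2.symm.trans h1)
      have e1 := z_fix_delta D hD hρB hρC hω hx hy hr.weight hs hrs hxy 1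
      have e2 := z_fix_delta D hD hρA hρC hω.flip hy hx hs.weight hr (Ne.symm hrs) hxy 1
      simp only [LinearMap.flip_apply] at e2
      refine hρC _ D.odd_pair.1 D.odd_pair.2 _ ?_
      have ht : ρC D.t (ω x (ρB D.t y)) = ω (ρA D.t x) y := by
        rw [← hω, Frame.t_t_apply]
      have ht' : ρC D.t (ω (ρA D.t x) y) = ω x (ρB D.t y) := by
        rw [← hω, Frame.t_t_apply]
      simp only [map_mul, Module.End.mul_apply, ht, e2, ht', e1]
  have hx0 : ω x = 0 := by
    refine LinearMap.ext fun v => ?_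
    have hv : v ∈ LinearMap.ker (ω x) := by
      have h : (⊤ : Submodule F B) ≤ LinearMap.ker (ω x) := by
        rw [← hs.span, Submodule.span_le]
        rintro _ ⟨u, rfl⟩
        show ω x (ρB (u : G) (ρB D.t y)) = 0
        rw [← hx.fix u u.2, hω, hΔ, map_zero]
      exact h Submodule.mem_top
    exact hv
  have hker : Inv ρA (LinearMap.ker ω) := fun g v hv => by
    rw [LinearMap.mem_ker] at hv ⊢
    refine LinearMap.ext fun w => ?_
    have h1 : ρB g (ρB g⁻¹ w) = w := by
      rw [← Module.End.mul_apply, ← map_mul, mul_inv_cancel, map_one, Module.End.one_apply]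
    rw [← h1, hω, hv, LinearMap.zero_apply, map_zero]
    rfl
  rcases hA.2 _ hker with h | h
  · exact absurd (by rw [← Submodule.mem_bot (R := F), ← h]; exact hx0) hx.ne
  · exact LinearMap.ker_eq_top.1 h

theorem eq_zero_of_irred_left (hD : Frame.IsGood.{u} D) [Finite A] [Finite B] [Finite C]
    (hρA : Fpf ρA) (hρB : Fpf ρB) (hρC : Fpf ρC) (hA : Irred ρA)
    {ω : A →ₗ[F] B →ₗ[F] C} (hω : Equivariant ρA ρB ρC ω) : ω = 0 := by
  haveI := D.neZero
  haveI := D.charP
  by_contra hne
  let K := LinearMap.ker ω.flip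
  have hK : Inv ρB K := fun g v hv => by
    rw [LinearMap.mem_ker] at hv ⊢
    refine LinearMap.ext fun w => ?_
    have h1 : ρA g (ρA g⁻¹ w) = w := by
      rw [← Module.End.mul_apply, ← map_mul, mul_inv_cancel, map_one, Module.End.one_apply]
    have h2 := LinearMap.congr_fun hv (ρA g⁻¹ w)
    rw [LinearMap.flip_apply] at h2
    rw [LinearMap.flip_apply, ← h1, hω, h2, LinearMap.zero_apply, LinearMap.zero_apply, map_zero]
  have hKt : K ≠ ⊤ := fun e => hne (LinearMap.ext₂ fun x y => by
    have := LinearMap.congr_fun (LinearMap.ker_eq_top.1 e) y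
    exact LinearMap.congr_fun this x)
  haveI : Nontrivial (B ⧸ K) := Submodule.Quotient.nontrivial_iff.2 hKt
  haveI : Finite (B ⧸ K) := Finite.of_surjective _ (Submodule.Quotient.mk_surjective K)
  obtain ⟨N, hN, hI⟩ := exists_irred (quotRep ρB hK)
  haveI := hI.1
  let ω1 : (B ⧸ K) →ₗ[F] A →ₗ[F] C := K.liftQ ω.flip le_rfl
  let ω2 : A →ₗ[F] N →ₗ[F] C := (ω1.comp N.subtype).flip
  have hω2 : Equivariant ρA (subRep (quotRep ρB hK) hN) ρC ω2 := by
    intro g x w
    obtain ⟨v, hv⟩ := Submodule.Quotient.mk_surjective K (w : B ⧸ K)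
    show ω1 ((subRep (quotRep ρB hK) hN g w : N) : B ⧸ K) (ρA g x) = ρC g (ω1 (w : B ⧸ K) x)
    rw [coe_subRep, ← hv, quotRep_mk]
    exact hω g x v
  have h0 := eq_zero_of_irred D hD hρA ((hρB.quot hK).sub hN) hρC hA hI hω2
  obtain ⟨w, hw⟩ := exists_ne (0 : N)
  refine hw (Subtype.ext ?_)
  obtain ⟨v, hv⟩ := Submodule.Quotient.mk_surjective K (w : B ⧸ K)
  rw [← hv, Submodule.coe_zero, Submodule.Quotient.mk_eq_zero, LinearMap.mem_ker]
  refine LinearMap.ext fun x => ?_
  have h1 : ω1 (w : B ⧸ K) x = 0 := LinearMap.congr_fun (LinearMap.congr_fun h0 x) w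
  rw [← hv] at h1
  exact h1

/-- An equivariant bilinear map vanishes. -/
theorem eq_zero_of_fpf (hD : Frame.IsGood.{u} D) [Finite A] [Finite B] [Finite C]
    (hρA : Fpf ρA) (hρB : Fpf ρB) (hρC : Fpf ρC)
    {ω : A →ₗ[F] B →ₗ[F] C} (hω : Equivariant ρA ρB ρC ω) : ω = 0 := by
  haveI := D.neZero
  haveI := D.charP
  by_contra hne
  let K := LinearMap.ker ω
  have hK : Inv ρA K := fun g v hv => by
    rw [LinearMap.mem_ker] at hv ⊢
    refine LinearMap.ext fun w => ?_
    have h1 : ρB g (ρB g⁻¹ w) = w := by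
      rw [← Module.End.mul_apply, ← map_mul, mul_inv_cancel, map_one, Module.End.one_apply]
    rw [← h1, hω, hv, LinearMap.zero_apply, map_zero]
    rfl
  have hKt : K ≠ ⊤ := fun e => hne (LinearMap.ker_eq_top.1 e)
  haveI : Nontrivial (A ⧸ K) := Submodule.Quotient.nontrivial_iff.2 hKt
  haveI : Finite (A ⧸ K) := Finite.of_surjective _ (Submodule.Quotient.mk_surjective K)
  obtain ⟨N, hN, hI⟩ := exists_irred (quotRep ρA hK)
  haveI := hI.1
  let ω2 : N →ₗ[F] B →ₗ[F] C := (K.liftQ ω le_rfl).comp N.subtype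
  have hω2 : Equivariant (subRep (quotRep ρA hK) hN) ρB ρC ω2 := by
    intro g w y
    obtain ⟨v, hv⟩ := Submodule.Quotient.mk_surjective K (w : A ⧸ K)
    show K.liftQ ω le_rfl ((subRep (quotRep ρA hK) hN g w : N) : A ⧸ K) (ρB g y) =
      ρC g (K.liftQ ω le_rfl (w : A ⧸ K) y)
    rw [coe_subRep, ← hv, quotRep_mk]
    exact hω g v y
  have h0 := eq_zero_of_irred_left D hD ((hρA.quot hK).sub hN) hρB hρC hI hω2
  obtain ⟨w, hw⟩ := exists_ne (0 : N)
  refine hw (Subtype.ext ?_)
  obtain ⟨v, hv⟩ := Submodule.Quotient.mk_surjective K (w : A ⧸ K)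
  rw [← hv, Submodule.coe_zero, Submodule.Quotient.mk_eq_zero, LinearMap.mem_ker]
  have h1 : K.liftQ ω le_rfl (w : A ⧸ K) = 0 := LinearMap.congr_fun h0 w
  rw [← hv] at h1
  exact h1

end Cfsg.Lib.CIT.Rad2
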