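import Mathlib
import Cfsg.Agent.Lib.CIT.Rad2.Weights

/-!
An unramified extension of the integers modulo four with a given residue field of characteristic two, and
its multiplicative representatives.
-/

set_option autoImplicit false
set_option linter.unusedSectionVars false

namespace Cfsg.Lib.CIT.Rad2

open Polynomial

variable {F : Type*} [Field F]

/-- A free algebra over the integers modulo four with residue field `F`. -/
structure Cover (O : Type*) [CommRing O] [Algebra (ZMod 4) O] (F : Type*) [Field F] where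
  /-- The residue map. -/
  res : O →+* F
  surj : Function.Surjective res
  ker_iff : ∀ o, res o = 0 ↔ ∃ c, o = 2 * c
  /-- A retraction onto the constants. -/
  retr : O →ₗ[ZMod 4] ZMod 4
  retr_one : retr 1 = 1

theorem cast_four_two : ∀ a : ZMod 4, ZMod.castHom (by norm_num : 2 ∣ 4) (ZMod 2) a = 0 →
    ∃ c, a = 2 * c := by decide

theorem exists_cover (F : Type*) [Field F] [Finite F] [CharP F 2] :
    ∃ (O : Type) (_ : CommRing O) (_ : Algebra (ZMod 4) O) (_ : Finite O), Nonempty (Cover O F) := by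
  classical
  haveI : Fact (Nat.Prime 2) := ⟨Nat.prime_two⟩
  letI := ZMod.algebra F 2
  haveI : Finite (ZMod 2) := inferInstance
  obtain ⟨α, hα⟩ := Field.exists_primitive_element (ZMod 2) F
  have hint : IsIntegral (ZMod 2) α := IsIntegral.of_finite _ α
  let κ : ZMod 4 →+* ZMod 2 := ZMod.castHom (by norm_num) _
  have hκ : Function.Surjective κ := ZMod.castHom_surjective _
  have hmem : minpoly (ZMod 2) α ∈ lifts κ := by
    rw [lifts_iff_coeff_lifts]
    exact fun i => Set.mem_range.2 (hκ _)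
  obtain ⟨g, hg, hdeg, hm⟩ := lifts_and_degree_eq_and_monic hmem (minpoly.monic hint)
  have hpos : 0 < g.natDegree := by
    rw [natDegree_eq_of_degree_eq hdeg]; exact minpoly.natDegree_pos hint
  let j : ZMod 4 →+* F := (algebraMap (ZMod 2) F).comp κ
  have hroot : g.eval₂ j α = 0 := by
    rw [← eval₂_map, hg]; exact minpoly.aeval _ α
  have hev : ∀ p : (ZMod 4)[X], AdjoinRoot.lift j α hroot (AdjoinRoot.mk g p) = aeval α (p.map κ) :=
    fun p => by rw [AdjoinRoot.lift_mk, aeval_def, eval₂_map]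
  haveI : Module.Finite (ZMod 4) (AdjoinRoot g) := .of_basis (AdjoinRoot.powerBasis' hm).basis
  haveI : Finite (AdjoinRoot g) := Module.finite_of_finite (ZMod 4)
  refine ⟨AdjoinRoot g, inferInstance, inferInstance, inferInstance, ⟨
    { res := AdjoinRoot.lift j α hroot
      surj := fun x => ?_
      ker_iff := fun o => ⟨fun ho => ?_, ?_⟩
      retr := (AdjoinRoot.powerBasis' hm).basis.coord ⟨0, hpos⟩
      retr_one := ?_ }⟩⟩
  · have h1 : x ∈ Algebra.adjoin (ZMod 2) ({α} : Set F) := by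
      rw [← IntermediateField.adjoin_simple_toSubalgebra_of_isAlgebraic hint.isAlgebraic, hα]
      trivial
    rw [Algebra.adjoin_singleton_eq_range_aeval] at h1
    obtain ⟨p, rfl⟩ := h1
    obtain ⟨q, rfl⟩ := map_surjective κ hκ p
    exact ⟨AdjoinRoot.mk g q, hev q⟩
  · obtain ⟨p, rfl⟩ := AdjoinRoot.mk_surjective o
    rw [hev] at ho
    obtain ⟨q0, hq0⟩ := minpoly.dvd (ZMod 2) α ho
    obtain ⟨q, rfl⟩ := map_surjective κ hκ q0
    have h2 : ∀ i, ∃ c : ZMod 4, (p - g * q).coeff i = 2 * c := fun i => by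
      have h3 : κ ((p - g * q).coeff i) = 0 := by
        rw [← coeff_map, Polynomial.map_sub, Polynomial.map_mul, hg, hq0, sub_self, coeff_zero]
      exact cast_four_two _ h3
    choose c hc using h2
    refine ⟨AdjoinRoot.mk g (∑ i ∈ (p - g * q).support, monomial i (c i)), ?_⟩
    have h5 : p - g * q = C 2 * ∑ i ∈ (p - g * q).support, monomial i (c i) := by
      conv_lhs => rw [Polynomial.as_sum_support (p - g * q)]
      rw [Finset.mul_sum]
      exact Finset.sum_congr rfl fun i _ => by rw [C_mul_monomial, hc]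
    have h6 := congrArg (AdjoinRoot.mk g) h5
    rw [map_sub, map_mul, AdjoinRoot.mk_self, zero_mul, sub_zero, map_mul, map_ofNat C 2,
      map_ofNat (AdjoinRoot.mk g) 2] at h6
    exact h6
  · rintro ⟨c, rfl⟩
    rw [map_mul, map_ofNat, CharTwo.two_eq_zero, zero_mul]
  · have h0 : (AdjoinRoot.powerBasis' hm).basis ⟨0, hpos⟩ = 1 := by
      rw [PowerBasis.basis_eq_pow]; simp
    rw [← h0, Module.Basis.coord_apply, Module.Basis.repr_self, Finsupp.single_eq_same]

variable {O : Type*} [CommRing O] [Algebra (ZMod 4) O] (E : Cover O F)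

theorem four_eq_zero_of_algebra : (4 : O) = 0 := by
  have h := map_ofNat (algebraMap (ZMod 4) O) 4
  rw [show (4 : ZMod 4) = 0 by decide, map_zero] at h
  exact h.symm

namespace Cover

variable [Fintype F] [DecidableEq F] {n : ℕ}

/-- The multiplicative representative. -/
noncomputable def tei (n : ℕ) (x : F) : O := Function.surjInv E.surj x ^ (2 ^ n)

omit [Fintype F] [DecidableEq F] in
theorem pow_eq_of_res {j : ℕ} {a b : O} (h : E.res a = E.res b) :
    a ^ (2 ^ (j + 1)) = b ^ (2 ^ (j + 1)) := by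
  obtain ⟨c, hc⟩ := (E.ker_iff (a - b)).1 (by rw [map_sub, h, sub_self])
  have h4 := four_eq_zero_of_algebra (O := O)
  rw [pow_succ', pow_mul, pow_mul]
  congr 1
  rw [eq_add_of_sub_eq hc]
  linear_combination (c * b + c * c) * h4

variable [NeZero n] (hF : Fintype.card F = 2 ^ n)
include hF

theorem res_tei (x : F) : E.res (E.tei n x) = x := by
  rw [tei, map_pow, Function.surjInv_eq E.surj, ← hF, FiniteField.pow_card]

omit hF in
theorem tei_eq (x : F) {a : O} (ha : E.res a = x) : E.tei n x = a ^ (2 ^ n) := by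
  obtain ⟨j, rfl⟩ := Nat.exists_eq_succ_of_ne_zero (NeZero.ne n)
  exact E.pow_eq_of_res (by rw [Function.surjInv_eq E.surj, ha])

theorem tei_mul (x y : F) : E.tei n (x * y) = E.tei n x * E.tei n y := by
  rw [E.tei_eq _ (a := E.tei n x * E.tei n y) (by rw [map_mul, E.res_tei hF, E.res_tei hF]),
    mul_pow, ← E.tei_eq x (E.res_tei hF x), ← E.tei_eq y (E.res_tei hF y)]

theorem tei_zero : E.tei n (0 : F) = 0 := by
  rw [E.tei_eq _ (map_zero E.res), zero_pow (by positivity)]

theorem tei_one : E.tei n (1 : F) = 1 := by rw [E.tei_eq _ (map_one E.res), one_pow]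

theorem two_mul_eq {a b : O} (h : E.res a = E.res b) : 2 * a = 2 * b := by
  obtain ⟨c, hc⟩ := (E.ker_iff (a - b)).1 (by rw [map_sub, h, sub_self])
  linear_combination 2 * hc + c * four_eq_zero_of_algebra (O := O)

theorem tei_add (x y : F) :
    E.tei n (x + y) = E.tei n x + E.tei n y + 2 * E.tei n ((x * y) ^ (2 ^ (n - 1))) := by
  obtain ⟨a, ha⟩ := E.surj x
  obtain ⟨b, hb⟩ := E.surj y
  have h4 := four_eq_zero_of_algebra (O := O)
  have key : ∀ j : ℕ, (a + b) ^ (2 ^ (j + 1)) =
      a ^ (2 ^ (j + 1)) + b ^ (2 ^ (j + 1)) + 2 * (a * b) ^ (2 ^ j) := fun j => by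
    induction j with
    | zero => simp only [zero_add, pow_one, pow_zero]; ring
    | succ j ih =>
      rw [pow_succ (2 : ℕ) (j + 1), pow_mul, ih, pow_mul a, pow_mul b, mul_pow a b (2 ^ (j + 1))]
      linear_combination ((a ^ 2 ^ (j + 1) + b ^ 2 ^ (j + 1)) * (a * b) ^ 2 ^ j +
        ((a * b) ^ 2 ^ j) ^ 2) * h4
  obtain ⟨j, rfl⟩ := Nat.exists_eq_succ_of_ne_zero (NeZero.ne n)
  rw [E.tei_eq _ (a := a + b) (by rw [map_add, ha, hb]), E.tei_eq x ha, E.tei_eq y hb,
    Nat.succ_sub_one, key]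
  congr 1
  exact E.two_mul_eq hF (by rw [map_pow, map_mul, ha, hb, E.res_tei hF])

theorem isUnit_of_res {o : O} (h : E.res o ≠ 0) : IsUnit o := by
  obtain ⟨b, hb⟩ := E.surj (E.res o)⁻¹
  obtain ⟨c, hc⟩ := (E.ker_iff (o * b - 1)).1 (by
    rw [map_sub, map_mul, hb, map_one, mul_inv_cancel₀ h, sub_self])
  exact IsUnit.of_mul_eq_one (b * (1 - 2 * c)) (by
    linear_combination (1 - 2 * c) * hc - (c * c) * four_eq_zero_of_algebra (O := O))

theorem sum_tei_ch (w : Wt n) :
    ∑ s : Fˣ, E.tei n (ch w s) = if w = 0 then ((2 ^ n - 1 : ℕ) : O) else 0 := by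
  haveI := charTwo hF
  by_cases hw : w = 0
  · rw [if_pos hw, hw]
    simp only [ch_zero hF, E.tei_one hF, Finset.sum_const, Finset.card_univ, card_units_eq hF,
      nsmul_eq_mul, mul_one]
  rw [if_neg hw]
  obtain ⟨s, hs⟩ : ∃ s : Fˣ, ch w s ≠ 1 := by
    by_contra hc
    push Not at hc
    have h1 := sum_ch hF w
    have h2 := sum_ch hF (0 : Wt n)
    simp only [hc, if_neg hw] at h1
    simp only [ch_zero hF, h1, if_true] at h2
    exact one_ne_zero h2.symm
  have h3 : E.tei n (ch w s) * ∑ r : Fˣ, E.tei n (ch w r) = ∑ r : Fˣ, E.tei n (ch w r) := by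
    rw [Finset.mul_sum]
    refine Fintype.sum_equiv (Equiv.mulLeft s) _ _ fun r => ?_
    rw [Equiv.coe_mulLeft, ← E.tei_mul hF]
    simp only [ch, Units.val_mul, mul_pow]
  have hu : IsUnit (E.tei n (ch w s) - 1) :=
    E.isUnit_of_res hF (by rw [map_sub, E.res_tei hF, map_one]; exact sub_ne_zero.2 hs)
  exact (hu.mul_right_eq_zero).1 (by rw [sub_mul, one_mul, h3, sub_self])

end Cover

end Cfsg.Lib.CIT.Rad2
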