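import Mathlib
import Cfsg.Agent.Lib.CIT.Rad2.Base
import Cfsg.Agent.Lib.CIT.Rad2.Mod4

/-!
A module over the integers modulo four on which the elements of odd order act without fixed points has
exponent two.
-/

set_option autoImplicit false
set_option linter.unusedSectionVars false

universe u

namespace Cfsg.Lib.CIT.Rad2

open Finset
open scoped TensorProduct

variable {G : Type*} [Group G] {F : Type} [Field F] [Fintype F] [DecidableEq F] {n : ℕ}

theorem sum_sum_reindex {M : Type*} [AddCommMonoid M] (f : Fˣ → Fˣ → M) :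
    ∑ b : Fˣ, ∑ c : Fˣ, f b c = ∑ d : Fˣ, ∑ b : Fˣ, f b (b * d) := by
  rw [Finset.sum_comm (γ := Fˣ)]
  conv_rhs => rw [Finset.sum_comm]
  rw [Finset.sum_comm]
  exact Finset.sum_congr rfl fun b _ => (Fintype.sum_equiv (Equiv.mulLeft b) _ _ fun d => rfl).symm

theorem two_smul_eq_zero_of_fpf (D : Frame G F n) (hD : Frame.IsGood.{u} D)
    {R : Type u} [AddCommGroup R] [Module (ZMod 4) R] [Finite R]
    (φ : G →* Module.End (ZMod 4) R)
    (hφ : ∀ g : G, g ≠ 1 → Odd (orderOf g) → ∀ v : R, φ g v = v → v = 0) (v : R) :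
    (2 : ℕ) • v = 0 := by
  classical
  haveI := D.neZero
  haveI := D.charP
  by_contra hv
  obtain ⟨O, iO, iA, iOf, ⟨E⟩⟩ := exists_cover F
  haveI : Module.Finite (ZMod 4) R := Module.Finite.of_finite
  haveI : Module.Finite (ZMod 4) O := Module.Finite.of_finite
  haveI : Finite (O ⊗[ZMod 4] R) := Module.finite_of_finite (ZMod 4)
  let P : G →* Module.End O (O ⊗[ZMod 4] R) :=
    { toFun := fun g => (φ g).baseChange O
      map_one' := by rw [map_one]; exact LinearMap.baseChange_id
      map_mul' := fun g h => by rw [map_mul]; exact LinearMap.baseChange_comp _ _ }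
  have hP : ∀ g : G, g ≠ 1 → Odd (orderOf g) → ∀ m, P g m = m → m = 0 := by
    intro g hg ho m hm
    have hφ0 : ∑ i ∈ range (orderOf g), φ (g ^ i) = 0 := LinearMap.ext fun r => by
      rw [LinearMap.sum_apply, LinearMap.zero_apply]
      refine hφ g hg ho _ ?_
      rw [map_sum]
      have h1 := Finset.sum_range_succ' (fun i => φ (g ^ i) r) (orderOf g)
      rw [Finset.sum_range_succ, pow_orderOf_eq_one, pow_zero] at h1
      refine Eq.trans (Finset.sum_congr rfl fun i _ => ?_) (add_right_cancel h1).symm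
      rw [pow_succ', map_mul]; rfl
    have h0 : ∑ i ∈ range (orderOf g), P (g ^ i) = 0 := by
      show ∑ i ∈ range (orderOf g), (φ (g ^ i)).baseChange O = 0
      have e := map_sum (LinearMap.baseChangeHom (ZMod 4) O R R) (fun i => φ (g ^ i)) (range (orderOf g))
      rw [hφ0, map_zero] at e
      exact e.symm
    have h1 : ∀ i, P (g ^ i) m = m := fun i => by
      induction i with
      | zero => simp
      | succ i ih => rw [pow_succ', map_mul, Module.End.mul_apply, ih, hm]
    have h2 := LinearMap.congr_fun h0 m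
    simp only [LinearMap.sum_apply, h1, Finset.sum_const, Finset.card_range,
      LinearMap.zero_apply] at h2
    rw [← Nat.cast_smul_eq_nsmul O] at h2
    have hu : IsUnit (orderOf g : O) := E.isUnit_of_res (n := n) D.card (by
      rw [map_natCast, natCast_odd F ho]; exact one_ne_zero)
    exact hu.smul_eq_zero.1 h2
  -- the reduction
  let K : Submodule O (O ⊗[ZMod 4] R) := LinearMap.ker ((2 : O) • LinearMap.id)
  have hK : ∀ m, m ∈ K ↔ (2 : O) • m = 0 := fun m => Iff.rfl
  have htors : ∀ (o : O), E.res o = 0 → ∀ w : (O ⊗[ZMod 4] R) ⧸ K, o • w = 0 := by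
    intro o ho w
    obtain ⟨c, rfl⟩ := (E.ker_iff o).1 ho
    obtain ⟨m, rfl⟩ := Submodule.Quotient.mk_surjective K w
    rw [← Submodule.Quotient.mk_smul, Submodule.Quotient.mk_eq_zero, hK, smul_smul, ← mul_assoc,
      show (2 : O) * 2 = 4 by norm_num, four_eq_zero_of_algebra, zero_mul, zero_smul]
  let iV : Module F ((O ⊗[ZMod 4] R) ⧸ K) :=
    { smul := fun x w => Function.surjInv E.surj x • w
      one_smul := fun w => by
        show Function.surjInv E.surj 1 • w = w
        have := htors (Function.surjInv E.surj 1 - 1)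
          (by rw [map_sub, Function.surjInv_eq E.surj, map_one, sub_self]) w
        rwa [sub_smul, one_smul, sub_eq_zero] at this
      mul_smul := fun x y w => by
        show Function.surjInv E.surj (x * y) • w =
          Function.surjInv E.surj x • Function.surjInv E.surj y • w
        have := htors (Function.surjInv E.surj (x * y) -
            Function.surjInv E.surj x * Function.surjInv E.surj y)
          (by simp only [map_sub, map_mul, Function.surjInv_eq E.surj, sub_self]) w
        rwa [sub_smul, sub_eq_zero, mul_smul] at this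
      smul_zero := fun x => smul_zero (Function.surjInv E.surj x)
      smul_add := fun x => smul_add (Function.surjInv E.surj x)
      add_smul := fun x y w => by
        show Function.surjInv E.surj (x + y) • w =
          Function.surjInv E.surj x • w + Function.surjInv E.surj y • w
        have := htors (Function.surjInv E.surj (x + y) -
            (Function.surjInv E.surj x + Function.surjInv E.surj y))
          (by simp only [map_sub, map_add, Function.surjInv_eq E.surj, sub_self]) w
        rwa [sub_smul, sub_eq_zero, add_smul] at this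
      zero_smul := fun w => htors _ (Function.surjInv_eq E.surj 0) w }
  let mk : (O ⊗[ZMod 4] R) →ₗ[O] ((O ⊗[ZMod 4] R) ⧸ K) := K.mkQ
  have hsmul : ∀ (o : O) m, mk (o • m) = E.res o • mk m := fun o m => by
    show mk (o • m) = Function.surjInv E.surj (E.res o) • mk m
    rw [map_smul, ← sub_eq_zero, ← sub_smul]
    exact htors _ (by rw [map_sub, Function.surjInv_eq E.surj, sub_self]) _
  have hKinv : ∀ g : G, K ≤ K.comap (P g) := fun g m hm => by
    rw [Submodule.mem_comap, hK, ← map_smul, (hK m).1 hm, map_zero]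
  let ρ : G →* Module.End F ((O ⊗[ZMod 4] R) ⧸ K) :=
    { toFun := fun g =>
        { toFun := K.mapQ K (P g) (hKinv g)
          map_add' := fun a b => map_add _ a b
          map_smul' := fun x w => (K.mapQ K (P g) (hKinv g)).map_smul (Function.surjInv E.surj x) w }
      map_one' := LinearMap.ext fun w => by
        obtain ⟨m, rfl⟩ := Submodule.Quotient.mk_surjective K w
        show Submodule.Quotient.mk (P 1 m) = Submodule.Quotient.mk m
        rw [map_one, Module.End.one_apply]
      map_mul' := fun g h => LinearMap.ext fun w => by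
        obtain ⟨m, rfl⟩ := Submodule.Quotient.mk_surjective K w
        show Submodule.Quotient.mk (P (g * h) m) = Submodule.Quotient.mk (P g (P h m))
        rw [map_mul, Module.End.mul_apply] }
  have hρ_mk : ∀ g m, ρ g (mk m) = mk (P g m) := fun _ _ => rfl
  have hfpf : Fpf ρ := fpf_of_sum fun g hg ho w => by
    obtain ⟨m, rfl⟩ := Submodule.Quotient.mk_surjective K w
    show ∑ i ∈ range (orderOf g), ρ (g ^ i) (mk m) = 0
    simp only [hρ_mk, ← map_sum]
    refine Eq.trans (congrArg mk (hP g hg ho _ ?_)) (map_zero mk)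
    rw [map_sum]
    have h1 := Finset.sum_range_succ' (fun i => P (g ^ i) m) (orderOf g)
    rw [Finset.sum_range_succ, pow_orderOf_eq_one, pow_zero] at h1
    refine Eq.trans (Finset.sum_congr rfl fun i _ => ?_) (add_right_cancel h1).symm
    rw [pow_succ', map_mul]; rfl
  have hnt : Nontrivial ((O ⊗[ZMod 4] R) ⧸ K) := by
    refine ⟨⟨mk (1 ⊗ₜ v), 0, fun e => hv ?_⟩⟩
    have e2 : (2 : O) • ((1 : O) ⊗ₜ[ZMod 4] v) = 0 := (hK _).1 ((Submodule.Quotient.mk_eq_zero K).1 e)
    have e3 := congrArg
      ((TensorProduct.lid (ZMod 4) R).toLinearMap ∘ₗ TensorProduct.map E.retr LinearMap.id) e2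
    rw [map_zero, ← one_smul O (2 : O), smul_assoc, one_smul,
      ← Nat.cast_two (R := O), Nat.cast_smul_eq_nsmul, map_nsmul] at e3
    simpa [E.retr_one] using e3
  haveI : Finite ((O ⊗[ZMod 4] R) ⧸ K) := Finite.of_surjective _ (Submodule.Quotient.mk_surjective K)
  let W : Type u := (O ⊗[ZMod 4] R) ⧸ K
  -- an irreducible part
  obtain ⟨N, hN, hI⟩ := exists_irred ρ
  haveI : Nontrivial N := hI.1
  obtain ⟨a, lam, ha⟩ := Frame.exists_eigen D (subRep ρ hN)
  obtain ⟨r, hr⟩ := hD N (subRep ρ hN) (hfpf.sub hN) hI a lam ha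
  obtain ⟨y0, hy0⟩ := Submodule.Quotient.mk_surjective K ((subRep ρ hN D.t a : N) : _ ⧸ K)
  obtain ⟨x, hxdef⟩ : ∃ x : Wt n, x = pw (r - 1) := ⟨_, rfl⟩
  have hxx : x + x = pw r := by rw [hxdef, pw_succ, sub_add_cancel]
  have hlam : lam = D.δ * x := by
    have h2u : IsUnit (2 : Wt n) := pw_one (n := n) ▸ isUnit_pw 1
    refine h2u.mul_left_cancel ?_
    rw [hr.weight, ← hxx, ← two_mul, mul_left_comm]
  let τ : Wt n → Fˣ → O := fun w s => E.tei n (ch w s)
  have τ_add : ∀ w w' s, τ (w + w') s = τ w s * τ w' s := fun w w' s => by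
    simp only [τ, ch_add D.card, E.tei_mul D.card]
  have τ_zero : ∀ s, τ 0 s = 1 := fun s => by simp only [τ, ch_zero D.card, E.tei_one D.card]
  have τ_mul : ∀ w s s', τ w (s * s') = τ w s * τ w s' := fun w s s' => by
    simp only [τ]
    rw [← E.tei_mul D.card]
    simp only [ch, Units.val_mul, mul_pow]
  let y : O ⊗[ZMod 4] R := ∑ s : Fˣ, τ lam s • P (D.k s) y0
  have hky : ∀ s, P (D.k s) y = τ (-lam) s • y := fun s => by
    simp only [y, map_sum, map_smul, Finset.smul_sum, smul_smul]
    refine Fintype.sum_equiv (Equiv.mulLeft s) _ _ fun s' => ?_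
    rw [Equiv.coe_mulLeft, τ_mul, ← mul_assoc, ← τ_add, neg_add_cancel, τ_zero, one_mul,
      map_mul, map_mul, Module.End.mul_apply]
  have hmy : mk y = ((subRep ρ hN D.t a : N) : _ ⧸ K) := by
    have hone : ∀ s, ch lam s * ch (-lam) s = (1 : F) := fun s => by
      rw [mul_comm, ch_neg_mul D.card]
    simp only [y, map_sum, hsmul, τ, E.res_tei D.card, ← hρ_mk]
    show ∑ s : Fˣ, ch lam s • ρ (D.k s) (mk y0) = _
    rw [show mk y0 = _ from hy0]
    simp only [← coe_subRep ρ hN, Frame.k_t_apply ha, Submodule.coe_smul, smul_smul, hone, one_smul,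
      Finset.sum_const, Finset.card_univ, card_units_eq D.card]
    exact odd_smul_eq_self (F := F) (Nat.Even.sub_odd Nat.one_le_two_pow
      (even_two.pow_of_ne_zero (NeZero.ne n)) odd_one) _
  let g : F → O ⊗[ZMod 4] R := fun b => P (D.z b) y - y
  let vv : Wt n → O ⊗[ZMod 4] R := fun w => ∑ b : Fˣ, τ (-w) b • g b
  have hch : ∀ (w : Wt n) (s : Fˣ), (ch w s : F) ≠ 0 := fun w s => pow_ne_zero _ s.ne_zero
  have hcomp : ∀ (w w' : Wt n) (s : Fˣ),
      ch w (Units.mk0 (ch w' s) (hch w' s)) = ch (w' * w) s := fun w w' s => by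
    haveI := neZero_mod (n := n)
    conv_rhs => rw [← ZMod.natCast_zmod_val w, ch_mul_natCast D.card]
    rfl
  -- the component of weight zero
  have hx0 : vv x = 0 := by
    obtain ⟨s, hs⟩ : ∃ s : Fˣ, s ≠ 1 := by
      by_contra hc; push Not at hc
      haveI : Subsingleton Fˣ := ⟨fun a b => (hc a).trans (hc b).symm⟩
      have h1 : Fintype.card Fˣ ≤ 1 := Fintype.card_le_one_iff_subsingleton.2 inferInstance
      rw [card_units_eq D.card] at h1
      have : 2 ^ 2 ≤ 2 ^ n := Nat.pow_le_pow_right two_pos D.hn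
      omega
    refine hP (D.k s) (fun e => hs (D.k_injective (e.trans (map_one D.k).symm))) ?_ _ ?_
    · refine Odd.of_dvd_nat ?_ ((orderOf_map_dvd D.k s).trans orderOf_dvd_card)
      rw [card_units_eq D.card]
      exact Nat.Even.sub_odd Nat.one_le_two_pow (even_two.pow_of_ne_zero (NeZero.ne n)) odd_one
    obtain ⟨σ, hσ⟩ : ∃ σ : Fˣ, σ = Units.mk0 (ch D.δ s) (hch D.δ s) := ⟨_, rfl⟩
    simp only [vv, map_sum, map_smul]
    refine Fintype.sum_equiv (Equiv.mulLeft σ) _ _ fun b => ?_
    have hg : P (D.k s) (g b) = τ (-lam) s • g ((σ * b : Fˣ) : F) := by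
      simp only [g, map_sub, smul_sub]
      rw [← Module.End.mul_apply, ← map_mul, D.k_z, map_mul, Module.End.mul_apply, hky, map_smul]
      rw [hσ, Units.val_mul, Units.val_mk0]
    rw [hg, smul_smul, Equiv.coe_mulLeft]
    congr 1
    rw [τ_mul (-x) σ b, mul_comm (τ (-x) σ)]
    congr 1
    show E.tei n (ch (-lam) s) = E.tei n (ch (-x) σ)
    rw [hσ, hcomp, hlam, mul_neg]
  -- the component of weight `pw r` is not zero
  have hr0 : (2 : O) • vv (x + x) ≠ 0 := by
    intro e
    refine hr.lead (Subtype.ext ?_)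
    have e1 : mk (vv (x + x)) = 0 := (Submodule.Quotient.mk_eq_zero K).2 ((hK _).2 e)
    refine Eq.trans ?_ e1
    simp only [vv, map_sum, hsmul, τ, E.res_tei D.card, g, map_sub, ← hρ_mk, hmy, hxx,
      coef, proj, Submodule.coe_sum, Submodule.coe_smul, Submodule.coe_sub, coe_subRep]
  -- the cross term
  have hg0 : g 0 = 0 := by simp only [g, D.z_zero, map_one, Module.End.one_apply, sub_self]
  have hadd : ∀ b c : F, g (b + c) = g b + g c + (P (D.z b) (g c) - g c) := fun b c => by
    simp only [g, D.z_add, map_mul, Module.End.mul_apply, map_sub]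
    abel
  have hx1 : x ≠ 0 := fun e => by
    have h2 : IsUnit (0 : Wt n) := e ▸ hxdef ▸ isUnit_pw (r - 1)
    haveI : Fact (1 < 2 ^ n - 1) := ⟨by
      have : 2 ^ 2 ≤ 2 ^ n := Nat.pow_le_pow_right two_pos D.hn
      omega⟩
    exact not_isUnit_zero h2
  have hsum0 : ∑ b : Fˣ, τ (-x) b = 0 := by
    simp only [τ, E.sum_tei_ch D.card, neg_eq_zero, if_neg hx1]
  have hL : ∑ b : Fˣ, ∑ c : Fˣ, (τ (-x) b * τ (-x) c) • g ((b : F) + c) = 0 := by
    simp only [hadd, smul_add, Finset.sum_add_distrib]
    have a1 : ∑ b : Fˣ, ∑ c : Fˣ, (τ (-x) b * τ (-x) c) • g b = 0 := by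
      refine Finset.sum_eq_zero fun b _ => ?_
      simp only [mul_smul]
      rw [← Finset.smul_sum, ← Finset.sum_smul, hsum0, zero_smul, smul_zero]
    have a2 : ∑ b : Fˣ, ∑ c : Fˣ, (τ (-x) b * τ (-x) c) • g c = 0 := by
      refine Finset.sum_eq_zero fun b _ => ?_
      simp only [mul_smul, ← Finset.smul_sum]
      rw [show ∑ c : Fˣ, τ (-x) c • g c = 0 from hx0, smul_zero]
    have a3 : ∑ b : Fˣ, ∑ c : Fˣ, (τ (-x) b * τ (-x) c) • (P (D.z b) (g c) - g c) = 0 := by
      refine Finset.sum_eq_zero fun b _ => ?_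
      have e : ∑ c : Fˣ, τ (-x) c • (P (D.z b) (g c) - g c) = P (D.z b) (vv x) - vv x := by
        simp only [smul_sub, Finset.sum_sub_distrib, vv, map_sum, map_smul]
      simp only [mul_smul, ← Finset.smul_sum, e, hx0, map_zero, sub_self, smul_zero]
    rw [a1, a2, a3, add_zero, add_zero]
  rw [sum_sum_reindex] at hL
  let X : Fˣ → O := fun d => E.tei n ((1 + (d : F)) ^ (2 ^ r.val))
  have hinner : ∀ d : Fˣ, ∑ b : Fˣ, (τ (-x) b * τ (-x) (b * d)) • g ((b : F) + ((b * d : Fˣ) : F)) =
      (τ (-x) d * X d) • vv (x + x) := fun d => by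
    have e0 : ∀ b : Fˣ, (b : F) + ((b * d : Fˣ) : F) = (b : F) * (1 + d) := fun b => by
      rw [Units.val_mul]; ring
    by_cases hd : (1 : F) + d = 0
    · simp only [e0, hd, mul_zero, hg0, smul_zero, Finset.sum_const_zero, X, zero_pow
        (show 2 ^ r.val ≠ 0 by positivity), E.tei_zero D.card, mul_zero, zero_smul]
    · simp only [vv, Finset.smul_sum, smul_smul]
      refine Fintype.sum_equiv (Equiv.mulRight (Units.mk0 _ hd)) _ _ fun b => ?_
      rw [e0, Equiv.coe_mulRight, Units.val_mul, Units.val_mk0]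
      congr 1
      have e1 : X d = τ (x + x) (Units.mk0 _ hd) := by
        simp only [X, τ, hxx, ch_pw D.card, Units.val_mk0]
      rw [e1, τ_mul, τ_mul, neg_add]
      simp only [τ_add]
      have e2 : τ (-x) (Units.mk0 _ hd) * τ x (Units.mk0 _ hd) = 1 := by
        rw [← τ_add, neg_add_cancel, τ_zero]
      linear_combination (-(τ (-x) b * τ (-x) b * τ (-x) d *
        (τ (-x) (Units.mk0 _ hd) * τ x (Units.mk0 _ hd) + 1))) * e2
  simp only [hinner, ← Finset.sum_smul] at hL
  have hS : ∑ d : Fˣ, τ (-x) d * X d = 2 := by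
    have hXd : ∀ d : Fˣ, τ (-x) d * X d = τ (-x) d + τ x d + 2 := fun d => by
      have e1 : (1 + (d : F)) ^ (2 ^ r.val) = 1 + ch (x + x) d := by
        rw [add_pow_char_pow, one_pow, hxx, ch_pw D.card]
      have e2 : (1 * ch (x + x) d : F) ^ (2 ^ (n - 1)) = ch x d := by
        rw [one_mul, ← ch_mul_natCast D.card, ← two_mul, Nat.cast_pow, Nat.cast_two]
        congr 1
        rw [mul_comm 2 x, mul_assoc, ← pow_succ', Nat.sub_add_cancel (NeZero.one_le), two_pow_n,
          mul_one]
      have e3 : τ (-x) d * τ x d = 1 := by rw [← τ_add, neg_add_cancel, τ_zero]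
      show τ (-x) d * E.tei n ((1 + (d : F)) ^ (2 ^ r.val)) = _
      rw [e1, E.tei_add D.card, E.tei_one D.card, e2]
      show τ (-x) d * (1 + τ (x + x) d + 2 * τ x d) = _
      rw [τ_add]
      linear_combination (τ x d + 2) * e3
    simp only [hXd, Finset.sum_add_distrib, hsum0, Finset.sum_const, Finset.card_univ,
      card_units_eq D.card, nsmul_eq_mul]
    have e4 : ∑ d : Fˣ, τ x d = 0 := by simp only [τ, E.sum_tei_ch D.card, if_neg hx1]
    obtain ⟨j, hj⟩ : Odd (2 ^ n - 1) := Nat.Even.sub_odd Nat.one_le_two_pow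
      (even_two.pow_of_ne_zero (NeZero.ne n)) odd_one
    rw [e4, hj]
    push_cast
    linear_combination (j : O) * four_eq_zero_of_algebra (O := O)
  rw [hS] at hL
  exact hr0 hL

end Cfsg.Lib.CIT.Rad2
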