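import Mathlib
import Cfsg.Agent.Lib.CIT.Rad2.Exponent
import Cfsg.Agent.Lib.CIT.Rad2.Bilinear

/-!
A normal two-subgroup on which the elements of odd order act without fixed points is elementary abelian if
the quotient has a good split BN pair.
-/

set_option autoImplicit false
set_option linter.unusedSectionVars false

universe u

namespace Cfsg.Lib.CIT.Rad2

open scoped TensorProduct

/-- An element of prime odd order fixing a coset of a two-subgroup fixes one of its elements. -/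
theorem exists_fixed_in_coset {G : Type*} [Group G] [Finite G] {E : Subgroup G} [E.Normal]
    (hE : IsPGroup 2 E) {p : ℕ} (hp : p.Prime) (hp2 : p ≠ 2) {y : G} (hy : orderOf y = p) {r : G}
    (hr : (r⁻¹ * (y * r * y⁻¹)) ∈ E) : ∃ e ∈ E, y * (r * e) = r * e * y := by
  classical
  haveI := Fact.mk hp
  let S := {x : G // r⁻¹ * x ∈ E}
  have hS : ∀ (g : Subgroup.zpowers y) (x : S), r⁻¹ * ((g : G) * x.1 * (g : G)⁻¹) ∈ E := by
    let Hst : Subgroup G :=
      { carrier := {g | r⁻¹ * (g * r * g⁻¹) ∈ E}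
        one_mem' := by simp
        mul_mem' := fun {a b} ha hb => by
          show r⁻¹ * (a * b * r * (a * b)⁻¹) ∈ E
          have h1 : r⁻¹ * (a * b * r * (a * b)⁻¹) =
              (r⁻¹ * (a * r * a⁻¹)) * (a * (r⁻¹ * (b * r * b⁻¹)) * a⁻¹) := by group
          rw [h1]
          exact mul_mem ha (Subgroup.Normal.conj_mem inferInstance _ hb a)
        inv_mem' := fun {a} ha => by
          show r⁻¹ * (a⁻¹ * r * a⁻¹⁻¹) ∈ E
          have h1 : r⁻¹ * (a⁻¹ * r * a⁻¹⁻¹) = a⁻¹ * (r⁻¹ * (a * r * a⁻¹))⁻¹ * a⁻¹⁻¹ := by group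
          rw [h1]
          exact Subgroup.Normal.conj_mem inferInstance _ (inv_mem ha) a⁻¹ }
    have hy' : Subgroup.zpowers y ≤ Hst := Subgroup.zpowers_le.2 hr
    intro g x
    have h1 : r⁻¹ * ((g : G) * x.1 * (g : G)⁻¹) =
        (r⁻¹ * ((g : G) * r * (g : G)⁻¹)) * ((g : G) * (r⁻¹ * x.1) * (g : G)⁻¹) := by group
    rw [h1]
    exact mul_mem (hy' g.2) (Subgroup.Normal.conj_mem inferInstance _ x.2 g)
  letI : MulAction (Subgroup.zpowers y) S :=
    { smul := fun g x => ⟨(g : G) * x.1 * (g : G)⁻¹, hS g x⟩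
      one_smul := fun x => Subtype.ext (show ((1 : Subgroup.zpowers y) : G) * x.1 * _ = x.1 by simp)
      mul_smul := fun g g' x => Subtype.ext (show ((g * g' : Subgroup.zpowers y) : G) * x.1 *
          ((g * g' : Subgroup.zpowers y) : G)⁻¹ = (g : G) * ((g' : G) * x.1 * (g' : G)⁻¹) * (g : G)⁻¹ by
        rw [Subgroup.coe_mul]; group) }
  have hpg : IsPGroup p (Subgroup.zpowers y) :=
    IsPGroup.of_card (n := 1) (by rw [Nat.card_zpowers, hy, pow_one])
  have hcard : ¬ p ∣ Nat.card S := by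
    let e : S ≃ E :=
      { toFun := fun x => ⟨r⁻¹ * x.1, x.2⟩
        invFun := fun e => ⟨r * e, by simp⟩
        left_inv := fun x => Subtype.ext (by simp)
        right_inv := fun e => Subtype.ext (by simp) }
    rw [Nat.card_congr e]
    obtain ⟨k, hk⟩ := hE.exists_card_eq
    rw [hk]
    exact fun hd => hp2 ((Nat.prime_dvd_prime_iff_eq hp Nat.prime_two).1 (hp.dvd_of_dvd_pow hd))
  obtain ⟨⟨x, hx⟩, hfix⟩ := hpg.nonempty_fixed_point_of_prime_not_dvd_card S hcard
  refine ⟨r⁻¹ * x, hx, ?_⟩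
  have h2 : y * x * y⁻¹ = x := congrArg Subtype.val (hfix ⟨y, Subgroup.mem_zpowers y⟩)
  rw [mul_inv_cancel_left]
  exact mul_inv_eq_iff_eq_mul.1 h2

/-- The elements of prime odd order fix no nontrivial element of the subgroup. -/
def FreeOn {G : Type*} [Group G] (R : Subgroup G) : Prop :=
  ∀ y : G, (∃ p : ℕ, p.Prime ∧ p ≠ 2 ∧ orderOf y = p) → ∀ r ∈ R, y * r = r * y → r = 1

theorem FreeOn.odd {G : Type*} [Group G] {R : Subgroup G} (h : FreeOn R) {y : G}
    (hy : y ≠ 1) (ho : Odd (orderOf y)) {r : G} (hr : r ∈ R) (hc : y * r = r * y) : r = 1 := by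
  have hne : orderOf y ≠ 1 := fun e => hy (orderOf_eq_one_iff.1 e)
  obtain ⟨p, hp, hd⟩ := Nat.exists_prime_and_dvd hne
  refine h (y ^ (orderOf y / p)) ⟨p, hp, ?_, ?_⟩ r hr ?_
  · rintro rfl
    exact (Nat.not_even_iff_odd.2 ho) (even_iff_two_dvd.2 hd)
  · obtain ⟨k, hk⟩ := hd
    have hk0 : k ≠ 0 := by rintro rfl; rw [mul_zero] at hk; simp [hk] at ho
    rw [hk, Nat.mul_div_cancel_left _ hp.pos, orderOf_pow' _ hk0, hk, Nat.gcd_mul_left_left,
      Nat.mul_div_cancel _ (Nat.pos_of_ne_zero hk0)]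
  · exact (Commute.pow_left (hc : Commute y r) _)

variable {G : Type u} [Group G] [Finite G] {X : Type*} [Group X]

/-- An element of odd order has a preimage of odd order with the same fixed points. -/
theorem exists_odd_lift (f : G →* X) (hf : Function.Surjective f) {x : X} (hx : x ≠ 1)
    (ho : Odd (orderOf x)) :
    ∃ y : G, y ≠ 1 ∧ Odd (orderOf y) ∧ ∃ k : ℕ, f y = x ^ k := by
  obtain ⟨y0, rfl⟩ := hf x
  obtain ⟨k, q, hq, hkq⟩ := Nat.exists_eq_two_pow_mul_odd (orderOf_pos y0).ne'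
  refine ⟨y0 ^ 2 ^ k, fun e => ?_, ?_, 2 ^ k, map_pow f _ _⟩
  · have h1 : f y0 ^ 2 ^ k = 1 := by rw [← map_pow, e, map_one]
    have h2 : orderOf (f y0) = 1 :=
      Nat.eq_one_of_dvd_coprimes (Nat.Coprime.pow_left k (Nat.coprime_two_left.2 ho))
        (orderOf_dvd_of_pow_eq_one h1) dvd_rfl
    exact hx (orderOf_eq_one_iff.1 h2)
  · rwa [orderOf_pow' _ (by positivity), hkq, Nat.gcd_mul_right_left,
      Nat.mul_div_cancel_left _ (by positivity)]

/-- The action of the quotient on a commutative group of bounded exponent. -/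
theorem exists_rep (f : G →* X) (hf : Function.Surjective f) (q : ℕ) {A : Type u} [CommGroup A]
    [Module (ZMod q) (Additive A)] (ψ : G →* MulAut A) (hker : f.ker ≤ ψ.ker)
    (hfix : ∀ y : G, y ≠ 1 → Odd (orderOf y) → ∀ a : A, ψ y a = a → a = 1) :
    ∃ φ : X →* Module.End (ZMod q) (Additive A),
      (∀ g a, φ (f g) (Additive.ofMul a) = Additive.ofMul (ψ g a)) ∧
      ∀ x : X, x ≠ 1 → Odd (orderOf x) → ∀ v, φ x v = v → v = 0 := by
  let ψ' : G →* Module.End (ZMod q) (Additive A) :=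
    { toFun := fun g => (MonoidHom.toAdditive (ψ g).toMonoidHom).toZModLinearMap q
      map_one' := LinearMap.ext fun v => by
        show Additive.ofMul (ψ 1 (Additive.toMul v)) = v
        simp
      map_mul' := fun g g' => LinearMap.ext fun v => by
        show Additive.ofMul (ψ (g * g') (Additive.toMul v)) =
          Additive.ofMul (ψ g (ψ g' (Additive.toMul v)))
        simp }
  have hk : f.ker ≤ ψ'.ker := fun g hg => LinearMap.ext fun v => by
    show Additive.ofMul (ψ g (Additive.toMul v)) = v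
    rw [MonoidHom.mem_ker.1 (hker hg)]
    rfl
  let φ : X →* Module.End (ZMod q) (Additive A) := (QuotientGroup.lift f.ker ψ' hk).comp
    (QuotientGroup.quotientKerEquivOfSurjective f hf).symm.toMonoidHom
  have hφ : ∀ g, φ (f g) = ψ' g := fun g => by
    have e : (QuotientGroup.quotientKerEquivOfSurjective f hf).symm (f g) =
        (g : G ⧸ f.ker) := (MulEquiv.symm_apply_eq _).2 rfl
    show QuotientGroup.lift f.ker ψ' hk ((QuotientGroup.quotientKerEquivOfSurjective f hf).symm (f g)) = _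
    rw [e, QuotientGroup.lift_mk]
  refine ⟨φ, fun g a => by rw [hφ]; rfl, fun x hx ho v hv => ?_⟩
  obtain ⟨y, hy, hyo, k, hk'⟩ := exists_odd_lift f hf hx ho
  have hpow : ∀ j : ℕ, φ (x ^ j) v = v := fun j => by
    induction j with
    | zero => simp
    | succ j ih => rw [pow_succ, map_mul, Module.End.mul_apply, hv, ih]
  have h1 := hpow k
  rw [← hk', hφ] at h1
  exact congrArg Additive.ofMul (hfix y hy hyo (Additive.toMul v) (congrArg Additive.toMul h1))

variable {F : Type} [Field F] [Fintype F] [DecidableEq F] {n : ℕ}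

/-- A commutative normal two-subgroup centralised by the kernel has exponent two. -/
theorem exponent_two (D : Frame X F n) (hD : Frame.IsGood.{u} D) (f : G →* X)
    (hf : Function.Surjective f) {M : Subgroup G} [M.Normal] (hM : IsPGroup 2 M)
    (hab : ∀ a ∈ M, ∀ b ∈ M, a * b = b * a) (hker : ∀ r ∈ f.ker, ∀ a ∈ M, r * a = a * r)
    (hfree : FreeOn M) : ∀ a ∈ M, a * a = 1 := by
  intro a ha
  by_contra hne
  obtain ⟨k, hk⟩ := hM ⟨a, ha⟩
  have hk' : a ^ 2 ^ k = 1 := congrArg Subtype.val hk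
  -- an element of order four
  have hex : ∃ j, a ^ 2 ^ j = 1 := ⟨k, hk'⟩
  classical
  obtain ⟨j, hj⟩ : ∃ j, j = Nat.find hex := ⟨_, rfl⟩
  have hj1 : a ^ 2 ^ j = 1 := hj ▸ Nat.find_spec hex
  have hj2 : 2 ≤ j := by
    by_contra hc
    interval_cases j
    · simp at hj1; exact hne (by rw [hj1, one_mul])
    · exact hne (by rwa [pow_one, sq] at hj1)
  obtain ⟨i, rfl⟩ : ∃ i, j = i + 2 := ⟨j - 2, by omega⟩
  obtain ⟨b, hb⟩ : ∃ b, b = a ^ 2 ^ i := ⟨_, rfl⟩
  have hb4 : b ^ 4 = 1 := by rw [hb, ← pow_mul, ← hj1]; ring_nf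
  have hb2 : b * b ≠ 1 := fun e => Nat.find_min hex (show i + 1 < Nat.find hex by omega) (by
    rw [pow_succ, pow_mul, ← hb, sq, e])
  let M4 : Subgroup G :=
    { carrier := {x | x ∈ M ∧ x ^ 4 = 1}
      one_mem' := ⟨one_mem M, one_pow 4⟩
      mul_mem' := fun {x y} hx hy => ⟨mul_mem hx.1 hy.1, by
        rw [Commute.mul_pow (hab x hx.1 y hy.1), hx.2, hy.2, one_mul]⟩
      inv_mem' := fun {x} hx => ⟨inv_mem hx.1, by rw [inv_pow, hx.2, inv_one]⟩ }
  haveI : M4.Normal := ⟨fun x hx g => ⟨Subgroup.Normal.conj_mem inferInstance x hx.1 g, by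
    rw [conj_pow, hx.2, mul_one, mul_inv_cancel]⟩⟩
  letI : CommGroup M4 :=
    { (inferInstance : Group M4) with
      mul_comm := fun x y => Subtype.ext (hab _ x.2.1 _ y.2.1) }
  letI : Module (ZMod 4) (Additive M4) := AddCommGroup.zmodModule fun x => by
    show (Additive.ofMul ((Additive.toMul x) ^ 4) : Additive M4) = 0
    rw [show (Additive.toMul x) ^ 4 = 1 from Subtype.ext x.toMul.2.2]
    rfl
  obtain ⟨φ, hφ, hφfree⟩ := exists_rep f hf 4 (A := M4) MulAut.conjNormal
    (fun g hg => MonoidHom.mem_ker.2 (MulEquiv.ext fun x => Subtype.ext (by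
      rw [MulAut.conjNormal_apply]
      show g * (x : G) * g⁻¹ = x
      rw [hker g hg x x.2.1, mul_inv_cancel_right])))
    (fun y hy ho x hx => by
      have e := congrArg Subtype.val hx
      rw [MulAut.conjNormal_apply] at e
      exact Subtype.ext (hfree.odd hy ho x.2.1 (mul_inv_eq_iff_eq_mul.1 e)))
  have h2 := two_smul_eq_zero_of_fpf D hD φ hφfree (Additive.ofMul (⟨b, hb ▸ pow_mem ha _, hb4⟩ : M4))
  rw [two_nsmul] at h2
  exact hb2 (congrArg Subtype.val (congrArg Additive.toMul h2))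

/-- An equivariant pairing of elementary abelian sections vanishes. -/
theorem pairing_trivial (D : Frame X F n) (hD : Frame.IsGood.{u} D) {A C : Type u} [AddCommGroup A]
    [Module (ZMod 2) A] [Finite A] [AddCommGroup C] [Module (ZMod 2) C] [Finite C]
    (φA : X →* Module.End (ZMod 2) A) (φC : X →* Module.End (ZMod 2) C)
    (hA : ∀ x : X, x ≠ 1 → Odd (orderOf x) → ∀ v, φA x v = v → v = 0)
    (hC : ∀ x : X, x ≠ 1 → Odd (orderOf x) → ∀ v, φC x v = v → v = 0)
    (ω : A →ₗ[ZMod 2] A →ₗ[ZMod 2] C) (hω : ∀ x a b, ω (φA x a) (φA x b) = φC x (ω a b))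
    (a b : A) : ω a b = 0 := by
  haveI := D.neZero
  haveI := D.charP
  haveI : Fact (Nat.Prime 2) := ⟨Nat.prime_two⟩
  letI := ZMod.algebra F 2
  have hext : ∀ {M : Type u} [AddCommGroup M] [Module (ZMod 2) M] (φ : X →* Module.End (ZMod 2) M),
      (∀ x : X, x ≠ 1 → Odd (orderOf x) → ∀ v, φ x v = v → v = 0) →
      ∃ ρ : X →* Module.End F (F ⊗[ZMod 2] M), (∀ x, ρ x = (φ x).baseChange F) ∧ Fpf ρ := by
    intro M _ _ φ hφ
    refine ⟨⟨⟨fun x => (φ x).baseChange F, by rw [map_one]; exact LinearMap.baseChange_id⟩,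
      fun x y => by
        show (φ (x * y)).baseChange F = (φ x).baseChange F * (φ y).baseChange F
        rw [map_mul]; exact LinearMap.baseChange_comp _ _⟩, fun x => rfl, ?_⟩
    refine fpf_of_sum fun g hg ho v => ?_
    have h0 : ∑ i ∈ Finset.range (orderOf g), φ (g ^ i) = 0 := LinearMap.ext fun r => by
      rw [LinearMap.sum_apply, LinearMap.zero_apply]
      refine hφ g hg ho _ ?_
      rw [map_sum]
      have h1 := Finset.sum_range_succ' (fun i => φ (g ^ i) r) (orderOf g)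
      rw [Finset.sum_range_succ, pow_orderOf_eq_one, pow_zero] at h1
      refine Eq.trans (Finset.sum_congr rfl fun i _ => ?_) (add_right_cancel h1).symm
      rw [pow_succ', map_mul]; rfl
    have h2 := map_sum (LinearMap.baseChangeHom (ZMod 2) F M M) (fun i => φ (g ^ i))
      (Finset.range (orderOf g))
    rw [h0, map_zero] at h2
    show ∑ i ∈ Finset.range (orderOf g), (φ (g ^ i)).baseChange F v = 0
    rw [← LinearMap.sum_apply]
    exact (LinearMap.congr_fun h2 v).symm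
  obtain ⟨ρA, hρA, hfA⟩ := hext φA hA
  obtain ⟨ρC, hρC, hfC⟩ := hext φC hC
  let ω' : (F ⊗[ZMod 2] A) →ₗ[F] (F ⊗[ZMod 2] A) →ₗ[F] (F ⊗[ZMod 2] C) :=
    LinearMap.liftBaseChange F ((LinearMap.baseChangeHom (ZMod 2) F A C) ∘ₗ ω)
  have hω' : Equivariant ρA ρA ρC ω' := by
    intro g x y
    induction x using TensorProduct.induction_on with
    | zero => simp
    | add x x' hx hx' => simp only [map_add, LinearMap.add_apply, hx, hx']
    | tmul s x =>
      induction y using TensorProduct.induction_on with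
      | zero => simp
      | add y y' hy hy' => simp only [map_add, hy, hy']
      | tmul s' y =>
        simp [ω', hρA, hρC, LinearMap.baseChangeHom, hω, TensorProduct.smul_tmul']
  haveI : Module.Finite (ZMod 2) A := Module.Finite.of_finite
  haveI : Module.Finite (ZMod 2) C := Module.Finite.of_finite
  haveI : Module.Finite (ZMod 2) F := Module.Finite.of_finite
  haveI : Finite (F ⊗[ZMod 2] A) := Module.finite_of_finite (ZMod 2)
  haveI : Finite (F ⊗[ZMod 2] C) := Module.finite_of_finite (ZMod 2)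
  have h0 : ω' = 0 := eq_zero_of_fpf D hD hfA hfA hfC hω'
  have h1 := LinearMap.congr_fun (LinearMap.congr_fun h0 ((1 : F) ⊗ₜ a)) ((1 : F) ⊗ₜ b)
  obtain ⟨g, hg⟩ := LinearMap.exists_leftInverse_of_injective
    (Algebra.linearMap (ZMod 2) F) (LinearMap.ker_eq_bot.2 (algebraMap (ZMod 2) F).injective)
  have hg1 : g 1 = 1 := by simpa using LinearMap.congr_fun hg 1
  have h2 := congrArg ((TensorProduct.lid (ZMod 2) C).toLinearMap ∘ₗ TensorProduct.map g LinearMap.id) h1
  simpa [ω', LinearMap.baseChangeHom, hg1] using h2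

theorem elemAbelian_aux (D : Frame X F n) (hD : Frame.IsGood.{u} D) : ∀ (k : ℕ) {G : Type u} [Group G]
    [Finite G] (R : Subgroup G), R.Normal → IsPGroup 2 R → ∀ (f : G →* X), Function.Surjective f →
    f.ker = R → FreeOn R → Nat.card G ≤ k → ∀ x ∈ R, x * x = 1 := by
  intro k
  induction k with
  | zero => intro G _ _ R _ _ f _ _ _ hk; exact absurd hk (by simp [Nat.card_pos.ne'])
  | succ k ih =>
  intro G _ _ R hRn hR f hf hker hfree hk
  classical
  by_cases hR1 : R = ⊥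
  · intro x hx; rw [hR1, Subgroup.mem_bot] at hx; rw [hx, one_mul]
  haveI : Fact (Nat.Prime 2) := ⟨Nat.prime_two⟩
  -- a minimal normal subgroup inside
  haveI : Finite (Subgroup G) := Finite.of_injective _ SetLike.coe_injective
  obtain ⟨E, ⟨hEn, hER, hE1⟩, hmin⟩ := Set.Finite.exists_minimal
    (Set.toFinite {E : Subgroup G | E.Normal ∧ E ≤ R ∧ E ≠ ⊥}) ⟨R, hRn, le_rfl, hR1⟩
  haveI := hEn
  haveI := hRn
  haveI : Nontrivial E := (Subgroup.nontrivial_iff_ne_bot E).2 hE1
  have hE2 : IsPGroup 2 E := hR.to_le hER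
  -- it is central
  have hEZ : ∀ r ∈ R, ∀ e ∈ E, r * e = e * r := by
    let Z := E ⊓ Subgroup.centralizer (R : Set G)
    have hZn : Z.Normal := inferInstance
    have hZ1 : Z ≠ ⊥ := by
      haveI := hR1
      haveI : Nontrivial R := (Subgroup.nontrivial_iff_ne_bot R).2 hR1
      letI : MulAction R E :=
        { smul := fun r e => ⟨(r : G) * e * (r : G)⁻¹, hEn.conj_mem e e.2 r⟩
          one_smul := fun e => Subtype.ext (show ((1 : R) : G) * e * _ = e by simp)
          mul_smul := fun r r' e => Subtype.ext (show ((r * r' : R) : G) * e * ((r * r' : R) : G)⁻¹ =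
              (r : G) * ((r' : G) * e * (r' : G)⁻¹) * (r : G)⁻¹ by rw [Subgroup.coe_mul]; group) }
      have hd : 2 ∣ Nat.card E := by
        obtain ⟨j, hj⟩ := hE2.exists_card_eq
        rcases j with _ | j
        · rw [pow_zero] at hj
          exact absurd (Subgroup.card_eq_one.1 hj) hE1
        · exact ⟨2 ^ j, by rw [hj, pow_succ']⟩
      have h1 : (1 : E) ∈ MulAction.fixedPoints R E := fun r => Subtype.ext
        (show (r : G) * ((1 : E) : G) * (r : G)⁻¹ = ((1 : E) : G) by simp)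
      obtain ⟨e, he, hne⟩ := hR.exists_fixed_point_of_prime_dvd_card_of_fixed_point E hd h1
      intro hbot
      refine hne (Subtype.ext ?_)
      have hmem : (e : G) ∈ Z := ⟨e.2, Subgroup.mem_centralizer_iff.2 fun r hr => by
        have := congrArg Subtype.val (he ⟨r, hr⟩)
        exact mul_inv_eq_iff_eq_mul.1 this⟩
      rw [hbot, Subgroup.mem_bot] at hmem
      rw [hmem]; rfl
    have hle := hmin ⟨hZn, inf_le_left.trans hER, hZ1⟩ inf_le_left
    exact fun r hr e he => Subgroup.mem_centralizer_iff.1 (hle he).2 r hr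
  -- the quotient
  let π := QuotientGroup.mk' E
  have hπ : Function.Surjective π := QuotientGroup.mk'_surjective E
  let R' := R.map π
  have hR'n : R'.Normal := hRn.map π hπ
  let f' : G ⧸ E →* X := QuotientGroup.lift E f (fun e he => hker.ge (hER he))
  have hf' : Function.Surjective f' := fun x => by
    obtain ⟨g, rfl⟩ := hf x; exact ⟨π g, rfl⟩
  have hker' : f'.ker = R' := by
    ext q
    obtain ⟨g, rfl⟩ := hπ q
    constructor
    · intro hg
      exact ⟨g, hker.le hg, rfl⟩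
    · rintro ⟨r, hr, e⟩
      rw [MonoidHom.mem_ker, ← e]
      exact hker.ge hr
  have hfree' : FreeOn R' := by
    rintro q ⟨p, hp, hp2, hq⟩ _ ⟨r, hr, rfl⟩ hc
    obtain ⟨y0, rfl⟩ := hπ q
    -- a lift of the same order
    obtain ⟨y, hy1, hyo, j, hj⟩ := exists_odd_lift π hπ (x := π y0)
      (fun e => hp.ne_one (hq.symm.trans (orderOf_eq_one_iff.2 e)))
      (by rw [hq]; exact hp.odd_of_ne_two hp2)
    have hne : orderOf y ≠ 1 := fun e => hy1 (orderOf_eq_one_iff.1 e)
    obtain ⟨l, hl, hld⟩ := Nat.exists_prime_and_dvd hne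
    obtain ⟨d, hd⟩ := hld
    have hl2 : l ≠ 2 := by
      rintro rfl
      exact (Nat.not_even_iff_odd.2 hyo) ⟨d, by rw [hd, two_mul]⟩
    have hd0 : d ≠ 0 := by rintro rfl; rw [mul_zero] at hd; simp [hd] at hyo
    have hord : orderOf (y ^ d) = l := by
      rw [orderOf_pow' _ hd0, hd, Nat.gcd_mul_left_left,
        Nat.mul_div_cancel _ (Nat.pos_of_ne_zero hd0)]
    have hcr : r⁻¹ * ((y ^ d) * r * (y ^ d)⁻¹) ∈ E := by
      refine (QuotientGroup.eq (s := E)).1 ?_
      show π r = π ((y ^ d) * r * (y ^ d)⁻¹)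
      rw [map_mul, map_mul, map_inv, map_pow, hj, ← pow_mul,
        (Commute.pow_left (hc : Commute (π y0) (π r)) _).eq, mul_inv_cancel_right]
    obtain ⟨e, he, hfix⟩ := exists_fixed_in_coset hE2 hl hl2 hord hcr
    have h1 := hfree (y ^ d) ⟨l, hl, hl2, hord⟩ (r * e) (mul_mem hr (hER he)) hfix
    show π r = 1
    have h2 := congrArg π h1
    rwa [map_mul, show π e = 1 from (QuotientGroup.eq_one_iff e).2 he, mul_one, map_one] at h2
  have hcard : Nat.card (G ⧸ E) ≤ k := by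
    have h1 := Subgroup.card_eq_card_quotient_mul_card_subgroup E
    have h2 : 2 ≤ Nat.card E := Finite.one_lt_card
    have h3 : 0 < Nat.card (G ⧸ E) := Nat.card_pos
    rw [h1] at hk
    by_contra hc
    have : (k + 1) * 2 ≤ Nat.card (G ⧸ E) * Nat.card E := Nat.mul_le_mul (by omega) h2
    omega
  have hsq' := ih R' hR'n (hR.map π) f' hf' hker' hfree' hcard
  have hab' : ∀ a ∈ R', ∀ b ∈ R', a * b = b * a := fun a ha b hb => by
    calc a * b = (a * b)⁻¹ := eq_inv_of_mul_eq_one_left (hsq' _ (mul_mem ha hb))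
      _ = b * a := by
        rw [mul_inv_rev, inv_eq_of_mul_eq_one_left (hsq' a ha), inv_eq_of_mul_eq_one_left (hsq' b hb)]
  have hEab : ∀ a ∈ E, ∀ b ∈ E, a * b = b * a := fun a ha b hb => hEZ a (hER ha) b hb
  have hEsq : ∀ e ∈ E, e * e = 1 := exponent_two D hD f hf hE2 hEab
    (fun r hr => hEZ r (hker.le hr)) (fun y hy r hr => hfree y hy r (hER hr))
  -- the commutator pairing
  haveI : R'.Normal := hR'n
  letI : CommGroup R' :=
    { (inferInstance : Group R') with mul_comm := fun a b => Subtype.ext (hab' _ a.2 _ b.2) }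
  letI : CommGroup E :=
    { (inferInstance : Group E) with mul_comm := fun a b => Subtype.ext (hEab _ a.2 _ b.2) }
  letI : Module (ZMod 2) (Additive R') := AddCommGroup.zmodModule fun x => by
    rw [two_nsmul]
    exact congrArg Additive.ofMul (Subtype.ext (hsq' _ x.toMul.2))
  letI : Module (ZMod 2) (Additive E) := AddCommGroup.zmodModule fun x => by
    rw [two_nsmul]
    exact congrArg Additive.ofMul (Subtype.ext (hEsq _ x.toMul.2))
  obtain ⟨φA, hφA, hA⟩ := exists_rep f hf 2 (A := R') (MulAut.conjNormal.comp π)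
    (fun g hg => MonoidHom.mem_ker.2 (MulEquiv.ext fun x => Subtype.ext (by
      rw [MonoidHom.comp_apply, MulAut.conjNormal_apply]
      show π g * (x : G ⧸ E) * (π g)⁻¹ = x
      rw [hab' _ ⟨g, hker.le hg, rfl⟩ _ x.2, mul_inv_cancel_right])))
    (fun y hy ho x hx => by
      have e := congrArg Subtype.val hx
      rw [MonoidHom.comp_apply, MulAut.conjNormal_apply] at e
      by_cases hy' : π y = 1
      · exfalso
        have hyR : y ∈ R := hER ((QuotientGroup.eq_one_iff y).1 hy')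
        obtain ⟨j, hj⟩ := hR ⟨y, hyR⟩
        have hj' : y ^ 2 ^ j = 1 := congrArg Subtype.val hj
        exact hy (orderOf_eq_one_iff.1 (Nat.eq_one_of_dvd_coprimes
          (Nat.Coprime.pow_left j (Nat.coprime_two_left.2 ho)) (orderOf_dvd_of_pow_eq_one hj') dvd_rfl))
      · exact Subtype.ext (hfree'.odd hy' (Odd.of_dvd_nat ho (orderOf_map_dvd π y)) x.2
          (mul_inv_eq_iff_eq_mul.1 e)))
  obtain ⟨φC, hφC, hC⟩ := exists_rep f hf 2 (A := E) MulAut.conjNormal
    (fun g hg => MonoidHom.mem_ker.2 (MulEquiv.ext fun x => Subtype.ext (by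
      rw [MulAut.conjNormal_apply]
      show g * (x : G) * g⁻¹ = x
      rw [hEZ g (hker.le hg) x x.2, mul_inv_cancel_right])))
    (fun y hy ho x hx => by
      have e := congrArg Subtype.val hx
      rw [MulAut.conjNormal_apply] at e
      exact Subtype.ext (hfree.odd hy ho (hER x.2) (mul_inv_eq_iff_eq_mul.1 e)))
  have hrep : ∀ a : R', ∃ r ∈ R, π r = a := fun a => a.2
  choose rep hrepR hrepπ using hrep
  have hcomm : ∀ r ∈ R, ∀ s ∈ R, r * s * r⁻¹ * s⁻¹ ∈ E := fun r hr s hs => by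
    refine (QuotientGroup.eq_one_iff _).1 ?_
    show π (r * s * r⁻¹ * s⁻¹) = 1
    rw [map_mul, map_mul, map_mul, map_inv, map_inv, hab' _ ⟨r, hr, rfl⟩ _ ⟨s, hs, rfl⟩,
      mul_inv_cancel_right, mul_inv_cancel]
  have hleft : ∀ r ∈ R, ∀ r' ∈ R, ∀ s ∈ R, (r * r') * s * (r * r')⁻¹ * s⁻¹ =
      (r * s * r⁻¹ * s⁻¹) * (r' * s * r'⁻¹ * s⁻¹) := fun r hr r' hr' s hs => by
    have hc := hcomm r' hr' s hs
    calc (r * r') * s * (r * r')⁻¹ * s⁻¹
        = r * (r' * s * r'⁻¹ * s⁻¹) * r⁻¹ * (r * s * r⁻¹ * s⁻¹) := by group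
      _ = (r' * s * r'⁻¹ * s⁻¹) * (r * s * r⁻¹ * s⁻¹) := by
        rw [hEZ r hr _ hc, mul_inv_cancel_right]
      _ = _ := (hEab _ (hcomm r hr s hs) _ hc).symm
  have hright : ∀ r ∈ R, ∀ s ∈ R, ∀ s' ∈ R, r * (s * s') * r⁻¹ * (s * s')⁻¹ =
      (r * s * r⁻¹ * s⁻¹) * (r * s' * r⁻¹ * s'⁻¹) := fun r hr s hs s' hs' => by
    have hc := hcomm r hr s' hs'
    calc r * (s * s') * r⁻¹ * (s * s')⁻¹
        = (r * s * r⁻¹ * s⁻¹) * (s * (r * s' * r⁻¹ * s'⁻¹) * s⁻¹) := by group
      _ = _ := by rw [hEZ s hs _ hc, mul_inv_cancel_right]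
  have hEc : ∀ e ∈ E, ∀ s ∈ R, e * s * e⁻¹ * s⁻¹ = 1 := fun e he s hs => by
    rw [← hEZ s hs e he, mul_inv_cancel_right, mul_inv_cancel]
  have hwd : ∀ r ∈ R, ∀ r' ∈ R, ∀ s ∈ R, ∀ s' ∈ R, π r = π r' → π s = π s' →
      r * s * r⁻¹ * s⁻¹ = r' * s' * r'⁻¹ * s'⁻¹ := by
    intro r hr r' hr' s hs s' hs' e1 e2
    have d1 : r⁻¹ * r' ∈ E := (QuotientGroup.eq (s := E)).1 e1
    have d2 : s⁻¹ * s' ∈ E := (QuotientGroup.eq (s := E)).1 e2
    have c1 := hleft r hr _ (hER d1) s' hs'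
    rw [mul_inv_cancel_left, hEc _ d1 s' hs', mul_one] at c1
    have c2 := hright r hr s hs _ (hER d2)
    rw [mul_inv_cancel_left] at c2
    have c3 : r * (s⁻¹ * s') * r⁻¹ * (s⁻¹ * s')⁻¹ = 1 := by
      rw [hEZ r hr _ d2, mul_inv_cancel_right, mul_inv_cancel]
    rw [c3, mul_one] at c2
    rw [c1, c2]
  let c : R' → R' → E := fun a b =>
    ⟨rep a * rep b * (rep a)⁻¹ * (rep b)⁻¹, hcomm _ (hrepR a) _ (hrepR b)⟩
  have hc1 : ∀ a a' b, c (a * a') b = c a b * c a' b := fun a a' b => Subtype.ext (by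
    show rep (a * a') * rep b * (rep (a * a'))⁻¹ * (rep b)⁻¹ = _
    rw [hwd _ (hrepR _) (rep a * rep a') (mul_mem (hrepR a) (hrepR a')) _ (hrepR b) _ (hrepR b)
      (by rw [map_mul, hrepπ, hrepπ, hrepπ]; rfl) rfl, hleft _ (hrepR a) _ (hrepR a') _ (hrepR b)]
    rfl)
  have hc2 : ∀ a b b', c a (b * b') = c a b * c a b' := fun a b b' => Subtype.ext (by
    show rep a * rep (b * b') * (rep a)⁻¹ * (rep (b * b'))⁻¹ = _
    rw [hwd _ (hrepR a) _ (hrepR a) _ (hrepR _) (rep b * rep b') (mul_mem (hrepR b) (hrepR b')) rfl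
      (by rw [map_mul, hrepπ, hrepπ, hrepπ]; rfl), hright _ (hrepR a) _ (hrepR b) _ (hrepR b')]
    rfl)
  let ω0 : Additive R' →+ Additive R' →+ Additive E :=
    AddMonoidHom.mk' (fun a => AddMonoidHom.mk'
      (fun b => Additive.ofMul (c a.toMul b.toMul))
      (fun b b' => congrArg Additive.ofMul (hc2 _ _ _)))
      (fun a a' => AddMonoidHom.ext fun b => congrArg Additive.ofMul (hc1 _ _ _))
  let ω : Additive R' →ₗ[ZMod 2] Additive R' →ₗ[ZMod 2] Additive E :=
    (AddMonoidHom.mk' (fun a => (ω0 a).toZModLinearMap 2) (fun a a' => LinearMap.ext fun b => by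
      simp)).toZModLinearMap 2
  have hω : ∀ x a b, ω (φA x a) (φA x b) = φC x (ω a b) := by
    intro x a b
    obtain ⟨g, rfl⟩ := hf x
    obtain ⟨a, rfl⟩ := Additive.ofMul.surjective a
    obtain ⟨b, rfl⟩ := Additive.ofMul.surjective b
    show Additive.ofMul (c (φA (f g) (Additive.ofMul a)).toMul (φA (f g) (Additive.ofMul b)).toMul) =
      φC (f g) (Additive.ofMul (c a b))
    rw [hφA, hφA, hφC]
    refine congrArg Additive.ofMul (Subtype.ext ?_)
    rw [MulAut.conjNormal_apply]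
    show rep _ * rep _ * (rep _)⁻¹ * (rep _)⁻¹ = g * (rep a * rep b * (rep a)⁻¹ * (rep b)⁻¹) * g⁻¹
    have hR1' : ∀ a, g * rep a * g⁻¹ ∈ R := fun a => hRn.conj_mem _ (hrepR a) g
    have hπ1 : ∀ a : R', π (g * rep a * g⁻¹) =
        ((MulAut.conjNormal.comp π) g a : R') := fun a => by
      rw [MonoidHom.comp_apply, MulAut.conjNormal_apply, map_mul, map_mul, map_inv, hrepπ]
    rw [hwd _ (hrepR _) (g * rep a * g⁻¹) (hR1' a) _ (hrepR _) (g * rep b * g⁻¹) (hR1' b)
      (by rw [hrepπ, hπ1]; rfl) (by rw [hrepπ, hπ1]; rfl)]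
    group
  -- hence commutative
  have hRab : ∀ a ∈ R, ∀ b ∈ R, a * b = b * a := by
    intro a ha b hb
    have h1 := pairing_trivial D hD φA φC hA hC ω hω (Additive.ofMul ⟨π a, a, ha, rfl⟩)
      (Additive.ofMul ⟨π b, b, hb, rfl⟩)
    have h2 : rep ⟨π a, a, ha, rfl⟩ * rep ⟨π b, b, hb, rfl⟩ * (rep ⟨π a, a, ha, rfl⟩)⁻¹ *
        (rep ⟨π b, b, hb, rfl⟩)⁻¹ = 1 := congrArg Subtype.val (congrArg Additive.toMul h1)
    rw [hwd _ (hrepR _) a ha _ (hrepR _) b hb (hrepπ _) (hrepπ _)] at h2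
    exact mul_inv_eq_iff_eq_mul.1 (mul_inv_eq_one.1 h2)
  exact exponent_two D hD f hf hR hRab (fun r hr a ha => hRab r (hker.le hr) a ha) hfree

/-- The radical is elementary abelian. -/
theorem elemAbelian_of_frame (D : Frame X F n) (hD : Frame.IsGood.{u} D) (R : Subgroup G) [R.Normal]
    (hR : IsPGroup 2 R) (f : G →* X) (hf : Function.Surjective f) (hker : f.ker = R)
    (hfree : FreeOn R) : (∀ x ∈ R, x * x = 1) ∧ ∀ a ∈ R, ∀ b ∈ R, a * b = b * a := by
  have hsq := elemAbelian_aux D hD (Nat.card G) R inferInstance hR f hf hker hfree le_rfl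
  refine ⟨hsq, fun a ha b hb => ?_⟩
  have h1 := hsq _ (mul_mem ha hb)
  calc a * b = (a * b)⁻¹ := eq_inv_of_mul_eq_one_left h1
    _ = b * a := by
      rw [mul_inv_rev, inv_eq_of_mul_eq_one_left (hsq a ha), inv_eq_of_mul_eq_one_left (hsq b hb)]

end Cfsg.Lib.CIT.Rad2
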