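import Mathlib
import Cfsg.Agent.Lib.CIT.Rad2.Base

/-!
Unipotent groups in characteristic two, and coefficients of additive and biadditive functions.
-/

set_option autoImplicit false
set_option linter.unusedSectionVars false

namespace Cfsg.Lib.CIT.Rad2

open Finset

variable {G : Type*} [Group G] {F : Type*} [Field F]
variable {V : Type*} [AddCommGroup V] [Module F V]

/-- A two-group has a fixed vector in each nonzero stable submodule. -/
theorem exists_fixed [CharP F 2] [Finite V] {ρ : G →* Module.End F V} {T : Subgroup G}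
    (hT : IsPGroup 2 T) {X : Submodule F V} (hX : ∀ u ∈ T, ∀ v ∈ X, ρ u v ∈ X) (hne : X ≠ ⊥) :
    ∃ v ∈ X, v ≠ 0 ∧ ∀ u ∈ T, ρ u v = v := by
  classical
  haveI : Fact (Nat.Prime 2) := ⟨Nat.prime_two⟩
  letI : MulAction T X :=
    { smul := fun x v => ⟨ρ (x : G) v, hX x x.2 v v.2⟩
      one_smul := fun v => Subtype.ext (by show ρ ((1 : T) : G) v = v; simp)
      mul_smul := fun x y v => Subtype.ext (by
        show ρ ((x * y : T) : G) v = ρ (x : G) (ρ (y : G) v); simp) }
  have h0 : (0 : X) ∈ MulAction.fixedPoints T X := fun x => Subtype.ext (map_zero (ρ (x : G)))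
  have hc : 2 ∣ Nat.card X := by
    obtain ⟨v, hv, hv0⟩ := Submodule.exists_mem_ne_zero_of_ne_bot hne
    have h2 : (2 : ℕ) • (⟨v, hv⟩ : X) = 0 := by
      rw [← Nat.cast_smul_eq_nsmul F, CharP.cast_eq_zero, zero_smul]
    exact addOrderOf_eq_prime h2 (fun e => hv0 (congrArg Subtype.val e)) ▸
      addOrderOf_dvd_natCard (⟨v, hv⟩ : X)
  obtain ⟨v, hv, hne'⟩ := hT.exists_fixed_point_of_prime_dvd_card_of_fixed_point X hc h0
  exact ⟨v, v.2, fun e => hne' (Subtype.ext e.symm), fun u hu => congrArg Subtype.val (hv ⟨u, hu⟩)⟩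

/-- A two-group moves a nonzero stable submodule into a proper submodule. -/
theorem eq_bot_of_le_aug [CharP F 2] [Finite V] {ρ : G →* Module.End F V} {T : Subgroup G}
    (hT : IsPGroup 2 T) {X : Submodule F V} (hX : ∀ u ∈ T, ∀ v ∈ X, ρ u v ∈ X)
    (h : ∀ Y : Submodule F V, (∀ u ∈ T, ∀ v ∈ X, ρ u v - v ∈ Y) → X ≤ Y) : X = ⊥ := by
  classical
  by_contra hne
  haveI : Finite (Submodule F V) := Finite.of_injective _ SetLike.coe_injective
  have hne' : {Y : Submodule F V | Y < X ∧ ∀ u ∈ T, ∀ v ∈ Y, ρ u v ∈ Y}.Nonempty :=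
    ⟨⊥, bot_lt_iff_ne_bot.2 hne, fun u _ v hv => by
      rw [Submodule.mem_bot] at hv ⊢; rw [hv, map_zero]⟩
  obtain ⟨Y, ⟨hYX, hY⟩, hmax⟩ := Set.Finite.exists_maximal (Set.toFinite _) hne'
  let ρT : T →* Module.End F V := ρ.comp T.subtype
  have hY' : Inv ρT Y := fun u v hv => hY u u.2 v hv
  let σ := quotRep ρT hY'
  haveI : Finite (V ⧸ Y) := Finite.of_surjective _ (Submodule.Quotient.mk_surjective Y)
  have hX' : ∀ u ∈ (⊤ : Subgroup T), ∀ w ∈ X.map Y.mkQ, σ u w ∈ X.map Y.mkQ := fun u _ w hw => by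
    obtain ⟨v, hv, rfl⟩ := hw
    exact ⟨ρ (u : G) v, hX u u.2 v hv, rfl⟩
  have hX0 : X.map Y.mkQ ≠ ⊥ := fun e => by
    obtain ⟨v, hv, hvY⟩ := SetLike.exists_of_lt hYX
    have : Y.mkQ v ∈ X.map Y.mkQ := ⟨v, hv, rfl⟩
    rw [e, Submodule.mem_bot, Submodule.mkQ_apply, Submodule.Quotient.mk_eq_zero] at this
    exact hvY this
  obtain ⟨_, ⟨v, hv, rfl⟩, hv0, hfix⟩ := exists_fixed (ρ := σ) (T := (⊤ : Subgroup T))
    (hT.to_subgroup _) hX' hX0
  have hstep : ∀ u ∈ T, ρ u v - v ∈ Y := fun u hu => by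
    have h1 := hfix ⟨u, hu⟩ (Subgroup.mem_top _)
    exact (Submodule.Quotient.eq Y).1 h1
  have hY2 : Y ⊔ F ∙ v = X := by
    by_contra hc
    have hle : Y ⊔ F ∙ v ≤ X := sup_le hYX.le ((Submodule.span_singleton_le_iff_mem _ _).2 hv)
    have hmem : ∀ u ∈ T, ∀ w ∈ Y ⊔ F ∙ v, ρ u w ∈ Y ⊔ F ∙ v := fun u hu w hw => by
      obtain ⟨y, hy, x, hx, rfl⟩ := Submodule.mem_sup.1 hw
      obtain ⟨c, rfl⟩ := Submodule.mem_span_singleton.1 hx
      rw [map_add, map_smul]
      refine add_mem (Submodule.mem_sup_left (hY u hu y hy)) (Submodule.smul_mem _ c ?_)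
      rw [show ρ u v = (ρ u v - v) + v by abel]
      exact add_mem (Submodule.mem_sup_left (hstep u hu))
        (Submodule.mem_sup_right (Submodule.mem_span_singleton_self v))
    have h2 := hmax ⟨lt_of_le_of_ne hle hc, hmem⟩ le_sup_left
    exact hv0 ((Submodule.Quotient.mk_eq_zero Y).2
      (h2 (Submodule.mem_sup_right (Submodule.mem_span_singleton_self v))))
  refine hYX.not_ge (h Y fun u hu w hw => ?_)
  obtain ⟨y, hy, x, hx, rfl⟩ := Submodule.mem_sup.1 (hY2.symm ▸ hw : w ∈ Y ⊔ F ∙ v)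
  obtain ⟨c, rfl⟩ := Submodule.mem_span_singleton.1 hx
  rw [map_add, map_smul, show ρ u y + c • ρ u v - (y + c • v) = (ρ u y - y) + c • (ρ u v - v) by
    rw [smul_sub]; abel]
  exact add_mem (sub_mem (hY u hu y hy) hy) (Y.smul_mem c (hstep u hu))

variable [Fintype F] [DecidableEq F] {n : ℕ}

theorem map_coef {W : Type*} [AddCommGroup W] [Module F W] (φ : V →ₗ[F] W) (g : F → V) (i : ZMod n) :
    φ (coef g i) = coef (fun b => φ (g b)) i := by
  simp only [coef, proj, map_sum, map_smul]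

theorem coef_apply {W : Type*} [AddCommGroup W] [Module F W] (g : F → V →ₗ[F] W) (i : ZMod n)
    (v : V) : coef g i v = coef (fun b => g b v) i := by
  simp only [coef, proj, LinearMap.sum_apply, LinearMap.smul_apply]

theorem coef_mem (Y : Submodule F V) {g : F → V} (h : ∀ b, g b ∈ Y) (i : ZMod n) : coef g i ∈ Y :=
  Submodule.sum_mem _ fun _ _ => Y.smul_mem _ (h _)

theorem coef_zero (i : ZMod n) : coef (fun _ : F => (0 : V)) i = 0 := by simp [coef, proj]

/-- The coefficient of a pair of Frobenius powers in a biadditive function. -/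
noncomputable def coef₂ (Φ : F → F → V) (i l : ZMod n) : V :=
  coef (fun b => coef (fun e => Φ b e) l) i

/-- A biadditive function. -/
structure Biadd (Φ : F → F → V) : Prop where
  left : ∀ b b' e, Φ (b + b') e = Φ b e + Φ b' e
  right : ∀ b e e', Φ b (e + e') = Φ b e + Φ b e'

variable [NeZero n] (hF : Fintype.card F = 2 ^ n) (hn : 1 < n)
include hF hn

theorem expand₂ {Φ : F → F → V} (h : Biadd Φ) (b e : F) :
    Φ b e = ∑ i : ZMod n, ∑ l : ZMod n, (b ^ (2 ^ i.val) * e ^ (2 ^ l.val)) • coef₂ Φ i l := by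
  rw [expand hF hn (g := Φ b) (h.right b) e, Finset.sum_comm]
  refine Finset.sum_congr rfl fun l _ => ?_
  rw [expand hF hn (g := fun b => coef (fun e => Φ b e) l) (fun x y => by
    simp only [coef, proj, h.left, smul_add, Finset.sum_add_distrib]) b, Finset.smul_sum]
  exact Finset.sum_congr rfl fun i _ => by rw [coef₂, smul_smul, mul_comm]

theorem eq_zero_of_coef₂ {Φ : F → F → V} (h : Biadd Φ) (h0 : ∀ i l : ZMod n, coef₂ Φ i l = 0)
    (b e : F) : Φ b e = 0 := by
  rw [expand₂ hF hn h b e]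
  exact Finset.sum_eq_zero fun i _ => Finset.sum_eq_zero fun l _ => by rw [h0, smul_zero]

theorem eq_zero_of_coef {g : F → V} (h : ∀ x y, g (x + y) = g x + g y)
    (h0 : ∀ i : ZMod n, coef g i = 0) (b : F) : g b = 0 := by
  rw [expand hF hn h b]
  exact Finset.sum_eq_zero fun i _ => by rw [h0, smul_zero]

/-- The sums of the coefficients of equal weights along a curve on which the function vanishes. -/
theorem class_sum {Φ : F → F → V} (h : Biadd Φ) (ν : Wt n) (hd : ∀ s : Fˣ, Φ (ch ν s) s = 0) (w : Wt n) :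
    ∑ q ∈ (univ : Finset (ZMod n × ZMod n)).filter (fun q => ν * pw q.1 + pw q.2 = w),
      coef₂ Φ q.1 q.2 = 0 := by
  haveI := neZero_mod (n := n)
  rw [← proj_sum hF univ w (fun q : ZMod n × ZMod n => ν * pw q.1 + pw q.2)
    (fun q => coef₂ Φ q.1 q.2) (fun _ : Fˣ => (0 : V)) fun s => ?_]
  · simp [proj]
  · rw [← hd s, expand₂ hF hn h, Fintype.sum_prod_type]
    refine Finset.sum_congr rfl fun i _ => Finset.sum_congr rfl fun l _ => ?_
    rw [ch_add hF, ch_pw hF l]
    congr 2
    rw [pw, show ((2 : Wt n) ^ i.val) = ((2 ^ i.val : ℕ) : Wt n) by simp, ch_mul_natCast hF]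

/-- The diagonal coefficients of a biadditive function vanishing on the diagonal. -/
theorem coef₂_self {Φ : F → F → V} (h : Biadd Φ) (hd : ∀ s : F, Φ s s = 0) (p : ZMod n) :
    coef₂ Φ p p = 0 := by
  classical
  haveI := charTwo hF
  have hsymm : ∀ b e, Φ b e = Φ e b := fun b e => by
    have h1 := hd (b + e)
    rw [h.left, h.right, h.right, hd, hd, zero_add, add_zero] at h1
    rw [eq_neg_of_add_eq_zero_left h1, ← neg_one_smul F, CharTwo.neg_eq, one_smul]
  have hsymm' : ∀ i l : ZMod n, coef₂ Φ i l = coef₂ Φ l i := fun i l => by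
    simp only [coef₂, coef, proj, Finset.smul_sum, smul_smul]
    rw [Finset.sum_comm]
    exact Finset.sum_congr rfl fun s _ => Finset.sum_congr rfl fun t _ => by rw [hsymm, mul_comm]
  have hsum := class_sum hF hn h (1 : Wt n) (fun s => by
    rw [show (1 : Wt n) = pw (0 : ZMod n) from pw_zero.symm, ch_pw hF, ZMod.val_zero, pow_zero,
      pow_one]; exact hd s) (pw p + pw p)
  simp only [one_mul] at hsum
  -- only the pair on the diagonal has this weight
  rw [Finset.sum_eq_single (p, p)] at hsum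
  · exact hsum
  · rintro ⟨i, l⟩ hq hne
    simp only [Finset.mem_filter, Finset.mem_univ, true_and] at hq
    exfalso
    by_cases hil : i = l
    · subst hil
      rw [pw_succ, pw_succ] at hq
      exact hne (by rw [add_right_cancel (pw_injective hn hq)])
    · rw [pw_succ p] at hq
      have := pw_injective hn
      have hone : ({p + 1} : Finset (ZMod n)) ≠ univ := fun e => by
        have h2 := congrArg Finset.card e
        rw [card_singleton, card_univ, ZMod.card] at h2
        omega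
      by_cases hu : ({i, l} : Finset (ZMod n)) = univ
      · have huniv : ∑ i : ZMod n, pw i = (0 : Wt n) := by
          have h1 : ∑ i : ZMod n, pw (i + 1) = ∑ i : ZMod n, (pw i : Wt n) :=
            Fintype.sum_equiv (Equiv.addRight (1 : ZMod n)) _ _ fun i => rfl
          simp only [← pw_succ, Finset.sum_add_distrib] at h1
          exact add_eq_left.1 h1
        rw [← Finset.sum_pair hil, hu, huniv] at hq
        haveI : Fact (1 < 2 ^ n - 1) := ⟨by
          have : 2 ^ 2 ≤ 2 ^ n := Nat.pow_le_pow_right two_pos hn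
          omega⟩
        exact (isUnit_pw (p + 1)).ne_zero hq.symm
      · have h2 := congrArg Finset.card (sum_pw_eq hu hone
          (by rw [Finset.sum_pair hil, Finset.sum_singleton, hq]))
        rw [Finset.card_pair hil, card_singleton] at h2
        omega
  · simp

end Cfsg.Lib.CIT.Rad2
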