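import Mathlib
import Cfsg.Agent.Lib.CIT.Rad2.Filt

/-!
The two-dimensional linear groups over fields of characteristic two, and their representations without
fixed points of odd elements.
-/

set_option autoImplicit false
set_option linter.unusedSectionVars false

universe u

namespace Cfsg.Lib.CIT.Rad2

open Finset
open scoped MatrixGroups

variable {F : Type} [Field F] [Fintype F] [DecidableEq F] {n : ℕ}

/-- The upper unitriangular element. -/
def slU (b : F) : SL(2, F) := ⟨!![1, b; 0, 1], by simp [Matrix.det_fin_two_of]⟩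

/-- The antidiagonal element. -/
def slW (F : Type) [Field F] [CharP F 2] : SL(2, F) :=
  ⟨!![0, 1; 1, 0], by simp [Matrix.det_fin_two_of, CharTwo.neg_eq]⟩

/-- The diagonal elements. -/
def slK (F : Type) [Field F] : Fˣ →* SL(2, F) where
  toFun s := ⟨!![(s : F), 0; 0, ((s⁻¹ : Fˣ) : F)], by simp [Matrix.det_fin_two_of]⟩
  map_one' := Subtype.ext (by
    ext i j; fin_cases i <;> fin_cases j <;> simp)
  map_mul' s s' := Subtype.ext (by
    show !![((s * s' : Fˣ) : F), 0; 0, (((s * s')⁻¹ : Fˣ) : F)] =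
      !![(s : F), 0; 0, ((s⁻¹ : Fˣ) : F)] * !![(s' : F), 0; 0, ((s'⁻¹ : Fˣ) : F)]
    ext i j
    fin_cases i <;> fin_cases j <;> simp [Matrix.mul_apply, Fin.sum_univ_two, mul_comm])

omit [Fintype F] [DecidableEq F] in
theorem slU_add (b c : F) : slU (b + c) = slU b * slU c := Subtype.ext (by
  show !![1, b + c; 0, 1] = !![1, b; 0, 1] * !![1, c; 0, 1]
  ext i j
  fin_cases i <;> fin_cases j <;> simp [Matrix.mul_apply, Fin.sum_univ_two, add_comm])

/-- The root group. -/
def slT (F : Type) [Field F] : Subgroup SL(2, F) :=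
  MonoidHom.range (MonoidHom.mk' (fun b : Multiplicative F => slU (Multiplicative.toAdd b))
    fun b c => slU_add _ _)

theorem mem_slT {x : SL(2, F)} : x ∈ slT F ↔ ∃ b, x = slU b :=
  ⟨fun ⟨b, hb⟩ => ⟨Multiplicative.toAdd b, hb.symm⟩,
    fun ⟨b, hb⟩ => ⟨Multiplicative.ofAdd b, hb.symm⟩⟩

variable [CharP F 2]

theorem slW_mul : slW F * slW F = 1 := Subtype.ext (by
  show !![(0 : F), 1; 1, 0] * !![0, 1; 1, 0] = 1
  ext i j
  fin_cases i <;> fin_cases j <;> simp [Matrix.mul_apply, Fin.sum_univ_two])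

theorem slUW_order : slU (1 : F) * slW F ≠ 1 ∧ orderOf (slU (1 : F) * slW F) = 3 := by
  haveI : Fact (Nat.Prime 3) := ⟨by norm_num⟩
  have hne : slU (1 : F) * slW F ≠ 1 := fun e => by
    have e0 := congrFun (congrFun (congrArg Subtype.val e) 1) 1
    change (!![1, (1 : F); 0, 1] * !![0, 1; 1, 0] : Matrix (Fin 2) (Fin 2) F) 1 1 = (1 : Matrix (Fin 2) (Fin 2) F) 1 1 at e0
    simp [Matrix.mul_apply, Fin.sum_univ_two] at e0
  refine ⟨hne, orderOf_eq_prime (Subtype.ext ?_) hne⟩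
  show (!![1, (1 : F); 0, 1] * !![0, 1; 1, 0]) ^ 3 = 1
  simp only [pow_succ, pow_zero, one_mul]
  ext i j
  fin_cases i <;> fin_cases j <;>
    simp [Matrix.mul_apply, Fin.sum_univ_two, CharTwo.add_self_eq_zero]

theorem slK_slU (s : Fˣ) (b : F) : slK F s * slU b = slU ((s : F) * (s : F) * b) * slK F s :=
  Subtype.ext (by
    show !![(s : F), 0; 0, ((s⁻¹ : Fˣ) : F)] * !![1, b; 0, 1] =
      !![1, (s : F) * (s : F) * b; 0, 1] * !![(s : F), 0; 0, ((s⁻¹ : Fˣ) : F)]
    have := s.ne_zero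
    ext i j
    fin_cases i <;> fin_cases j <;>
      simp [Matrix.mul_apply, Fin.sum_univ_two, Units.val_inv_eq_inv_val] <;> field_simp)

omit [Fintype F] [DecidableEq F] in
theorem slW_slK (s : Fˣ) : slW F * slK F s = slK F s⁻¹ * slW F := Subtype.ext (by
  show !![(0 : F), 1; 1, 0] * !![(s : F), 0; 0, ((s⁻¹ : Fˣ) : F)] =
    !![((s⁻¹ : Fˣ) : F), 0; 0, ((s⁻¹⁻¹ : Fˣ) : F)] * !![0, 1; 1, 0]
  ext i j
  fin_cases i <;> fin_cases j <;> simp [Matrix.mul_apply, Fin.sum_univ_two])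

theorem ch_two [NeZero n] (hF : Fintype.card F = 2 ^ n) (s : Fˣ) :
    ch (2 : Wt n) s = (s : F) * (s : F) := by
  have h := ch_natCast hF 2 s
  rw [Nat.cast_two] at h
  rw [h, sq]

/-- The two-dimensional linear group as a group with a split BN pair. -/
def slFrame (hn : 1 < n) (hF : Fintype.card F = 2 ^ n) : Frame SL(2, F) F n where
  z := slU
  k := slK F
  t := slW F
  T := slT F
  δ := 2
  hn := hn
  card := hF
  isUnit_δ := by haveI : NeZero n := ⟨by omega⟩; exact pw_one (n := n) ▸ isUnit_pw 1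
  z_add := slU_add
  z_mem b := mem_slT.2 ⟨b, rfl⟩
  z_comm b x hx := by
    obtain ⟨c, rfl⟩ := mem_slT.1 hx
    rw [← slU_add, ← slU_add, add_comm]
  k_z s b := by
    haveI : NeZero n := ⟨by omega⟩
    rw [ch_two hF, slK_slU]
  k_T s x hx := by
    obtain ⟨c, rfl⟩ := mem_slT.1 hx
    exact mem_slT.2 ⟨_, by rw [slK_slU, mul_inv_cancel_right]⟩
  k_injective s s' e := Units.ext (congrFun (congrFun (congrArg Subtype.val e) 0) 0)
  two_group := fun ⟨x, hx⟩ => by
    obtain ⟨c, rfl⟩ := mem_slT.1 hx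
    refine ⟨1, Subtype.ext ?_⟩
    show slU c ^ 2 ^ 1 = 1
    rw [pow_one, sq, ← slU_add, CharTwo.add_self_eq_zero]
    refine Subtype.ext ?_
    show !![(1 : F), 0; 0, 1] = 1
    ext i j; fin_cases i <;> fin_cases j <;> simp
  t_mul := slW_mul
  t_k := slW_slK
  odd_pair := by
    obtain ⟨hne, ho⟩ := slUW_order (F := F)
    have e : slU (1 : F) * (slW F * slU 1 * slW F) = (slU (1 : F) * slW F) ^ 2 := by
      rw [sq]; simp only [mul_assoc]
    rw [e]
    refine ⟨fun e2 => ?_, Odd.of_dvd_nat (by decide : Odd 3) (ho ▸ orderOf_pow_dvd 2)⟩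
    have := orderOf_dvd_of_pow_eq_one e2
    rw [ho] at this
    norm_num at this
  bruhat g := by
    have hd : g.1 0 0 * g.1 1 1 - g.1 0 1 * g.1 1 0 = 1 := by
      have := g.2; rwa [Matrix.det_fin_two] at this
    by_cases hc : g.1 1 0 = 0
    · rw [hc, mul_zero, sub_zero] at hd
      have ha : g.1 0 0 ≠ 0 := left_ne_zero_of_mul_eq_one hd
      refine Or.inl ⟨slU (g.1 0 1 * g.1 0 0), mem_slT.2 ⟨_, rfl⟩, Units.mk0 _ ha, Subtype.ext ?_⟩
      show g.1 = !![1, g.1 0 1 * g.1 0 0; 0, 1] *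
        !![g.1 0 0, 0; 0, (((Units.mk0 _ ha)⁻¹ : Fˣ) : F)]
      have hinv : g.1 1 1 = (g.1 0 0)⁻¹ := eq_inv_of_mul_eq_one_right hd
      ext i j
      fin_cases i <;> fin_cases j <;> simp [Matrix.mul_apply, Fin.sum_univ_two, hc, hinv, ha]
    · refine Or.inr ⟨slU (g.1 0 0 / g.1 1 0), mem_slT.2 ⟨_, rfl⟩, Units.mk0 _ hc,
        slU (g.1 1 1 / g.1 1 0), mem_slT.2 ⟨_, rfl⟩, Subtype.ext ?_⟩
      show g.1 = !![1, g.1 0 0 / g.1 1 0; 0, 1] * !![0, 1; 1, 0] *
        !![g.1 1 0, 0; 0, (((Units.mk0 _ hc)⁻¹ : Fˣ) : F)] * !![1, g.1 1 1 / g.1 1 0; 0, 1]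
      ext i j
      fin_cases i <;> fin_cases j <;> simp [Matrix.mul_apply, Fin.sum_univ_two] <;> field_simp
      linear_combination (-1 : F) * hd - CharTwo.two_eq_zero (R := F)

/-- The two-dimensional linear groups are good. -/
theorem slFrame_isGood (hn : 1 < n) (hF : Fintype.card F = 2 ^ n) :
    Frame.IsGood.{u} (slFrame (F := F) hn hF) := by
  intro V _ _ _ ρ hρ hI a lam ha
  haveI : NeZero n := ⟨by omega⟩
  haveI := neZero_mod (n := n)
  have hdbl : ∀ v : V, v + v = 0 := fun v => by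
    rw [← two_smul F v, CharTwo.two_eq_zero, zero_smul]
  have hsub : ∀ v w : V, v - w = v + w := fun v w => by
    rw [sub_eq_add_neg, neg_eq_of_add_eq_zero_left (hdbl w)]
  obtain ⟨y, hy⟩ : ∃ y, y = ρ (slW F) a := ⟨_, rfl⟩
  obtain ⟨hne, ho⟩ := slUW_order (F := F)
  have hrr : ∀ g g' v, ρ g (ρ g' v) = ρ (g * g') v := fun g g' v => by rw [map_mul]; rfl
  have hfix : ∀ b, ρ (slU b) a = a := fun b => ha.fix _ (mem_slT.2 ⟨b, rfl⟩)
  have hUU : slU (1 : F) * slU 1 = 1 := by
    rw [← slU_add, CharTwo.add_self_eq_zero]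
    refine Subtype.ext ?_
    show !![(1 : F), 0; 0, 1] = 1
    ext i j; fin_cases i <;> fin_cases j <;> simp
  have hrel : ρ (slU 1) y - y = a := by
    have h3 : (slU (1 : F) * slW F) ^ 3 = 1 := by rw [← ho]; exact pow_orderOf_eq_one _
    have hs := hρ.sum_pow hne (by rw [ho]; decide) a
    rw [ho] at hs
    simp only [Finset.sum_range_succ, Finset.sum_range_zero, zero_add, pow_zero, map_one,
      Module.End.one_apply, pow_one] at hs
    have h2 : (slU (1 : F) * slW F) ^ 2 = slW F * slU 1 := by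
      have h4 : slW F * slU 1 * (slU 1 * slW F) = 1 := by
        rw [mul_assoc, ← mul_assoc (slU 1), hUU, one_mul, slW_mul]
      rw [eq_inv_of_mul_eq_one_left h4, eq_inv_iff_mul_eq_one, ← pow_succ]
      exact h3
    rw [h2, ← hrr, ← hrr, hfix, ← hy] at hs
    rw [hsub]
    have h5 : ρ (slU 1) y + y + a = 0 := by rw [← hs]; abel
    rw [← hsub] at h5
    exact sub_eq_zero.1 h5
  have hk : ∀ s : Fˣ, ρ (slK F s) y = ch (-lam) s • y := fun s => by
    rw [hy]; exact Frame.k_t_apply ha s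
  have hscale : ∀ s : Fˣ, ρ (slU ((s : F) * (s : F))) y - y = ch (2 * lam) s • a := fun s => by
    have e := congrArg (ρ (slK F s)) hrel
    rw [map_sub, hrr, slK_slU, mul_one, ← hrr, hk, map_smul, ← smul_sub] at e
    have h2 : ρ (slK F s) a = ch lam s • a := ha.wt s
    rw [h2] at e
    have h4 : ch lam s * ch (-lam) s = (1 : F) := by rw [mul_comm, ch_neg_mul hF]
    rw [show 2 * lam = lam + lam from two_mul lam, ch_add hF, mul_smul, ← e, smul_smul, h4, one_smul]
  let g : F → V := fun b => ρ (slU b) y - y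
  have hsurj : ∀ c : Fˣ, ∃ s : Fˣ, (s : F) * (s : F) = (c : F) := fun c => by
    obtain ⟨r, hr⟩ := FiniteField.isSquare_of_char_two (F := F) (by rw [ringChar.eq F 2]) (c : F)
    exact ⟨Units.mk0 r fun e => c.ne_zero (by rw [hr, e, mul_zero]), hr.symm⟩
  have hgmem : ∀ b, g b ∈ F ∙ a := fun b => by
    by_cases hb : b = 0
    · have h0 : slU (0 : F) = 1 := Subtype.ext (by
        show !![(1 : F), 0; 0, 1] = 1
        ext i j; fin_cases i <;> fin_cases j <;> simp)
      simp only [g, hb, h0, map_one, Module.End.one_apply, sub_self]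
      exact Submodule.zero_mem _
    · obtain ⟨s, hs⟩ := hsurj (Units.mk0 b hb)
      rw [Units.val_mk0] at hs
      simp only [g]
      rw [← hs, hscale]
      exact Submodule.smul_mem _ _ (Submodule.mem_span_singleton_self a)
  have hg : ∀ b c, g (b + c) = g b + g c := fun b c => by
    obtain ⟨φ, hφ⟩ := Submodule.mem_span_singleton.1 (hgmem c)
    simp only [g] at hφ ⊢
    have e : ρ (slU b) (ρ (slU c) y - y) = ρ (slU c) y - y := by rw [← hφ, map_smul, hfix]
    rw [map_sub] at e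
    have e2 : ρ (slU b) (ρ (slU c) y) = ρ (slU b) y + (ρ (slU c) y - y) := by rw [← e]; abel
    rw [slU_add, ← hrr, e2]
    abel
  let φ : F → F := fun b => b ^ lam.val
  have hgφ : ∀ b, g b = φ b • a := fun b => by
    have hv : lam.val ≠ 0 := fun e => Frame.weight_ne_zero hρ ha ((ZMod.val_eq_zero _).1 e)
    by_cases hb : b = 0
    · rw [hb, map_zero_of_additive g hg]
      show (0 : V) = (0 : F) ^ lam.val • a
      rw [zero_pow hv, zero_smul]
    · obtain ⟨s, hs⟩ := hsurj (Units.mk0 b hb)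
      rw [Units.val_mk0] at hs
      simp only [g, φ]
      rw [← hs, hscale, show 2 * lam = lam + lam from two_mul lam, ch_add hF, mul_pow]
      rfl
  have hφ : ∀ x y, φ (x + y) = φ x + φ y := fun x y => smul_left_injective F ha.ne (by
    simp only [add_smul, ← hgφ, hg])
  obtain ⟨r, hr⟩ := exists_pw_of_additive hF hn lam φ (fun s => rfl) hφ
  refine ⟨r, ?_⟩
  refine
    { weight := by rw [hr]; rfl
      span := Frame.span_eq_top hI ha ?_
      step := ?_
      additive := ?_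
      lead := ?_ }
  · show a ∈ Submodule.span F (Set.range fun x : slT F => ρ (x : SL(2, F)) (ρ (slW F) a))
    have h1 : ∀ x ∈ slT F, ρ x y ∈
        Submodule.span F (Set.range fun x : slT F => ρ (x : SL(2, F)) (ρ (slW F) a)) := fun x hx =>
      Submodule.subset_span ⟨⟨x, hx⟩, by rw [hy]⟩
    have h2 := h1 1 (one_mem _)
    rw [map_one, Module.End.one_apply] at h2
    have h3 := sub_mem (h1 _ (mem_slT.2 ⟨1, rfl⟩)) h2
    rwa [hrel] at h3
  · intro b x hx
    show ρ x (ρ (slU b) (ρ (slW F) a) - ρ (slW F) a) - (ρ (slU b) (ρ (slW F) a) - ρ (slW F) a) ∈ F ∙ a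
    rw [← hy]
    show ρ x (g b) - g b ∈ F ∙ a
    rw [hgφ, map_smul, ha.fix x hx, sub_self]
    exact Submodule.zero_mem _
  · intro b c
    show ρ (slU (b + c)) (ρ (slW F) a) - ρ (slW F) a = (ρ (slU b) (ρ (slW F) a) - ρ (slW F) a) +
      (ρ (slU c) (ρ (slW F) a) - ρ (slW F) a)
    rw [← hy]
    exact hg b c
  · show coef (fun b => ρ (slU b) (ρ (slW F) a) - ρ (slW F) a) r ≠ 0
    rw [← hy]
    show coef g r ≠ 0
    have h3 : ∀ s : Fˣ, ch (-pw r) s • g (s : F) = a := fun s => by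
      rw [hgφ, smul_smul, show φ (s : F) = ch lam s from rfl, hr, ch_neg_mul hF, one_smul]
    simp only [coef, proj, h3, Finset.sum_const, Finset.card_univ, card_units_eq hF]
    rw [odd_smul_eq_self (F := F) (Nat.Even.sub_odd Nat.one_le_two_pow
      (even_two.pow_of_ne_zero (by omega)) odd_one)]
    exact ha.ne

end Cfsg.Lib.CIT.Rad2
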