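import Mathlib
import Cfsg.Agent.Lib.CIT.Rad2.Bilinear

/-!
Weights of pairs of Frobenius powers for the Suzuki groups.
-/

set_option autoImplicit false
set_option linter.unusedSectionVars false

namespace Cfsg.Lib.CIT.Rad2

open Finset

/-- The exponent of the twisting automorphism. -/
def hM (m : ℕ) : ZMod (2 * m + 1) := ((m + 1 : ℕ) : ZMod (2 * m + 1))

variable {m : ℕ}

theorem hM_double : hM m + hM m = 1 := by
  rw [hM, ← Nat.cast_add, show m + 1 + (m + 1) = (2 * m + 1) + 1 by ring, Nat.cast_add, ZMod.natCast_self,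
    zero_add, Nat.cast_one]

/-- The weight of the centre of the root group. -/
def szδ (m : ℕ) : Wt (2 * m + 1) := pw (hM m) + 1

theorem isUnit_szδ : IsUnit (szδ m) := by
  refine IsUnit.of_mul_eq_one (pw (hM m) - 1) ?_
  have h : pw (hM m) * pw (hM m) = (2 : Wt (2 * m + 1)) := by rw [← pw_add, hM_double, pw_one]
  rw [szδ]
  linear_combination h

theorem szδ_mul (i : ZMod (2 * m + 1)) : szδ m * pw i = pw (i + hM m) + pw i := by
  rw [szδ, add_mul, one_mul, ← pw_add, add_comm (hM m) i]

/-- The pairs of indices of exceptional weight. -/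
def Chain (m : ℕ) (i l : ZMod (2 * m + 1)) : Prop := l = i + (hM m + hM m) ∨ l = i - hM m

theorem weight_one : ∀ i l i' l' : ZMod (2 * 1 + 1),
    ¬(l = i + (hM 1 + hM 1) ∨ l = i - hM 1) →
    szδ 1 * pw i' + pw l' = szδ 1 * pw i + pw l → i' = i ∧ l' = l := by decide

theorem k_hM_ne (hm : 2 ≤ m) {k : ℕ} (h0 : k ≠ 0) (hk : k ≤ 4 ∨ k = 6) :
    (k : ZMod (2 * m + 1)) * hM m ≠ 0 := by
  intro h
  have h2 : (k : ZMod (2 * m + 1)) = 0 := by
    have h3 := hM_double (m := m)
    linear_combination (2 : ZMod (2 * m + 1)) * h - (k : ZMod (2 * m + 1)) * h3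
  rw [ZMod.natCast_eq_zero_iff] at h2
  have h5 := Nat.le_of_dvd (by omega) h2
  rcases hk with hk | rfl
  · omega
  · have : m = 2 := by omega
    subst this
    norm_num at h2

theorem sum_triple {n : ℕ} {a b c : ZMod n} (hab : a ≠ b) (hac : a ≠ c) (hbc : b ≠ c) :
    ∑ x ∈ ({a, b, c} : Finset (ZMod n)), pw x = pw a + pw b + pw c := by
  rw [Finset.sum_insert (by simp [hab, hac]), Finset.sum_pair hbc, add_assoc]

theorem triple_ne_pair {n : ℕ} [NeZero n] (hn : 5 ≤ n) {a b c x y : ZMod n} (hab : a ≠ b) (hac : a ≠ c)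
    (hbc : b ≠ c) (hxy : x ≠ y) : pw a + pw b + pw c ≠ pw x + pw y := by
  classical
  intro h
  have h1 : ({a, b, c} : Finset (ZMod n)).card = 3 := by
    rw [Finset.card_insert_of_notMem (by simp [hab, hac]), Finset.card_pair hbc]
  have hne : ∀ S : Finset (ZMod n), S.card ≤ 3 → S ≠ univ := fun S hS e => by
    rw [e, card_univ, ZMod.card] at hS; omega
  have h2 := congrArg Finset.card (sum_pw_eq (hne _ h1.le) (hne _ (by rw [Finset.card_pair hxy]; omega))
    (by rw [sum_triple hab hac hbc, Finset.sum_pair hxy, h]))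
  rw [h1, Finset.card_pair hxy] at h2
  omega

/-- The pairs of equal weight. -/
theorem weight_cases (hm : 2 ≤ m) (i l i' l' : ZMod (2 * m + 1))
    (h : szδ m * pw i' + pw l' = szδ m * pw i + pw l) :
    (i' = i ∧ l' = l) ∨ (l = i + (hM m + hM m) ∧ i' = i + hM m ∧ l' = i) ∨
      (l = i - hM m ∧ i' = l ∧ l' = l + (hM m + hM m)) := by
  classical
  have hn : 1 < 2 * m + 1 := by omega
  obtain ⟨M, hMdef⟩ : ∃ M, M = hM m := ⟨_, rfl⟩
  rw [← hMdef]
  have hMM : M + M = 1 := hMdef ▸ hM_double
  have k1 : M ≠ 0 := by have := k_hM_ne hm one_ne_zero (by norm_num); simpa [← hMdef] using this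
  have k2 : M + M ≠ 0 := by
    have := k_hM_ne hm two_ne_zero (by norm_num); intro e; apply this; rw [← hMdef, ← e]; push_cast; ring
  have k3 : M + M + M ≠ 0 := by
    have := k_hM_ne hm three_ne_zero (by norm_num); intro e; apply this; rw [← hMdef, ← e]; push_cast; ring
  have k4 : M + M + M + M ≠ 0 := by
    have := k_hM_ne hm four_ne_zero (by norm_num); intro e; apply this; rw [← hMdef, ← e]; push_cast; ring
  have k6 : M + M + M + M + M + M ≠ 0 := by
    have := k_hM_ne hm (by norm_num : (6 : ℕ) ≠ 0) (Or.inr rfl)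
    intro e; apply this; rw [← hMdef, ← e]; push_cast; ring
  rw [szδ_mul, szδ_mul, ← hMdef] at h
  by_cases hi : i' = i
  · subst hi
    exact Or.inl ⟨rfl, pw_injective hn (add_left_cancel h)⟩
  -- the shape of each side
  have shape : ∀ j k : ZMod (2 * m + 1),
      (k = j ∧ pw (j + M) + pw j + pw k = (pw (j + M) + pw (j + (M + M)) : Wt (2 * m + 1)) ∧
        j + M ≠ j + (M + M)) ∨
      (k = j + M ∧ pw (j + M) + pw j + pw k = (pw (j + (M + M + M)) + pw j : Wt (2 * m + 1)) ∧
        j + (M + M + M) ≠ j) ∨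
      (j + M ≠ j ∧ j + M ≠ k ∧ j ≠ k) := by
    intro j k
    by_cases h1 : k = j
    · refine Or.inl ⟨h1, ?_, fun e => k1 (by linear_combination -e)⟩
      rw [h1, add_assoc, pw_succ, hMM]
    by_cases h2 : k = j + M
    · refine Or.inr (Or.inl ⟨h2, ?_, fun e => k3 (by linear_combination e)⟩)
      rw [h2, add_right_comm, pw_succ, ← hMM]
      congr 2
      abel
    exact Or.inr (Or.inr ⟨fun e => k1 (by linear_combination e), Ne.symm h2, Ne.symm h1⟩)
  have hn5 : 5 ≤ 2 * m + 1 := by omega
  rcases shape i l with ⟨-, e1, d1⟩ | ⟨-, e1, d1⟩ | ⟨a1, a2, a3⟩ <;>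
    rcases shape i' l' with ⟨-, e2, d2⟩ | ⟨-, e2, d2⟩ | ⟨b1, b2, b3⟩
  · rw [e1, e2] at h
    rcases pw_pair_eq hn d1 h.symm with ⟨h1, -⟩ | ⟨h1, h2⟩
    · exact absurd (add_right_cancel h1) hi
    · exact absurd (show M + M = 0 by linear_combination h2 - h1) k2
  · rw [e1, e2] at h
    rcases pw_pair_eq hn d1 h.symm with ⟨h1, h2⟩ | ⟨h1, h2⟩
    · exact absurd (show M + M + M + M = 0 by linear_combination h1 - h2) k4
    · exact absurd (show M + M = 0 by linear_combination h1 - h2) k2
  · rw [e1] at h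
    exact absurd h (triple_ne_pair hn5 b1 b2 b3 d1)
  · rw [e1, e2] at h
    rcases pw_pair_eq hn d1 h.symm with ⟨h1, h2⟩ | ⟨h1, h2⟩
    · exact absurd (show M + M + M + M = 0 by linear_combination h2 - h1) k4
    · exact absurd (show M + M = 0 by linear_combination h1 - h2) k2
  · rw [e1, e2] at h
    rcases pw_pair_eq hn d1 h.symm with ⟨-, h2⟩ | ⟨h1, h2⟩
    · exact absurd h2 hi
    · exact absurd (show M + M + M + M + M + M = 0 by linear_combination h1 - h2) k6
  · rw [e1] at h
    exact absurd h (triple_ne_pair hn5 b1 b2 b3 d1)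
  · rw [e2] at h
    exact absurd h.symm (triple_ne_pair hn5 a1 a2 a3 d2)
  · rw [e2] at h
    exact absurd h.symm (triple_ne_pair hn5 a1 a2 a3 d2)
  · have c1 : ({i' + M, i', l'} : Finset (ZMod (2 * m + 1))).card = 3 := by
      rw [Finset.card_insert_of_notMem (by simp [b1, b2]), Finset.card_pair b3]
    have c2 : ({i + M, i, l} : Finset (ZMod (2 * m + 1))).card = 3 := by
      rw [Finset.card_insert_of_notMem (by simp [a1, a2]), Finset.card_pair a3]
    have hne : ∀ S : Finset (ZMod (2 * m + 1)), S.card ≤ 3 → S ≠ univ := fun S hS e => by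
      rw [e, card_univ, ZMod.card] at hS; omega
    have hset := sum_pw_eq (hne _ c1.le) (hne _ c2.le)
      (by rw [sum_triple b1 b2 b3, sum_triple a1 a2 a3, h])
    have h1 : i' = i + M ∨ i' = i ∨ i' = l := by
      have : i' ∈ ({i + M, i, l} : Finset (ZMod (2 * m + 1))) := by rw [← hset]; simp
      simpa using this
    have h2 : i' + M = i + M ∨ i' + M = i ∨ i' + M = l := by
      have : i' + M ∈ ({i + M, i, l} : Finset (ZMod (2 * m + 1))) := by rw [← hset]; simp
      simpa using this
    rcases h1 with h1 | h1 | h1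
    · rcases h2 with h2 | h2 | h2
      · exact absurd (add_right_cancel h2) hi
      · exact absurd (show M + M = 0 by linear_combination h2 - h1) k2
      · have hl : l = i + (M + M) := by linear_combination h1 - h2
        refine Or.inr (Or.inl ⟨hl, h1, pw_injective hn ?_⟩)
        rw [h1, hl, add_assoc i M M] at h
        linear_combination h
    · exact absurd h1 hi
    · rcases h2 with h2 | h2 | h2
      · exact absurd (add_right_cancel h2) hi
      · have hl : l = i - M := by linear_combination h2 - h1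
        refine Or.inr (Or.inr ⟨hl, h1, pw_injective hn ?_⟩)
        rw [h2, h1] at h
        rw [show l + (M + M) = i + M by linear_combination hl]
        linear_combination h
      · exact absurd (show M = 0 by linear_combination h2 - h1) k1

theorem weight_unique (hm : 1 ≤ m) (i l i' l' : ZMod (2 * m + 1)) (hc : ¬ Chain m i l)
    (h : szδ m * pw i' + pw l' = szδ m * pw i + pw l) : i' = i ∧ l' = l := by
  rcases hm.eq_or_lt with hm1 | hm2
  · subst hm1
    exact weight_one i l i' l' hc h
  · rcases weight_cases hm2 i l i' l' h with h1 | ⟨h1, -, -⟩ | ⟨h1, -, -⟩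
    · exact h1
    · exact absurd (Or.inl h1) hc
    · exact absurd (Or.inr h1) hc

theorem weight_chain (hm : 2 ≤ m) (A i' l' : ZMod (2 * m + 1))
    (h : szδ m * pw i' + pw l' = szδ m * pw A + pw (A + (hM m + hM m))) :
    (i' = A ∧ l' = A + (hM m + hM m)) ∨ (i' = A + hM m ∧ l' = A) := by
  rcases weight_cases hm _ _ i' l' h with h1 | ⟨-, h1, h2⟩ | ⟨h1, -, -⟩
  · exact Or.inl h1
  · exact Or.inr ⟨h1, h2⟩
  · refine absurd ?_ (k_hM_ne hm three_ne_zero (by norm_num))
    push_cast
    linear_combination h1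

end Cfsg.Lib.CIT.Rad2
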