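import Mathlib
import Cfsg.Agent.Lib.CIT.Rad2.SzComb
import Cfsg.Agent.Lib.Linear.Suzuki.Struct

/-!
The Suzuki groups as groups with a split BN pair, and the relations between the opposite root groups.
-/

set_option autoImplicit false
set_option linter.unusedSectionVars false

namespace Cfsg.Lib.CIT.Rad2

open Finset
open Cfsg.Lib.Linear.Suz
open scoped Matrix

variable {F : Type} [Field F] [Fintype F] [DecidableEq F] {m : ℕ} (h : Params F m)
include h

theorem hM_val : (hM m).val = m + 1 := by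
  have := h.pos
  rw [hM, ZMod.val_natCast, Nat.mod_eq_of_lt (by omega)]

theorem ch_szδ (s : Fˣ) : ch (szδ m) s = th m (s : F) * (s : F) := by
  have h0 := ch_pw h.card (0 : ZMod (2 * m + 1)) s
  rw [pw_zero, ZMod.val_zero, pow_zero, pow_one] at h0
  rw [szδ, ch_add h.card, ch_pw h.card, hM_val h, h0, th]

theorem ofNat_mod_two (k : ℕ) [k.AtLeastTwo] : (OfNat.ofNat k : F) = ((k % 2 : ℕ) : F) := by
  haveI := charP_two h
  rw [← Nat.cast_ofNat (R := F) (n := k)]
  exact (CharP.natCast_eq_natCast F 2).2 (Nat.mod_modEq k 2).symm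

/-- The relation between a central root element and the antidiagonal element. -/
theorem wzw (c : Fˣ) :
    wS h * uS h 0 (c : F) * wS h =
      uS h ((c : F) / th m (c : F)) 0 * wS h *
        dS h ((Units.mk0 (th m (c : F)) (fun e => c.ne_zero ((th_eq_zero h).1 e)) * c⁻¹) ^ 2) *
        uS h ((c : F) / th m (c : F))
          (th m ((c : F) / th m (c : F)) * ((c : F) / th m (c : F))) := by
  obtain ⟨s, hs⟩ : ∃ s : Fˣ, s =
      (Units.mk0 (th m (c : F)) (fun e => c.ne_zero ((th_eq_zero h).1 e)) * c⁻¹) ^ 2 := ⟨_, rfl⟩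
  rw [← hs]
  obtain ⟨e1, e2, -, -⟩ := dM_coords h s
  have hc : (c : F) ≠ 0 := c.ne_zero
  have hq : th m (c : F) ≠ 0 := fun e => hc ((th_eq_zero h).1 e)
  have hsv : (s : F) = (th m (c : F) / (c : F)) ^ 2 := by
    rw [hs]; simp [div_eq_mul_inv]
  obtain ⟨q, hqdef⟩ : ∃ q, th m (c : F) = q := ⟨_, rfl⟩
  have hqq : th m q = (c : F) ^ 2 := by rw [← hqdef, th_th h]
  rw [hqdef] at hq hsv
  have hβ : ((s ^ (2 ^ m) : Fˣ) : F) = (c : F) ^ 2 / q := by
    refine th_injective h ?_
    rw [e2, hsv, div_eq_mul_inv ((c : F) ^ 2), th_mul h, th_inv h, th_pow h, hqdef, hqq]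
    field_simp
  have hα : ((s ^ (2 ^ m + 1) : Fˣ) : F) = q := by
    rw [← e1, hβ, hsv]
    field_simp
  refine Subtype.ext (Subtype.ext ?_)
  show wM F * uM m 0 (c : F) * wM F = uM m ((c : F) / th m (c : F)) 0 * wM F * dM m s *
    uM m ((c : F) / th m (c : F)) (th m ((c : F) / th m (c : F)) * ((c : F) / th m (c : F)))
  have hte : th m ((c : F) / q) = q / (c : F) ^ 2 := by
    rw [div_eq_mul_inv, th_mul h, th_inv h, hqdef, hqq, div_eq_mul_inv]
  have htte : th m (q / (c : F) ^ 2) = (c : F) ^ 2 / q ^ 2 := by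
    rw [div_eq_mul_inv, th_mul h, th_inv h, th_pow h, hqdef, hqq, div_eq_mul_inv]
  have hd : dM m s = !![q, 0, 0, 0; 0, (c : F) ^ 2 / q, 0, 0; 0, 0, q / (c : F) ^ 2, 0; 0, 0, 0, q⁻¹] := by
    rw [dM, hα, hβ, Units.val_inv_eq_inv_val, Units.val_inv_eq_inv_val, hα, hβ, inv_div]
    ext i j
    fin_cases i <;> fin_cases j <;> simp
  rw [hqdef, hd]
  have h2 := two_eq h
  haveI := charP_two h
  ext i j
  fin_cases i <;> fin_cases j <;>
    simp [uM, wM, Matrix.mul_apply, Fin.sum_univ_four, th_mul h, th_zero h, hqdef, hte, htte] <;>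
    (try field_simp) <;> (try ring_nf) <;> (try simp [h2, three_eq h, four_eq h]) <;> (try simp [ofNat_mod_two h])

/-- The product of an involution of the root group and the opposite involution. -/
theorem zw_order : uS h 0 1 * wS h ≠ 1 ∧ orderOf (uS h 0 1 * wS h) = 5 := by
  haveI : Fact (Nat.Prime 5) := ⟨by norm_num⟩
  have hne : uS h 0 1 * wS h ≠ 1 := fun e => by
    have e0 := congrFun (congrFun (congrArg (fun g => g.1.1) e) 3) 3
    change (uM m (0 : F) 1 * wM F) 3 3 = (1 : Matrix (Fin 4) (Fin 4) F) 3 3 at e0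
    simp [uM, wM, Matrix.mul_apply, Fin.sum_univ_four] at e0
  refine ⟨hne, orderOf_eq_prime ?_ hne⟩
  refine Subtype.ext (Subtype.ext ?_)
  show (uM m (0 : F) 1 * wM F) ^ 5 = 1
  have h2 := two_eq h
  haveI := charP_two h
  simp only [pow_succ, pow_zero, one_mul]
  ext i j
  fin_cases i <;> fin_cases j <;>
    simp [uM, wM, Matrix.mul_apply, Fin.sum_univ_four, th_zero h, th_one h] <;>
    (try ring_nf) <;> (try simp [h2, three_eq h, four_eq h]) <;> (try simp [ofNat_mod_two h])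

/-- The Suzuki group as a group with a split BN pair. -/
def szFrame : Frame ↥(Cfsg.Sz F m) F (2 * m + 1) where
  z b := uS h 0 b
  k := dS h
  t := wS h
  T := US h
  δ := szδ m
  hn := by have := h.pos; omega
  card := h.card
  isUnit_δ := isUnit_szδ
  z_add b c := by rw [uS_mul h, add_zero, mul_zero, add_zero]
  z_mem b := ⟨0, b, rfl⟩
  z_comm b x hx := by
    obtain ⟨a, c, rfl⟩ := hx
    rw [uS_mul h, uS_mul h, th_zero h, zero_mul, mul_zero, zero_add, add_zero, add_zero, add_zero,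
      add_comm b c]
  k_z s b := by
    rw [dS_mul_uS h, mul_zero, ch_szδ h, mul_comm (th m (s : F))]
  k_T s x hx := by
    obtain ⟨a, c, rfl⟩ := hx
    exact ⟨_, _, by rw [dS_mul_uS h, mul_inv_cancel_right]⟩
  k_injective := fun _ _ e => dHom_injective (congrArg Subtype.val e)
  two_group := IsPGroup.of_card (n := (2 * m + 1) * 2) (by rw [card_US h, ← pow_mul])
  t_mul := wS_mul_self h
  t_k s := wS_conj h s
  odd_pair := by
    obtain ⟨hne, ho⟩ := zw_order h
    have e : uS h 0 1 * (wS h * uS h 0 1 * wS h) = (uS h 0 1 * wS h) ^ 2 := by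
      rw [sq]; simp only [mul_assoc]
    rw [e]
    refine ⟨fun e2 => ?_, Odd.of_dvd_nat (by decide : Odd 5) ?_⟩
    · have := orderOf_dvd_of_pow_eq_one e2
      rw [ho] at this
      norm_num at this
    · exact ho ▸ orderOf_pow_dvd 2
  bruhat g := by
    rcases exists_bruhat h g with hg | ⟨x, y, hg⟩
    · obtain ⟨a, b, k, rfl⟩ := (mem_stab_inf_iff h).1 hg
      exact Or.inl ⟨_, ⟨a, b, rfl⟩, k, rfl⟩
    · obtain ⟨a, b, k, e⟩ := (mem_stab_inf_iff h).1 hg
      have e' : g = uS h x y * wS h * (uS h a b * dS h k) := by rw [← e, mul_inv_cancel_left]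
      obtain ⟨a', ha'⟩ : ∃ a', a' = ((k⁻¹ : Fˣ) : F) * a := ⟨_, rfl⟩
      refine Or.inr ⟨_, ⟨x, y, rfl⟩, k, uS h a' (((k⁻¹ : Fˣ) : F) * th m ((k⁻¹ : Fˣ) : F) * b), ⟨_, _, rfl⟩, ?_⟩
      rw [e']
      have e2 : uS h a b * dS h k = dS h k * uS h a' (((k⁻¹ : Fˣ) : F) * th m ((k⁻¹ : Fˣ) : F) * b) := by
        rw [ha', dS_mul_uS h, ← mul_assoc (k : F), Units.mul_inv, one_mul]
        congr 2
        rw [← mul_assoc, mul_mul_mul_comm, Units.mul_inv, ← th_mul h, Units.mul_inv, th_one h, mul_one,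
          one_mul]
      rw [e2]
      simp only [mul_assoc]

end Cfsg.Lib.CIT.Rad2
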