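import Mathlib
import Cfsg.Agent.Lib.CIT.Rad2.SzFrame
import Cfsg.Agent.Lib.CIT.Rad2.Filt

/-!
The augmentation filtrations of a representation of a Suzuki group in characteristic two.
-/

set_option autoImplicit false
set_option linter.unusedSectionVars false

universe u

namespace Cfsg.Lib.CIT.Rad2.SzRep

open Finset
open Cfsg.Lib.Linear.Suz

variable {F : Type} [Field F] [Fintype F] [DecidableEq F] {m : ℕ} (h : Params F m)
  {V : Type u} [AddCommGroup V] [Module F V] (ρ : ↥(Cfsg.Sz F m) →* Module.End F V)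

/-- The augmentation of a root element. -/
def C (e : F) : Module.End F V := ρ (uS h e 0) + 1

/-- The augmentation of a central root element. -/
def N (b : F) : Module.End F V := ρ (uS h 0 b) + 1

/-- The filtration by powers of the augmentation. -/
def L : ℕ → Submodule F V
  | 0 => ⊤
  | d + 1 => ⨆ e : F, (L d).map (C h ρ e)

/-- The filtration of the image of the central augmentations. -/
def J : ℕ → Submodule F V
  | 0 => ⨆ b : F, LinearMap.range (N h ρ b)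
  | i + 1 => ⨆ e : F, (J i).map (C h ρ e)

/-- The coefficient operators of the root elements. -/
noncomputable def Cp (p : ZMod (2 * m + 1)) : Module.End F V := coef (C h ρ) p

/-- The coefficient operators of the central root elements. -/
noncomputable def Np (p : ZMod (2 * m + 1)) : Module.End F V := coef (N h ρ) p

section Algebra

include h

theorem dbl (v : V) : v + v = 0 := by
  rw [← two_smul F v, two_eq h, zero_smul]

theorem neg_v (v : V) : -v = v := neg_eq_of_add_eq_zero_left (dbl h v)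

theorem sub_v (v w : V) : v - w = v + w := by rw [sub_eq_add_neg, neg_v h]

theorem C_apply (e : F) (v : V) : C h ρ e v = ρ (uS h e 0) v + v := rfl

theorem N_apply (b : F) (v : V) : N h ρ b v = ρ (uS h 0 b) v + v := rfl

theorem rho_C (e : F) (v : V) : ρ (uS h e 0) v = C h ρ e v + v := by
  rw [C_apply, add_assoc, dbl h, add_zero]

theorem rho_N (b : F) (v : V) : ρ (uS h 0 b) v = N h ρ b v + v := by
  rw [N_apply, add_assoc, dbl h, add_zero]

theorem uS_eq (a b : F) : uS h a b = uS h a 0 * uS h 0 b := by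
  rw [uS_mul h, add_zero, mul_zero, add_zero, zero_add]

theorem rho_rho (g g' : ↥(Cfsg.Sz F m)) (v : V) : ρ g (ρ g' v) = ρ (g * g') v := by
  rw [map_mul]; rfl

theorem rho_u (a b : F) (v : V) :
    ρ (uS h a b) v = C h ρ a (N h ρ b v) + C h ρ a v + N h ρ b v + v := by
  rw [uS_eq h, ← rho_rho h ρ, rho_C h ρ a, rho_N h ρ b v, map_add]
  abel

theorem N_zero : N h ρ 0 = 0 := LinearMap.ext fun v => by
  rw [N_apply, uS_zero h, map_one, Module.End.one_apply, dbl h, LinearMap.zero_apply]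

theorem N_add (b c : F) (v : V) :
    N h ρ (b + c) v = N h ρ b v + N h ρ c v + N h ρ b (N h ρ c v) := by
  have e : uS h 0 (b + c) = uS h 0 b * uS h 0 c := by rw [uS_mul h, mul_zero, add_zero, add_zero]
  have h1 : ρ (uS h 0 (b + c)) v = ρ (uS h 0 b) (N h ρ c v + v) := by
    rw [e, ← rho_rho h ρ, rho_N h ρ c]
  rw [N_apply, h1, map_add, rho_N h ρ b, rho_N h ρ b]
  have := dbl h v
  rw [show N h ρ b (N h ρ c v) + N h ρ c v + (N h ρ b v + v) + v =
    N h ρ b v + N h ρ c v + N h ρ b (N h ρ c v) + (v + v) by abel, this, add_zero]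

theorem N_comm_C (b e : F) (v : V) : N h ρ b (C h ρ e v) = C h ρ e (N h ρ b v) := by
  have e1 : uS h 0 b * uS h e 0 = uS h e 0 * uS h 0 b := by
    rw [uS_mul h, uS_mul h, th_zero h, zero_mul, mul_zero, zero_add, add_zero, add_zero, add_zero,
      zero_add, add_zero]
  simp only [C_apply, N_apply, map_add, rho_rho h ρ, e1]
  abel

theorem N_comm (b c : F) (v : V) : N h ρ b (N h ρ c v) = N h ρ c (N h ρ b v) := by
  have e1 : uS h 0 b * uS h 0 c = uS h 0 c * uS h 0 b := by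
    rw [uS_mul h, uS_mul h, mul_zero, add_zero, add_zero, add_zero, add_comm b c]
  simp only [N_apply, map_add, rho_rho h ρ, e1]
  abel

theorem N_sq (b : F) (v : V) : N h ρ b (N h ρ b v) = 0 := by
  have h1 := N_add h ρ b b v
  rw [add_self h b, N_zero h ρ, LinearMap.zero_apply, dbl h, zero_add] at h1
  exact h1.symm

theorem C_sq (e : F) (v : V) : C h ρ e (C h ρ e v) = N h ρ (th m e * e) v := by
  have e1 : uS h e 0 * uS h e 0 = uS h 0 (th m e * e) := by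
    rw [uS_mul h, add_self h, zero_add, zero_add]
  have h1 : C h ρ e (C h ρ e v) = ρ (uS h e 0) (ρ (uS h e 0) v) + v +
      (ρ (uS h e 0) v + ρ (uS h e 0) v) := by
    simp only [C_apply, map_add]; abel
  rw [h1, dbl h, add_zero, rho_rho h ρ, e1, N_apply]

theorem C_comm_add (e f : F) (v : V) :
    C h ρ e (C h ρ f v) + C h ρ f (C h ρ e v) =
      ρ (uS h f 0) (ρ (uS h e 0) (N h ρ (th m e * f + th m f * e) v)) := by
  have e1 : uS h e 0 * uS h f 0 = uS h f 0 * (uS h e 0 * uS h 0 (th m e * f + th m f * e)) := by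
    rw [← uS_eq h, uS_mul h, uS_mul h, add_comm e f]
    congr 1
    have := add_self h (th m f * e)
    linear_combination -this
  have h1 : C h ρ e (C h ρ f v) + C h ρ f (C h ρ e v) =
      ρ (uS h e 0) (ρ (uS h f 0) v) + ρ (uS h f 0) (ρ (uS h e 0) v) +
        ((ρ (uS h e 0) v + ρ (uS h e 0) v) + (ρ (uS h f 0) v + ρ (uS h f 0) v) + (v + v)) := by
    simp only [C_apply, map_add]; abel
  rw [h1]
  simp only [dbl h, add_zero]
  rw [rho_rho h ρ (uS h e 0), e1, N_apply]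
  simp only [map_add, rho_rho h ρ, mul_assoc]

theorem C_add (e f : F) (v : V) :
    C h ρ (e + f) v + (C h ρ e v + C h ρ f v) =
      C h ρ e (C h ρ f v) + ρ (uS h e 0) (ρ (uS h f 0) (N h ρ (th m e * f) v)) := by
  have e1 : uS h (e + f) 0 = uS h e 0 * (uS h f 0 * uS h 0 (th m e * f)) := by
    rw [← uS_eq h, uS_mul h]
    congr 1
    have := add_self h (th m e * f)
    linear_combination -this
  have h1 : ρ (uS h e 0) (ρ (uS h f 0) (N h ρ (th m e * f) v)) =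
      ρ (uS h (e + f) 0) v + ρ (uS h e 0) (ρ (uS h f 0) v) := by
    rw [e1, N_apply, map_add, map_add]
    simp only [rho_rho h ρ, mul_assoc]
  have h2 : C h ρ (e + f) v + (C h ρ e v + C h ρ f v) +
        (ρ (uS h e 0) (ρ (uS h f 0) v) + ρ (uS h e 0) (ρ (uS h f 0) v)) =
      C h ρ e (C h ρ f v) + ρ (uS h e 0) (ρ (uS h f 0) (N h ρ (th m e * f) v)) + (v + v) := by
    rw [h1]
    simp only [C_apply, map_add]
    abel
  rwa [dbl h, dbl h, add_zero, add_zero] at h2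

theorem exists_th_mul (b : F) : ∃ e : F, th m e * e = b := by
  obtain ⟨l, hl⟩ := mul_th_surjective h b
  exact ⟨l, by rw [mul_comm]; exact hl⟩

end Algebra

section Filtration

theorem C_mem_L {d : ℕ} {v : V} (hv : v ∈ L h ρ d) (e : F) : C h ρ e v ∈ L h ρ (d + 1) :=
  Submodule.mem_iSup_of_mem e ⟨v, hv, rfl⟩

theorem C_mem_J {i : ℕ} {v : V} (hv : v ∈ J h ρ i) (e : F) : C h ρ e v ∈ J h ρ (i + 1) :=
  Submodule.mem_iSup_of_mem e ⟨v, hv, rfl⟩

theorem L_succ_le {d : ℕ} {Y : Submodule F V} (hY : ∀ e, ∀ v ∈ L h ρ d, C h ρ e v ∈ Y) :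
    L h ρ (d + 1) ≤ Y := iSup_le fun e => by rintro _ ⟨v, hv, rfl⟩; exact hY e v hv

theorem J_succ_le {i : ℕ} {Y : Submodule F V} (hY : ∀ e, ∀ v ∈ J h ρ i, C h ρ e v ∈ Y) :
    J h ρ (i + 1) ≤ Y := iSup_le fun e => by rintro _ ⟨v, hv, rfl⟩; exact hY e v hv

theorem J_zero_le {Y : Submodule F V} (hY : ∀ b v, N h ρ b v ∈ Y) : J h ρ 0 ≤ Y :=
  iSup_le fun b => by rintro _ ⟨v, rfl⟩; exact hY b v

theorem N_mem_J0 (b : F) (v : V) : N h ρ b v ∈ J h ρ 0 := Submodule.mem_iSup_of_mem b ⟨v, rfl⟩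

theorem N_L {d : ℕ} {v : V} (hv : v ∈ L h ρ d) (b : F) : N h ρ b v ∈ J h ρ d := by
  induction d generalizing v with
  | zero => exact N_mem_J0 h ρ b v
  | succ d ih =>
    refine (L_succ_le h ρ (Y := (J h ρ (d + 1)).comap (N h ρ b)) fun e w hw => ?_) hv
    rw [Submodule.mem_comap, N_comm_C h ρ]
    exact C_mem_J h ρ (ih hw) e

theorem N_J {i : ℕ} {v : V} (hv : v ∈ J h ρ i) (b : F) : N h ρ b v ∈ J h ρ (i + 2) := by
  obtain ⟨e, rfl⟩ := exists_th_mul h b
  rw [← C_sq h ρ]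
  exact C_mem_J h ρ (C_mem_J h ρ hv e) e

theorem N_L_succ {d : ℕ} {v : V} (hv : v ∈ L h ρ d) (b : F) : N h ρ b v ∈ L h ρ (d + 2) := by
  obtain ⟨e, rfl⟩ := exists_th_mul h b
  rw [← C_sq h ρ]
  exact C_mem_L h ρ (C_mem_L h ρ hv e) e

theorem L_anti : ∀ d, L h ρ (d + 1) ≤ L h ρ d
  | 0 => le_top
  | d + 1 => L_succ_le h ρ fun e _ hv => C_mem_L h ρ (L_anti d hv) e

theorem J_anti : ∀ i, J h ρ (i + 1) ≤ J h ρ i
  | 0 => J_succ_le h ρ fun e v hv => by
    refine (J_zero_le h ρ (Y := (J h ρ 0).comap (C h ρ e)) fun b w => ?_) hv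
    rw [Submodule.mem_comap, ← N_comm_C h ρ]
    exact N_mem_J0 h ρ b _
  | i + 1 => J_succ_le h ρ fun e _ hv => C_mem_J h ρ (J_anti i hv) e

theorem L_mono {d d' : ℕ} (hd : d ≤ d') : L h ρ d' ≤ L h ρ d :=
  antitone_nat_of_succ_le (fun k => L_anti h ρ k) hd

theorem J_mono {i i' : ℕ} (hd : i ≤ i') : J h ρ i' ≤ J h ρ i :=
  antitone_nat_of_succ_le (fun k => J_anti h ρ k) hd

theorem J_le_L : ∀ i, J h ρ i ≤ L h ρ (i + 2)
  | 0 => J_zero_le h ρ fun b v => N_L_succ h ρ (d := 0) (v := v) Submodule.mem_top b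
  | i + 1 => J_succ_le h ρ fun e _ hv => C_mem_L h ρ (J_le_L i hv) e

theorem rho_mem {Y : Submodule F V} (hC : ∀ e, ∀ v ∈ Y, C h ρ e v ∈ Y)
    (hN : ∀ b, ∀ v ∈ Y, N h ρ b v ∈ Y) : ∀ x ∈ US h, ∀ v ∈ Y, ρ x v ∈ Y := by
  rintro x ⟨a, b, rfl⟩ v hv
  rw [rho_u h ρ]
  exact add_mem (add_mem (add_mem (hC a _ (hN b v hv)) (hC a v hv)) (hN b v hv)) hv

theorem rho_mem_L (d : ℕ) : ∀ x ∈ US h, ∀ v ∈ L h ρ d, ρ x v ∈ L h ρ d :=
  rho_mem h ρ (fun e _ hv => L_anti h ρ d (C_mem_L h ρ hv e))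
    fun b _ hv => L_mono h ρ (Nat.le_add_right d 2) (N_L_succ h ρ hv b)

theorem rho_mem_J (i : ℕ) : ∀ x ∈ US h, ∀ v ∈ J h ρ i, ρ x v ∈ J h ρ i :=
  rho_mem h ρ (fun e _ hv => J_anti h ρ i (C_mem_J h ρ hv e))
    fun b _ hv => J_mono h ρ (Nat.le_add_right i 2) (N_J h ρ hv b)

variable [Finite V]

theorem L_eq_bot {d : ℕ} (hd : L h ρ d ≤ L h ρ (d + 1)) : L h ρ d = ⊥ := by
  haveI := charP_two h
  refine eq_bot_of_le_aug (szFrame h).two_group (rho_mem_L h ρ d) fun Y hY => ?_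
  refine hd.trans (L_succ_le h ρ fun e v hv => ?_)
  rw [C_apply, ← sub_v h]
  exact hY _ ⟨e, 0, rfl⟩ v hv

theorem J_eq_bot {i : ℕ} (hd : J h ρ i ≤ J h ρ (i + 1)) : J h ρ i = ⊥ := by
  haveI := charP_two h
  refine eq_bot_of_le_aug (szFrame h).two_group (rho_mem_J h ρ i) fun Y hY => ?_
  refine hd.trans (J_succ_le h ρ fun e v hv => ?_)
  rw [C_apply, ← sub_v h]
  exact hY _ ⟨e, 0, rfl⟩ v hv

theorem N_add_L {d : ℕ} {v : V} (hv : v ∈ L h ρ d) (b c : F) :
    N h ρ (b + c) v + (N h ρ b v + N h ρ c v) ∈ J h ρ (d + 2) := by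
  rw [N_add h ρ, add_right_comm, dbl h, zero_add]
  exact N_J h ρ (N_L h ρ hv c) b

theorem N_add_J {i : ℕ} {v : V} (hv : v ∈ J h ρ i) (b c : F) :
    N h ρ (b + c) v + (N h ρ b v + N h ρ c v) ∈ J h ρ (i + 4) := by
  rw [N_add h ρ, add_right_comm, dbl h, zero_add]
  exact N_J h ρ (N_J h ρ hv c) b

theorem C_add_L {d : ℕ} {v : V} (hv : v ∈ L h ρ d) (e f : F) :
    C h ρ (e + f) v + (C h ρ e v + C h ρ f v) ∈ L h ρ (d + 2) := by
  rw [C_add h ρ]
  exact add_mem (C_mem_L h ρ (C_mem_L h ρ hv f) e)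
    (rho_mem_L h ρ _ _ ⟨e, 0, rfl⟩ _ (rho_mem_L h ρ _ _ ⟨f, 0, rfl⟩ _ (N_L_succ h ρ hv _)))

theorem C_add_J {i : ℕ} {v : V} (hv : v ∈ J h ρ i) (e f : F) :
    C h ρ (e + f) v + (C h ρ e v + C h ρ f v) ∈ J h ρ (i + 2) := by
  rw [C_add h ρ]
  exact add_mem (C_mem_J h ρ (C_mem_J h ρ hv f) e)
    (rho_mem_J h ρ _ _ ⟨e, 0, rfl⟩ _ (rho_mem_J h ρ _ _ ⟨f, 0, rfl⟩ _ (N_J h ρ hv _)))

include h in
theorem mkQ_eq_of_add_mem {Y : Submodule F V} {v w : V} (hvw : v + w ∈ Y) : Y.mkQ v = Y.mkQ w := by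
  rw [Submodule.mkQ_apply, Submodule.mkQ_apply, Submodule.Quotient.eq]
  rw [sub_v h]; exact hvw

end Filtration

section Coefficients

theorem Cp_apply (p : ZMod (2 * m + 1)) (v : V) : Cp h ρ p v = coef (fun e => C h ρ e v) p := by
  rw [Cp]
  exact coef_apply (W := V) (fun e => C h ρ e) p v

theorem Np_apply (p : ZMod (2 * m + 1)) (v : V) : Np h ρ p v = coef (fun b => N h ρ b v) p := by
  rw [Np]
  exact coef_apply (W := V) (fun b => N h ρ b) p v

theorem Cp_mem_J {i : ℕ} {v : V} (hv : v ∈ J h ρ i) (p : ZMod (2 * m + 1)) :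
    Cp h ρ p v ∈ J h ρ (i + 1) := by
  rw [Cp_apply]; exact coef_mem _ (fun e => C_mem_J h ρ hv e) p

theorem Np_mem_J0 (p : ZMod (2 * m + 1)) (v : V) : Np h ρ p v ∈ J h ρ 0 := by
  rw [Np_apply]; exact coef_mem _ (fun b => N_mem_J0 h ρ b v) p

theorem Np_mem_J {d : ℕ} {v : V} (hv : v ∈ L h ρ d) (p : ZMod (2 * m + 1)) :
    Np h ρ p v ∈ J h ρ d := by
  rw [Np_apply]; exact coef_mem _ (fun b => N_L h ρ hv b) p

theorem Np_J {i : ℕ} {v : V} (hv : v ∈ J h ρ i) (p : ZMod (2 * m + 1)) :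
    Np h ρ p v ∈ J h ρ (i + 2) := by
  rw [Np_apply]; exact coef_mem _ (fun b => N_J h ρ hv b) p

theorem Np_comm_C (p : ZMod (2 * m + 1)) (e : F) (v : V) :
    Np h ρ p (C h ρ e v) = C h ρ e (Np h ρ p v) := by
  rw [Np_apply, Np_apply, map_coef]
  simp only [N_comm_C h ρ]

theorem Np_comm_Cp (p q : ZMod (2 * m + 1)) (v : V) :
    Np h ρ p (Cp h ρ q v) = Cp h ρ q (Np h ρ p v) := by
  rw [Cp_apply, Cp_apply, map_coef]
  simp only [Np_comm_C h ρ]

theorem Np_comm_N (p : ZMod (2 * m + 1)) (b : F) (v : V) :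
    Np h ρ p (N h ρ b v) = N h ρ b (Np h ρ p v) := by
  rw [Np_apply, Np_apply, map_coef]
  simp only [N_comm h ρ b]

theorem Np_comm (p q : ZMod (2 * m + 1)) (v : V) :
    Np h ρ p (Np h ρ q v) = Np h ρ q (Np h ρ p v) := by
  rw [Np_apply h ρ q v, map_coef, Np_apply h ρ q (Np h ρ p v)]
  simp only [Np_comm_N h ρ]

theorem coef₂_comp {W : Type*} [AddCommGroup W] [Module F W] (φ : V →ₗ[F] W)
    (A B : F → Module.End F V) (v : V) (i l : ZMod (2 * m + 1)) :
    coef₂ (fun b e => φ (A b (B e v))) i l = φ (coef A i (coef B l v)) := by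
  simp only [coef₂, coef, proj, LinearMap.sum_apply, LinearMap.smul_apply, map_sum, map_smul,
    Finset.smul_sum, smul_smul]
  rw [Finset.sum_comm]
  simp only [mul_comm]

end Coefficients

end Cfsg.Lib.CIT.Rad2.SzRep
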