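import Mathlib
import Cfsg.Agent.Lib.CIT.Rad2.SzOps

/-!
An irreducible representation of a Suzuki group without fixed points of odd elements: the socle, and the
relations at a vector fixed by the root group.
-/

set_option autoImplicit false
set_option linter.unusedSectionVars false

universe u

namespace Cfsg.Lib.CIT.Rad2.SzRep

open Finset
open Cfsg.Lib.Linear.Suz

variable {F : Type} [Field F] [Fintype F] [DecidableEq F] {m : ℕ} {h : Params F m}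
  {V : Type u} [AddCommGroup V] [Module F V] [Finite V] {ρ : ↥(Cfsg.Sz F m) →* Module.End F V}
  {a : V} {lam : Wt (2 * m + 1)}

local notation "η" => ρ (wS h) a

theorem k_C (σ : Fˣ) (e : F) (v : V) :
    ρ (dS h σ) (C h ρ e v) = C h ρ ((σ : F) * e) (ρ (dS h σ) v) := by
  rw [C_apply, C_apply, map_add, rho_rho h ρ, dS_mul_uS h, mul_zero, ← rho_rho h ρ]

theorem k_N (σ : Fˣ) (b : F) (v : V) :
    ρ (dS h σ) (N h ρ b v) = N h ρ (ch (szδ m) σ * b) (ρ (dS h σ) v) := by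
  have hk : dS h σ * uS h 0 b = uS h 0 (ch (szδ m) σ * b) * dS h σ := (szFrame h).k_z σ b
  rw [N_apply, N_apply, map_add, rho_rho h ρ, hk, ← rho_rho h ρ]

theorem k_mem_L : ∀ (d : ℕ) (σ : Fˣ), ∀ v ∈ L h ρ d, ρ (dS h σ) v ∈ L h ρ d
  | 0, _, _, _ => Submodule.mem_top
  | d + 1, σ, v, hv => by
    refine (L_succ_le h ρ (Y := (L h ρ (d + 1)).comap (ρ (dS h σ))) fun e w hw => ?_) hv
    rw [Submodule.mem_comap, k_C]
    exact C_mem_L h ρ (k_mem_L d σ w hw) _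

theorem C_fix (ha : (szFrame h).Eigen ρ a lam) (e : F) : C h ρ e a = 0 := by
  rw [C_apply, ha.fix _ ⟨e, 0, rfl⟩, dbl h]

theorem N_fix (ha : (szFrame h).Eigen ρ a lam) (b : F) : N h ρ b a = 0 := by
  rw [N_apply, ha.fix _ ⟨0, b, rfl⟩, dbl h]

theorem k_eta (ha : (szFrame h).Eigen ρ a lam) (σ : Fˣ) : ρ (dS h σ) η = ch (-lam) σ • η :=
  Frame.k_t_apply ha σ

theorem t_eta : ρ (wS h) η = a := Frame.t_t_apply (szFrame h) ρ a

/-- The relation coming from an element of order five. -/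
theorem five_rel (hρ : Fpf ρ) (ha : (szFrame h).Eigen ρ a lam) : a = N h ρ 1 (C h ρ 1 η) := by
  obtain ⟨hne, ho⟩ := zw_order h
  have hy5 : (uS h 0 1 * wS h) ^ 5 = 1 := by rw [← ho]; exact pow_orderOf_eq_one _
  have hsum := hρ.sum_pow hne (by rw [ho]; decide) a
  rw [ho] at hsum
  simp only [Finset.sum_range_succ, Finset.sum_range_zero, zero_add, pow_zero, map_one,
    Module.End.one_apply, pow_one] at hsum
  obtain ⟨y, hy⟩ : ∃ y, y = uS h 0 1 * wS h := ⟨_, rfl⟩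
  rw [← hy] at hsum hy5
  have hzz : uS h 0 1 * uS h 0 1 = 1 := by
    rw [uS_mul h, add_zero, mul_zero, add_zero, add_self h, uS_zero h]
  have hww : wS h * wS h = 1 := wS_mul_self h
  have hinv : y * (wS h * uS h 0 1) = 1 := by
    rw [hy, mul_assoc, ← mul_assoc (wS h), hww, one_mul, hzz]
  have hyinv : y⁻¹ = wS h * uS h 0 1 := inv_eq_of_mul_eq_one_right hinv
  have h4 : y ^ 4 = wS h * uS h 0 1 := by
    rw [← hyinv]; exact eq_inv_of_mul_eq_one_left (by rw [← pow_succ]; exact hy5)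
  have h3 : y ^ 3 = (wS h * uS h 0 1 * wS h) * uS h 0 1 := by
    have : y ^ 3 = y⁻¹ * y⁻¹ := by
      rw [← mul_inv_rev, ← sq]; exact eq_inv_of_mul_eq_one_left (by rw [← pow_add]; exact hy5)
    rw [this, hyinv]; simp only [mul_assoc]
  have h2 : y ^ 2 = uS h 0 1 * (wS h * uS h 0 1 * wS h) := by
    rw [sq, hy]; simp only [mul_assoc]
  obtain ⟨a', b', hrel⟩ : ∃ a' b', wS h * uS h 0 1 * wS h = uS h 1 0 * wS h * uS h a' b' := by
    have := wzw h 1
    simp only [Units.val_one, th_one h, div_one, Units.mk0_one, inv_one, mul_one, one_pow,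
      map_one] at this
    exact ⟨_, _, this⟩
  have e4 : ρ (y ^ 4) a = η := by
    rw [h4, ← rho_rho h ρ, ha.fix _ ⟨0, 1, rfl⟩]
  have e3 : ρ (y ^ 3) a = C h ρ 1 η + η := by
    rw [h3, hrel]
    simp only [← rho_rho h ρ]
    rw [ha.fix _ ⟨0, 1, rfl⟩, ha.fix _ ⟨a', b', rfl⟩, rho_C h ρ]
  have e2 : ρ (y ^ 2) a = N h ρ 1 (C h ρ 1 η) + C h ρ 1 η + (N h ρ 1 η + η) := by
    rw [h2, hrel]
    simp only [← rho_rho h ρ]
    rw [ha.fix _ ⟨a', b', rfl⟩, rho_C h ρ, map_add, rho_N h ρ, rho_N h ρ]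
  have e1 : ρ y a = N h ρ 1 η + η := by rw [hy, ← rho_rho h ρ, rho_N h ρ]
  rw [e4, e3, e2, e1] at hsum
  have h6 : a + N h ρ 1 (C h ρ 1 η) + ((N h ρ 1 η + N h ρ 1 η) + (C h ρ 1 η + C h ρ 1 η) +
      (η + η) + (η + η)) = 0 := by
    rw [← hsum]; abel
  simp only [dbl h, add_zero] at h6
  rw [← sub_v h, sub_eq_zero] at h6
  exact h6

theorem scaled_rel (hρ : Fpf ρ) (ha : (szFrame h).Eigen ρ a lam) (s : Fˣ) :
    N h ρ (ch (szδ m) s) (C h ρ (s : F) η) = ch (2 * lam) s • a := by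
  have h1 := congrArg (ρ (dS h s)) (five_rel hρ ha)
  rw [k_N, k_C, k_eta ha, map_smul, map_smul, mul_one, mul_one] at h1
  have h2 : ρ (dS h s) a = ch lam s • a := ha.wt s
  rw [h2] at h1
  have h3 : ch (2 * lam) s = ch lam s * ch lam s := by rw [show 2 * lam = lam + lam from two_mul lam, ch_add h.card]
  have h4 : ch lam s * ch (-lam) s = (1 : F) := by rw [mul_comm, ch_neg_mul h.card]
  rw [h3, mul_smul, h1, smul_smul, h4, one_smul]

theorem a_mem_J1 (hρ : Fpf ρ) (ha : (szFrame h).Eigen ρ a lam) : a ∈ J h ρ 1 := by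
  rw [five_rel hρ ha, N_comm_C h ρ]
  exact C_mem_J h ρ (N_mem_J0 h ρ 1 _) 1

theorem span_top (hρ : Fpf ρ) (hI : Irred ρ) (ha : (szFrame h).Eigen ρ a lam)
    {Y : Submodule F V} (hY : ∀ x ∈ US h, ∀ v ∈ Y, ρ x v ∈ Y) (hη : η ∈ Y) : Y = ⊤ := by
  let M := Submodule.span F (Set.range fun x : (szFrame h).T => ρ (x : ↥(Cfsg.Sz F m)) η)
  have hu : ∀ x ∈ US h, ρ x η ∈ M := fun x hx => Submodule.subset_span ⟨⟨x, hx⟩, rfl⟩
  have hM : ∀ x ∈ US h, ∀ v ∈ M, ρ x v ∈ M := fun x hx v hv => by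
    refine (Submodule.span_le.2 ?_ : M ≤ M.comap (ρ x)) hv
    rintro _ ⟨y, rfl⟩
    show ρ x (ρ (y : ↥(Cfsg.Sz F m)) η) ∈ M
    rw [rho_rho h ρ]
    exact hu _ (mul_mem hx y.2)
  have hMη : η ∈ M := by simpa using hu 1 (one_mem _)
  have hmem : a ∈ M := by
    have hC : C h ρ 1 η ∈ M := by
      rw [C_apply]; exact add_mem (hu _ ⟨1, 0, rfl⟩) hMη
    rw [five_rel hρ ha, N_apply]
    exact add_mem (hM _ ⟨0, 1, rfl⟩ _ hC) hC
  have htop : M = ⊤ := Frame.span_eq_top hI ha hmem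
  refine top_unique (htop ▸ Submodule.span_le.2 ?_)
  rintro _ ⟨y, rfl⟩
  exact hY _ y.2 _ hη

theorem eta_not_mem (hρ : Fpf ρ) (hI : Irred ρ) (ha : (szFrame h).Eigen ρ a lam) : η ∉ L h ρ 1 := by
  intro hη
  haveI := hI.1
  have h1 := span_top hρ hI ha (rho_mem_L h ρ 1) hη
  have h2 : L h ρ 0 = ⊥ := L_eq_bot h ρ (by rw [h1]; exact le_top)
  exact absurd h2 (by show (⊤ : Submodule F V) ≠ ⊥; exact top_ne_bot)

theorem decomp (hρ : Fpf ρ) (hI : Irred ρ) (ha : (szFrame h).Eigen ρ a lam) (v : V) :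
    ∃ c : F, v + c • η ∈ L h ρ 1 := by
  have h1 : L h ρ 1 ⊔ F ∙ η = ⊤ := by
    refine span_top hρ hI ha (fun x hx w hw => ?_)
      (Submodule.mem_sup_right (Submodule.mem_span_singleton_self _))
    obtain ⟨l, hl, y, hy, rfl⟩ := Submodule.mem_sup.1 hw
    obtain ⟨c, rfl⟩ := Submodule.mem_span_singleton.1 hy
    rw [map_add, map_smul]
    refine add_mem (Submodule.mem_sup_left (rho_mem_L h ρ 1 x hx l hl)) (Submodule.smul_mem _ c ?_)
    obtain ⟨e, b, rfl⟩ := hx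
    rw [rho_u h ρ]
    refine add_mem (Submodule.mem_sup_left ?_)
      (Submodule.mem_sup_right (Submodule.mem_span_singleton_self _))
    exact add_mem (add_mem (C_mem_L h ρ (d := 0) Submodule.mem_top e)
      (C_mem_L h ρ (d := 0) Submodule.mem_top e))
      (L_mono h ρ (by norm_num) (N_L_succ h ρ (d := 0) Submodule.mem_top b))
  obtain ⟨l, hl, y, hy, hly⟩ := Submodule.mem_sup.1 (h1 ▸ Submodule.mem_top : v ∈ L h ρ 1 ⊔ F ∙ η)
  obtain ⟨c, rfl⟩ := Submodule.mem_span_singleton.1 hy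
  exact ⟨c, by rw [← hly, add_assoc, dbl h, add_zero]; exact hl⟩

theorem fixed_mem_L1 (hρ : Fpf ρ) (hI : Irred ρ) (ha : (szFrame h).Eigen ρ a lam) {v : V}
    (hv : ∀ e, C h ρ e v = 0) : v ∈ L h ρ 1 := by
  obtain ⟨c, hc⟩ := decomp hρ hI ha v
  by_cases hc0 : c = 0
  · simpa [hc0] using hc
  exfalso
  have h1 : ∀ e, C h ρ e η ∈ L h ρ 2 := fun e => by
    have h2 := C_mem_L h ρ hc e
    rw [map_add, hv, zero_add, map_smul] at h2
    simpa [smul_smul, inv_mul_cancel₀ hc0] using Submodule.smul_mem _ c⁻¹ h2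
  have h3 : L h ρ 1 ≤ L h ρ 2 := L_succ_le h ρ (d := 0) fun e w _ => by
    obtain ⟨c', hc'⟩ := decomp hρ hI ha w
    have e2 : w = (w + c' • η) + c' • η := by rw [add_assoc, dbl h, add_zero]
    rw [e2, map_add, map_smul]
    exact add_mem (C_mem_L h ρ hc' e) (Submodule.smul_mem _ _ (h1 e))
  have h4 := J_le_L h ρ 1 (a_mem_J1 hρ ha)
  have h5 := L_mono h ρ (show 1 ≤ 1 + 2 by norm_num) h4
  rw [L_eq_bot h ρ h3, Submodule.mem_bot] at h5
  exact ha.ne h5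

theorem fixed_mem (hρ : Fpf ρ) (hI : Irred ρ) (ha : (szFrame h).Eigen ρ a lam) {v : V}
    (hC : ∀ e, C h ρ e v = 0) (hN : ∀ b, N h ρ b v = 0) : v ∈ F ∙ a := by
  obtain ⟨c, hc⟩ := decomp hρ hI ha (ρ (wS h) v)
  suffices h0 : v + c • a = 0 by
    rw [← sub_v h, sub_eq_zero] at h0
    exact h0 ▸ Submodule.smul_mem _ c (Submodule.mem_span_singleton_self a)
  by_contra hne
  obtain ⟨x, hxdef⟩ : ∃ x, x = v + c • a := ⟨_, rfl⟩
  rw [← hxdef] at hne
  have hxC : ∀ e, C h ρ e x = 0 := fun e => by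
    rw [hxdef, map_add, map_smul, hC, C_fix ha, smul_zero, add_zero]
  have hxN : ∀ b, N h ρ b x = 0 := fun b => by
    rw [hxdef, map_add, map_smul, hN, N_fix ha, smul_zero, add_zero]
  have hx1 : x ∈ L h ρ 1 := fixed_mem_L1 hρ hI ha hxC
  have hwx : ρ (wS h) x ∈ L h ρ 1 := by rw [hxdef, map_add, map_smul]; exact hc
  have hfix : ∀ y ∈ US h, ρ y x = x := by
    rintro y ⟨e, b, rfl⟩
    rw [rho_u h ρ, hxN, map_zero, hxC, zero_add, zero_add, zero_add]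
  have horb : orbSpan ρ x ≤ L h ρ 1 := by
    refine Submodule.span_le.2 ?_
    rintro _ ⟨g, rfl⟩
    show ρ g x ∈ L h ρ 1
    rcases (szFrame h).bruhat g with ⟨u, hu, s, rfl⟩ | ⟨u, hu, s, y, hy, rfl⟩
    · rw [← rho_rho h ρ]
      exact rho_mem_L h ρ 1 u hu _ (k_mem_L 1 s x hx1)
    · rw [← rho_rho h ρ, hfix y hy]
      show ρ (u * wS h * dS h s) x ∈ L h ρ 1
      rw [mul_assoc, wS_conj h, ← rho_rho h ρ, ← rho_rho h ρ]
      exact rho_mem_L h ρ 1 u hu _ (k_mem_L 1 _ _ hwx)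
  rcases hI.2 _ (inv_orbSpan ρ x) with h1 | h1
  · exact hne ((Submodule.eq_bot_iff _).1 h1 x (mem_orbSpan ρ x))
  · exact eta_not_mem hρ hI ha (horb (h1 ▸ Submodule.mem_top))

theorem socle (hρ : Fpf ρ) (hI : Irred ρ) (ha : (szFrame h).Eigen ρ a lam) {Y : Submodule F V}
    (hY : ∀ x ∈ US h, ∀ v ∈ Y, ρ x v ∈ Y) (hne : Y ≠ ⊥) : a ∈ Y := by
  haveI := charP_two h
  obtain ⟨v, hv, hv0, hfix⟩ := exists_fixed (ρ := ρ) (szFrame h).two_group hY hne
  have h1 : v ∈ F ∙ a := fixed_mem hρ hI ha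
    (fun e => by rw [C_apply, hfix _ ⟨e, 0, rfl⟩, dbl h])
    (fun b => by rw [N_apply, hfix _ ⟨0, b, rfl⟩, dbl h])
  obtain ⟨c, rfl⟩ := Submodule.mem_span_singleton.1 h1
  have hc : c ≠ 0 := fun e => hv0 (by rw [e, zero_smul])
  simpa [smul_smul, inv_mul_cancel₀ hc] using Y.smul_mem c⁻¹ hv

theorem J_le_span (hρ : Fpf ρ) (hI : Irred ρ) (ha : (szFrame h).Eigen ρ a lam) {i : ℕ}
    (hJ : J h ρ (i + 1) = ⊥) : J h ρ i ≤ F ∙ a := fun v hv => by
  refine fixed_mem hρ hI ha (fun e => ?_) fun b => ?_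
  · simpa [hJ] using C_mem_J h ρ hv e
  · have := J_anti h ρ (i + 1) (N_J h ρ hv b)
    simpa [hJ] using this

/-- The value of the opposite element on the image of a central augmentation. -/
theorem flip_N (ha : (szFrame h).Eigen ρ a lam) (c : Fˣ) :
    ρ (wS h) (N h ρ (c : F) η) =
      ch (2 * (pw (hM m) - 1) * lam) c • (C h ρ ((c : F) / th m (c : F)) η + η) + a := by
  obtain ⟨s, hs⟩ : ∃ s : Fˣ, s =
      (Units.mk0 (th m (c : F)) (fun e => c.ne_zero ((th_eq_zero h).1 e)) * c⁻¹) ^ 2 := ⟨_, rfl⟩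
  have hrel := wzw h c
  rw [← hs] at hrel
  have hsv : (s : F) = ch (2 * (pw (hM m) - 1)) c := by
    have h1 : ch (pw (hM m) - 1) c = th m (c : F) * (c : F)⁻¹ := by
      have h2 : ch (1 : Wt (2 * m + 1)) c = (c : F) := by
        have := ch_pw h.card (0 : ZMod (2 * m + 1)) c
        rwa [pw_zero, ZMod.val_zero, pow_zero, pow_one] at this
      have h3 : ch (-1 : Wt (2 * m + 1)) c = (c : F)⁻¹ := by
        refine eq_inv_of_mul_eq_one_left ?_
        conv_lhs => arg 2; rw [← h2]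
        exact ch_neg_mul h.card 1 c
      rw [sub_eq_add_neg, ch_add h.card, ch_pw h.card, hM_val h, h3]
      rfl
    rw [show 2 * (pw (hM m) - 1 : Wt (2 * m + 1)) = (pw (hM m) - 1) + (pw (hM m) - 1) from two_mul _,
      ch_add h.card, h1, hs]
    push_cast
    simp [sq]
  have hch : ch lam s = ch (2 * (pw (hM m) - 1) * lam) c := by
    haveI := neZero_mod (n := 2 * m + 1)
    conv_rhs => rw [← ZMod.natCast_zmod_val lam, ch_mul_natCast h.card, ← hsv]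
    rfl
  rw [N_apply, map_add, t_eta, rho_rho h ρ, rho_rho h ρ]
  congr 1
  rw [hrel, ← rho_rho h ρ, ha.fix _ ⟨_, _, rfl⟩, ← rho_rho h ρ, ← rho_rho h ρ]
  have h2 : ρ (dS h s) a = ch lam s • a := ha.wt s
  rw [h2, map_smul, map_smul, rho_C h ρ, hch]

theorem k_Cp (σ : Fˣ) (p : ZMod (2 * m + 1)) (v : V) :
    ρ (dS h σ) (Cp h ρ p v) = ch (pw p) σ • Cp h ρ p (ρ (dS h σ) v) := by
  rw [Cp_apply, Cp_apply, map_coef]
  simp only [k_C, coef, proj, Finset.smul_sum, smul_smul]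
  refine Fintype.sum_equiv (Equiv.mulLeft σ) _ _ fun e => ?_
  rw [Equiv.coe_mulLeft, Units.val_mul]
  congr 1
  have h1 : ch (-pw p) (σ * e) = ch (-pw p) σ * ch (-pw p) e := by simp only [ch, Units.val_mul, mul_pow]
  rw [h1, ← mul_assoc, mul_comm (ch (pw p) σ), ch_neg_mul h.card, one_mul]

theorem k_Np (σ : Fˣ) (p : ZMod (2 * m + 1)) (v : V) :
    ρ (dS h σ) (Np h ρ p v) = ch (szδ m * pw p) σ • Np h ρ p (ρ (dS h σ) v) := by
  obtain ⟨τ, hτ⟩ : ∃ τ : Fˣ, τ = Units.mk0 (ch (szδ m) σ) (pow_ne_zero _ σ.ne_zero) := ⟨_, rfl⟩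
  have h2 : ch (szδ m * pw p) σ = ch (pw p) τ := by
    haveI := neZero_mod (n := 2 * m + 1)
    conv_lhs => rw [← ZMod.natCast_zmod_val (pw p : Wt (2 * m + 1)), ch_mul_natCast h.card]
    rw [hτ]; rfl
  rw [Np_apply, Np_apply, map_coef]
  simp only [k_N, coef, proj, Finset.smul_sum, smul_smul, h2]
  refine Fintype.sum_equiv (Equiv.mulLeft τ) _ _ fun e => ?_
  have hτv : (τ : F) = ch (szδ m) σ := by rw [hτ]; rfl
  rw [Equiv.coe_mulLeft, Units.val_mul, hτv]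
  congr 1
  have h1 : ch (-pw p) (τ * e) = ch (-pw p) τ * ch (-pw p) e := by simp only [ch, Units.val_mul, mul_pow]
  rw [h1, ← mul_assoc, mul_comm (ch (pw p) τ), ch_neg_mul h.card, one_mul]

end Cfsg.Lib.CIT.Rad2.SzRep
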