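import Mathlib
import Cfsg.Agent.Lib.CIT.Rad2.SzIrred

/-!
An irreducible representation of a Suzuki group whose fixed vector lies deep in the filtration: the layers
of the filtration are generated by the products of two central augmentations, and the filtration is short.
-/

set_option autoImplicit false
set_option linter.unusedSectionVars false

universe u

namespace Cfsg.Lib.CIT.Rad2.SzRep

open Finset
open Cfsg.Lib.Linear.Suz

variable {F : Type} [Field F] [Fintype F] [DecidableEq F] {m : ℕ} {h : Params F m}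
  {V : Type u} [AddCommGroup V] [Module F V] [Finite V] {ρ : ↥(Cfsg.Sz F m) →* Module.End F V}
  {a : V} {lam : Wt (2 * m + 1)}

local notation "η" => ρ (wS h) a

/-- The coefficient of a non-exceptional pair vanishes. -/
theorem coef_single {W : Type*} [AddCommGroup W] [Module F W] (hp : Params F m) {Φ : F → F → W}
    (hb : Biadd Φ) (hd : ∀ s : Fˣ, Φ (ch (szδ m) s) s = 0) {i l : ZMod (2 * m + 1)}
    (hc : ¬ Chain m i l) : coef₂ Φ i l = 0 := by
  classical
  have h1 := class_sum hp.card (by have := hp.pos; omega) hb (szδ m) hd (szδ m * pw i + pw l)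
  rw [Finset.sum_eq_single (i, l)] at h1
  · exact h1
  · rintro ⟨i', l'⟩ hq hne
    simp only [Finset.mem_filter, Finset.mem_univ, true_and] at hq
    obtain ⟨rfl, rfl⟩ := weight_unique hp.pos i l i' l' hc hq
    exact absurd rfl hne
  · simp

/-- The two coefficients of an exceptional weight agree. -/
theorem coef_pair {W : Type*} [AddCommGroup W] [Module F W] (hp : Params F m) (hm : 2 ≤ m) {Φ : F → F → W}
    (hb : Biadd Φ) (hd : ∀ s : Fˣ, Φ (ch (szδ m) s) s = 0) (A : ZMod (2 * m + 1)) :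
    coef₂ Φ A (A + (hM m + hM m)) + coef₂ Φ (A + hM m) A = 0 := by
  classical
  have h1 := class_sum hp.card (by omega) hb (szδ m) hd (szδ m * pw A + pw (A + (hM m + hM m)))
  have hne : (A, A + (hM m + hM m)) ≠ (A + hM m, A) := fun e => by
    have e1 := congrArg Prod.fst e
    have := k_hM_ne hm one_ne_zero (by norm_num)
    rw [Nat.cast_one, one_mul] at this
    exact this (left_eq_add.1 e1)
  have hset : (univ : Finset (ZMod (2 * m + 1) × ZMod (2 * m + 1))).filter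
      (fun q => szδ m * pw q.1 + pw q.2 = szδ m * pw A + pw (A + (hM m + hM m))) =
      {(A, A + (hM m + hM m)), (A + hM m, A)} := by
    ext ⟨i', l'⟩
    simp only [Finset.mem_filter, Finset.mem_univ, true_and, Finset.mem_insert, Finset.mem_singleton,
      Prod.mk.injEq]
    refine ⟨weight_chain hm A i' l', ?_⟩
    rintro (⟨h1, h2⟩ | ⟨h1, h2⟩)
    · rw [h1, h2]
    · rw [h1, h2, szδ_mul, szδ_mul, add_assoc A (hM m) (hM m)]
      ring
  rw [hset, Finset.sum_pair hne] at h1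
  exact h1

theorem mkQ_eq_zero {Y : Submodule F V} {v : V} (hv : v ∈ Y) : Y.mkQ v = 0 :=
  (Submodule.Quotient.mk_eq_zero Y).2 hv

theorem mem_of_mkQ_eq_zero {Y : Submodule F V} {v : V} (hv : Y.mkQ v = 0) : v ∈ Y :=
  (Submodule.Quotient.mk_eq_zero Y).1 hv

theorem mkQ_add_eq {Y : Submodule F V} (hp : Params F m) {u v w : V} (hv : u + (v + w) ∈ Y) :
    Y.mkQ u = Y.mkQ v + Y.mkQ w := by
  rw [← map_add]
  exact mkQ_eq_of_add_mem hp hv

/-- The first layer, as a biadditive function. -/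
theorem biadd_first :
    Biadd (fun b e => (J h ρ 2).mkQ (N h ρ b (C h ρ e η))) where
  left b b' e := mkQ_add_eq h (J_mono h ρ (by norm_num)
    (N_add_L h ρ (d := 1) (C_mem_L h ρ (d := 0) Submodule.mem_top e) b b'))
  right b e e' := by
    refine mkQ_add_eq h ?_
    rw [← map_add, ← map_add]
    exact N_L h ρ (C_add_L h ρ (d := 0) Submodule.mem_top e e') b

theorem first_diag (hρ : Fpf ρ) (ha : (szFrame h).Eigen ρ a lam) (ha2 : a ∈ J h ρ 2) (s : Fˣ) :
    (J h ρ 2).mkQ (N h ρ (ch (szδ m) s) (C h ρ (s : F) η)) = 0 := by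
  rw [scaled_rel hρ ha]
  exact mkQ_eq_zero (Submodule.smul_mem _ _ ha2)

theorem first_coef (i l : ZMod (2 * m + 1)) :
    coef₂ (fun b e => (J h ρ 2).mkQ (N h ρ b (C h ρ e η))) i l =
      (J h ρ 2).mkQ (Np h ρ i (Cp h ρ l η)) :=
  coef₂_comp (J h ρ 2).mkQ (N h ρ) (C h ρ) η i l

theorem first_single (hρ : Fpf ρ) (ha : (szFrame h).Eigen ρ a lam) (ha2 : a ∈ J h ρ 2)
    {i l : ZMod (2 * m + 1)} (hc : ¬ Chain m i l) : Np h ρ i (Cp h ρ l η) ∈ J h ρ 2 :=
  mem_of_mkQ_eq_zero ((first_coef (h := h) (ρ := ρ) (a := a) i l).symm.trans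
    (coef_single h biadd_first (first_diag hρ ha ha2) hc))

theorem first_pair (hρ : Fpf ρ) (ha : (szFrame h).Eigen ρ a lam) (ha2 : a ∈ J h ρ 2) (hm : 2 ≤ m)
    (A : ZMod (2 * m + 1)) :
    Np h ρ A (Cp h ρ (A + (hM m + hM m)) η) + Np h ρ (A + hM m) (Cp h ρ A η) ∈ J h ρ 2 := by
  refine mem_of_mkQ_eq_zero ?_
  rw [map_add, ← first_coef, ← first_coef]
  exact coef_pair h hm biadd_first (first_diag hρ ha ha2) A

/-- The products of two central augmentations, together with the third layer. -/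
def K (h : Params F m) (ρ : ↥(Cfsg.Sz F m) →* Module.End F V) (a : V) : Submodule F V :=
  Submodule.span F (Set.range fun q : F × F => N h ρ q.1 (N h ρ q.2 (ρ (wS h) a))) ⊔ J h ρ 3

theorem J3_le_K : J h ρ 3 ≤ K h ρ a := le_sup_right

theorem NN_mem_K (b c : F) : N h ρ b (N h ρ c η) ∈ K h ρ a :=
  Submodule.mem_sup_left (Submodule.subset_span ⟨(b, c), rfl⟩)

theorem NNp_mem_K (b : F) (i : ZMod (2 * m + 1)) : N h ρ b (Np h ρ i η) ∈ K h ρ a := by
  rw [Np_apply, map_coef]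
  exact coef_mem _ (fun c => NN_mem_K b c) i

theorem biadd_second {y : V} (hy : y ∈ J h ρ 0) :
    Biadd (fun e f => (K h ρ a).mkQ (C h ρ e (C h ρ f y))) where
  left e e' f := mkQ_add_eq h (J3_le_K (C_add_J h ρ (C_mem_J h ρ hy f) e e'))
  right e f f' := by
    refine mkQ_add_eq h (J3_le_K ?_)
    rw [← map_add, ← map_add]
    exact C_mem_J h ρ (C_add_J h ρ hy f f') e

theorem second_swap (i p l : ZMod (2 * m + 1)) :
    (K h ρ a).mkQ (Cp h ρ p (Cp h ρ l (Np h ρ i η))) =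
      (K h ρ a).mkQ (Cp h ρ l (Cp h ρ p (Np h ρ i η))) := by
  have hs : ∀ e f, (K h ρ a).mkQ (C h ρ e (C h ρ f (Np h ρ i η))) =
      (K h ρ a).mkQ (C h ρ f (C h ρ e (Np h ρ i η))) := fun e f => by
    refine mkQ_eq_of_add_mem h ?_
    rw [C_comm_add h ρ]
    have hd := NNp_mem_K (h := h) (ρ := ρ) (a := a) (th m e * f + th m f * e) i
    have hd2 := N_J h ρ (Np_mem_J0 h ρ i η) (th m e * f + th m f * e)
    rw [rho_C h ρ f, rho_C h ρ e, map_add]
    exact add_mem (add_mem (J3_le_K (J_mono h ρ (by norm_num) (C_mem_J h ρ (C_mem_J h ρ hd2 e) f)))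
      (J3_le_K (C_mem_J h ρ hd2 f))) (add_mem (J3_le_K (C_mem_J h ρ hd2 e)) hd)
  have e1 := coef₂_comp (K h ρ a).mkQ (C h ρ) (C h ρ) (Np h ρ i η) p l
  have e2 := coef₂_comp (K h ρ a).mkQ (C h ρ) (C h ρ) (Np h ρ i η) l p
  change coef₂ _ p l = (K h ρ a).mkQ (Cp h ρ p (Cp h ρ l (Np h ρ i η))) at e1
  change coef₂ _ l p = (K h ρ a).mkQ (Cp h ρ l (Cp h ρ p (Np h ρ i η))) at e2
  rw [← e1, ← e2]
  simp only [coef₂, coef, proj, Finset.smul_sum, smul_smul]
  rw [Finset.sum_comm]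
  exact Finset.sum_congr rfl fun e _ => Finset.sum_congr rfl fun f _ => by rw [hs, mul_comm]

theorem second_zero (hρ : Fpf ρ) (ha : (szFrame h).Eigen ρ a lam) (ha2 : a ∈ J h ρ 2)
    (i p l : ZMod (2 * m + 1)) : (K h ρ a).mkQ (Cp h ρ p (Cp h ρ l (Np h ρ i η))) = 0 := by
  have hn : 1 < 2 * m + 1 := (szFrame h).hn
  have kill : ∀ i p l, Np h ρ i (Cp h ρ l η) ∈ J h ρ 2 →
      (K h ρ a).mkQ (Cp h ρ p (Cp h ρ l (Np h ρ i η))) = 0 := fun i p l hi => by
    refine mkQ_eq_zero (J3_le_K ?_)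
    rw [← Np_comm_Cp h ρ]
    exact Cp_mem_J h ρ hi p
  have hdiag : ∀ i p, (K h ρ a).mkQ (Cp h ρ p (Cp h ρ p (Np h ρ i η))) = 0 := fun i p => by
    have e1 := coef₂_comp (K h ρ a).mkQ (C h ρ) (C h ρ) (Np h ρ i η) p p
    change coef₂ _ p p = (K h ρ a).mkQ (Cp h ρ p (Cp h ρ p (Np h ρ i η))) at e1
    rw [← e1]
    refine coef₂_self h.card hn (biadd_second (Np_mem_J0 h ρ i η)) (fun e => ?_) p
    rw [C_sq h ρ]
    exact mkQ_eq_zero (NNp_mem_K _ _)
  by_cases hl : Chain m i l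
  swap
  · exact kill i p l (first_single hρ ha ha2 hl)
  by_cases hp : Chain m i p
  swap
  · rw [second_swap]; exact kill i l p (first_single hρ ha ha2 hp)
  by_cases hpl : p = l
  · rw [hpl]; exact hdiag i l
  rcases h.pos.eq_or_lt with hm1 | hm2
  · exfalso
    subst hm1
    have e : ∀ x y : ZMod (2 * 1 + 1), x + (hM 1 + hM 1) = y → x - hM 1 = y := by decide
    rcases hl with hl | hl <;> rcases hp with hp | hp <;> subst hl hp
    · exact hpl rfl
    · exact hpl (e _ _ rfl)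
    · exact hpl (e _ _ rfl).symm
    · exact hpl rfl
  have key : (K h ρ a).mkQ (Cp h ρ (i + (hM m + hM m)) (Cp h ρ (i - hM m) (Np h ρ i η))) = 0 := by
    have h1 := first_pair hρ ha ha2 hm2 (i - hM m)
    rw [sub_add_cancel] at h1
    have h2 := Cp_mem_J h ρ h1 (i + (hM m + hM m))
    rw [map_add, Np_comm_Cp h ρ, Np_comm_Cp h ρ] at h2
    rw [← mkQ_eq_of_add_mem h (J3_le_K h2), second_swap]
    refine kill _ _ _ (first_single hρ ha ha2 ?_)
    have k1 := k_hM_ne hm2 one_ne_zero (by norm_num)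
    have k4 := k_hM_ne hm2 four_ne_zero (by norm_num)
    rintro (e | e)
    · exact k1 (by push_cast; linear_combination e)
    · exact k4 (by push_cast; linear_combination e)
  rcases hl with hl | hl <;> rcases hp with hp | hp <;> subst hl hp
  · exact absurd rfl hpl
  · rw [second_swap]; exact key
  · exact key
  · exact absurd rfl hpl

theorem CCN_mem_K (hρ : Fpf ρ) (ha : (szFrame h).Eigen ρ a lam) (ha2 : a ∈ J h ρ 2) (e f b : F) :
    (K h ρ a).mkQ (C h ρ e (C h ρ f (N h ρ b η))) = 0 := by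
    have hn : 1 < 2 * m + 1 := (szFrame h).hn
    refine eq_zero_of_coef h.card hn (g := fun b => (K h ρ a).mkQ (C h ρ e (C h ρ f (N h ρ b η))))
      (fun x y => mkQ_add_eq h (J3_le_K ?_)) (fun i => ?_) b
    · rw [← map_add, ← map_add, ← map_add, ← map_add]
      exact J_mono h ρ (by norm_num)
        (C_mem_J h ρ (C_mem_J h ρ (N_add_L h ρ (d := 0) (v := η) Submodule.mem_top x y) f) e)
    · have e1 : coef (fun b => (K h ρ a).mkQ (C h ρ e (C h ρ f (N h ρ b η)))) i =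
          (K h ρ a).mkQ (C h ρ e (C h ρ f (Np h ρ i η))) := by
        rw [Np_apply]
        simp only [coef, proj, map_sum, map_smul]
      rw [e1]
      refine eq_zero_of_coef₂ h.card hn (biadd_second (Np_mem_J0 h ρ i η)) (fun p l => ?_) e f
      exact (coef₂_comp (K h ρ a).mkQ (C h ρ) (C h ρ) (Np h ρ i η) p l).trans
        (second_zero hρ ha ha2 i p l)

theorem J2_le_K (hρ : Fpf ρ) (hI : Irred ρ) (ha : (szFrame h).Eigen ρ a lam) (ha2 : a ∈ J h ρ 2) :
    J h ρ 2 ≤ K h ρ a := by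
  have h0 := CCN_mem_K hρ ha ha2
  have hx : ∀ e f b x, C h ρ e (C h ρ f (N h ρ b x)) ∈ K h ρ a := fun e f b x => by
    obtain ⟨c, hc⟩ := decomp hρ hI ha x
    have h1 : N h ρ b (x + c • η) ∈ J h ρ 1 := N_L h ρ hc b
    have h2 : C h ρ f (N h ρ b (x + c • η)) ∈ J h ρ 2 := C_mem_J h ρ h1 f
    have h3 : C h ρ e (C h ρ f (N h ρ b (x + c • η))) ∈ J h ρ 3 := C_mem_J h ρ h2 e
    have e1 : x = (x + c • η) + c • η := by rw [add_assoc, dbl h, add_zero]
    rw [e1, map_add, map_add, map_add, map_smul, map_smul, map_smul]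
    exact add_mem (J3_le_K h3) (Submodule.smul_mem _ _ (mem_of_mkQ_eq_zero (h0 e f b)))
  have hJ0 : ∀ e f, ∀ u ∈ J h ρ 0, C h ρ e (C h ρ f u) ∈ K h ρ a := fun e f u hu => by
    have h1 := J_zero_le h ρ (Y := (K h ρ a).comap (C h ρ e ∘ₗ C h ρ f)) (fun b x => by
      rw [Submodule.mem_comap, LinearMap.comp_apply]; exact hx e f b x)
    have h2 := h1 hu
    rwa [Submodule.mem_comap, LinearMap.comp_apply] at h2
  have hJ1 : ∀ e, ∀ w ∈ J h ρ (0 + 1), C h ρ e w ∈ K h ρ a := fun e w hw => by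
    have h1 := J_succ_le h ρ (i := 0) (Y := (K h ρ a).comap (C h ρ e)) (fun f u hu => by
      rw [Submodule.mem_comap]; exact hJ0 e f u hu)
    exact Submodule.mem_comap.1 (h1 hw)
  exact J_succ_le h ρ (i := 0 + 1) hJ1

theorem biadd_third (i : ZMod (2 * m + 1)) :
    Biadd (fun b e => (J h ρ 4).mkQ (N h ρ b (C h ρ e (Np h ρ i η)))) where
  left b b' e := mkQ_add_eq h (J_mono h ρ (by norm_num)
    (N_add_J h ρ (C_mem_J h ρ (Np_mem_J0 h ρ i η) e) b b'))
  right b e e' := by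
    refine mkQ_add_eq h ?_
    rw [← map_add, ← map_add]
    exact N_J h ρ (C_add_J h ρ (Np_mem_J0 h ρ i η) e e') b

theorem third_diag (hρ : Fpf ρ) (ha : (szFrame h).Eigen ρ a lam) (ha2 : a ∈ J h ρ 2)
    (i : ZMod (2 * m + 1)) (s : Fˣ) :
    (J h ρ 4).mkQ (N h ρ (ch (szδ m) s) (C h ρ (s : F) (Np h ρ i η))) = 0 := by
  rw [← Np_comm_C h ρ, ← Np_comm_N h ρ, scaled_rel hρ ha, map_smul]
  exact mkQ_eq_zero (Submodule.smul_mem _ _ (Np_J h ρ ha2 i))

theorem third_coef (q i j : ZMod (2 * m + 1)) :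
    coef₂ (fun b e => (J h ρ 4).mkQ (N h ρ b (C h ρ e (Np h ρ j η)))) i q =
      (J h ρ 4).mkQ (Cp h ρ q (Np h ρ i (Np h ρ j η))) := by
  rw [← Np_comm_Cp h ρ]
  exact coef₂_comp (J h ρ 4).mkQ (N h ρ) (C h ρ) (Np h ρ j η) i q

theorem biadd_NN : Biadd (fun b c => (J h ρ 3).mkQ (N h ρ b (N h ρ c η))) where
  left b b' c := mkQ_add_eq h (J_mono h ρ (by norm_num) (N_add_J h ρ (N_mem_J0 h ρ c η) b b'))
  right b c c' := by
    refine mkQ_add_eq h ?_
    rw [← map_add, ← map_add]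
    exact J_mono h ρ (by norm_num) (N_J h ρ (N_add_L h ρ (d := 0) (v := η) Submodule.mem_top c c') b)

theorem third_self (hρ : Fpf ρ) (q i : ZMod (2 * m + 1)) :
    Cp h ρ q (Np h ρ i (Np h ρ i η)) ∈ J h ρ 4 := by
  refine Cp_mem_J h ρ (mem_of_mkQ_eq_zero ?_) q
  have e1 := coef₂_comp (J h ρ 3).mkQ (N h ρ) (N h ρ) η i i
  change coef₂ _ i i = (J h ρ 3).mkQ (Np h ρ i (Np h ρ i η)) at e1
  rw [← e1]
  refine coef₂_self h.card (szFrame h).hn biadd_NN (fun s => ?_) i
  rw [N_sq h ρ, map_zero]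

theorem third_single (hρ : Fpf ρ) (ha : (szFrame h).Eigen ρ a lam) (ha2 : a ∈ J h ρ 2)
    {q i j : ZMod (2 * m + 1)} (hc : ¬ Chain m i q ∨ ¬ Chain m j q) :
    Cp h ρ q (Np h ρ i (Np h ρ j η)) ∈ J h ρ 4 := by
  have key : ∀ i j, ¬ Chain m i q → Cp h ρ q (Np h ρ i (Np h ρ j η)) ∈ J h ρ 4 := fun i j hi =>
    mem_of_mkQ_eq_zero ((third_coef (h := h) (ρ := ρ) (a := a) q i j).symm.trans
      (coef_single h (biadd_third j) (third_diag hρ ha ha2 j) hi))
  rcases hc with hc | hc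
  · exact key i j hc
  · rw [Np_comm h ρ]; exact key j i hc

/-- The shape of a pair of indices whose product is not killed. -/
def Exc (m : ℕ) (q i j : ZMod (2 * m + 1)) : Prop :=
  (q = i + (hM m + hM m) ∧ j = i + (hM m + hM m + hM m)) ∨
    (q = j + (hM m + hM m) ∧ i = j + (hM m + hM m + hM m))

theorem third_exc (hρ : Fpf ρ) (ha : (szFrame h).Eigen ρ a lam) (ha2 : a ∈ J h ρ 2)
    {q i j : ZMod (2 * m + 1)} (hG : Cp h ρ q (Np h ρ i (Np h ρ j η)) ∉ J h ρ 4) :
    m = 2 ∧ i ≠ j ∧ Exc m q i j := by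
  have hne : i ≠ j := fun e => hG (e ▸ third_self hρ q i)
  have hci : Chain m i q := by by_contra hc; exact hG (third_single hρ ha ha2 (Or.inl hc))
  have hcj : Chain m j q := by by_contra hc; exact hG (third_single hρ ha ha2 (Or.inr hc))
  have hexc : Exc m q i j := by
    rcases hci with h1 | h1 <;> rcases hcj with h2 | h2
    · exact absurd (add_right_cancel (h1.symm.trans h2)) hne
    · exact Or.inl ⟨h1, by linear_combination h1 - h2⟩
    · exact Or.inr ⟨h2, by linear_combination h2 - h1⟩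
    · exact absurd (sub_left_injective (h1.symm.trans h2)) hne
  refine ⟨?_, hne, hexc⟩
  rcases h.pos.eq_or_lt with hm1 | hm2
  · exfalso
    subst hm1
    have e : ∀ x : ZMod (2 * 1 + 1), x + (hM 1 + hM 1 + hM 1) = x := by decide
    rcases hexc with ⟨-, h2⟩ | ⟨-, h2⟩
    · exact hne (h2.trans (e i)).symm
    · exact hne (h2.trans (e j))
  by_contra hm
  -- transfer to the partner
  have k2 := k_hM_ne hm2 two_ne_zero (by norm_num)
  have k5 : ((5 : ℕ) : ZMod (2 * m + 1)) * hM m ≠ 0 := by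
    intro e
    have h3 := hM_double (m := m)
    have h5 : ((5 : ℕ) : ZMod (2 * m + 1)) = 0 := by
      linear_combination (2 : ZMod (2 * m + 1)) * e - ((5 : ℕ) : ZMod (2 * m + 1)) * h3
    rw [ZMod.natCast_eq_zero_iff] at h5
    have := Nat.le_of_dvd (by norm_num) h5
    omega
  have key : ∀ i j q, q = i + (hM m + hM m) → j = i + (hM m + hM m + hM m) →
      Cp h ρ q (Np h ρ i (Np h ρ j η)) ∈ J h ρ 4 := by
    intro i j q hq hj
    have h1 : Cp h ρ i (Np h ρ (i + hM m) (Np h ρ j η)) ∈ J h ρ 4 := by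
      refine third_single hρ ha ha2 (Or.inr ?_)
      rintro (e | e)
      · exact k5 (by push_cast; linear_combination -e - hj)
      · exact k2 (by push_cast; linear_combination -e - hj)
    refine mem_of_mkQ_eq_zero ?_
    have h2 := coef_pair h hm2 (biadd_third j) (third_diag hρ ha ha2 j) i
    rw [third_coef, third_coef, mkQ_eq_zero h1, add_zero, ← hq] at h2
    exact h2
  rcases hexc with ⟨h1, h2⟩ | ⟨h1, h2⟩
  · exact hG (key i j q h1 h2)
  · exact hG (Np_comm h ρ i j η ▸ key j i q h1 h2)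

/-- A property of the images of the products of two central augmentations. -/
theorem C_NN_mem {e b c : F}
    (h0 : ∀ q i j, Cp h ρ q (Np h ρ i (Np h ρ j η)) ∈ J h ρ 4) :
    C h ρ e (N h ρ b (N h ρ c η)) ∈ J h ρ 4 := by
  have hn : 1 < 2 * m + 1 := (szFrame h).hn
  refine mem_of_mkQ_eq_zero ?_
  rw [← N_comm_C h ρ]
  refine eq_zero_of_coef h.card hn (g := fun c => (J h ρ 4).mkQ (N h ρ b (C h ρ e (N h ρ c η))))
    (fun x y => mkQ_add_eq h ?_) (fun j => ?_) c
  · rw [← map_add, ← map_add, ← map_add, ← map_add]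
    exact J_mono h ρ (by norm_num)
      (N_J h ρ (C_mem_J h ρ (N_add_L h ρ (d := 0) (v := η) Submodule.mem_top x y) e) b)
  · have e1 : coef (fun c => (J h ρ 4).mkQ (N h ρ b (C h ρ e (N h ρ c η)))) j =
        (J h ρ 4).mkQ (N h ρ b (C h ρ e (Np h ρ j η))) := by
      rw [Np_apply]
      simp only [coef, proj, map_sum, map_smul]
    rw [e1]
    refine eq_zero_of_coef₂ h.card hn (biadd_third j) (fun i q => ?_) b e
    rw [third_coef]
    exact mkQ_eq_zero (h0 q i j)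

theorem J3_le_J4 (hρ : Fpf ρ) (hI : Irred ρ) (ha : (szFrame h).Eigen ρ a lam) (ha2 : a ∈ J h ρ 2)
    (h0 : ∀ q i j, Cp h ρ q (Np h ρ i (Np h ρ j η)) ∈ J h ρ 4) : J h ρ 3 ≤ J h ρ 4 := by
  have hK : ∀ e, K h ρ a ≤ (J h ρ 4).comap (C h ρ e) := fun e => by
    refine sup_le (Submodule.span_le.2 ?_) fun w hw => ?_
    · rintro _ ⟨⟨b, c⟩, rfl⟩
      rw [SetLike.mem_coe, Submodule.mem_comap]
      exact C_NN_mem h0
    · rw [Submodule.mem_comap]
      exact C_mem_J h ρ (i := 3) hw e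
  refine J_succ_le h ρ (i := 2) fun e v hv => ?_
  exact Submodule.mem_comap.1 (hK e (J2_le_K hρ hI ha ha2 hv))

end Cfsg.Lib.CIT.Rad2.SzRep
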