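import Mathlib
import Cfsg.Agent.Lib.CIT.Rad2.SzDeep

/-!
The third layer of the filtration vanishes when the fixed vector lies deep.
-/

set_option autoImplicit false
set_option linter.unusedSectionVars false

universe u

namespace Cfsg.Lib.CIT.Rad2.SzRep

open Finset
open Cfsg.Lib.Linear.Suz

variable {F : Type} [Field F] [Fintype F] [DecidableEq F] {m : ℕ} {h : Params F m}
  {V : Type u} [AddCommGroup V] [Module F V] [Finite V] {ρ : ↥(Cfsg.Sz F m) →* Module.End F V}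
  {a : V} {lam : Wt (2 * m + 1)}

local notation "η" => ρ (wS h) a

theorem two_lam_ne_zero (hρ : Fpf ρ) (ha : (szFrame h).Eigen ρ a lam) : 2 * lam ≠ 0 := fun e => by
  have h2u : IsUnit (2 : Wt (2 * m + 1)) := pw_one (n := 2 * m + 1) ▸ isUnit_pw 1
  exact Frame.weight_ne_zero hρ ha ((h2u.mul_right_eq_zero).1 e)

/-- The weight of a nonzero product of coefficient operators lying on the fixed line. -/
theorem weight_eq_of_mem (ha : (szFrame h).Eigen ρ a lam) {x : V} {w : Wt (2 * m + 1)}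
    (hx : x ∈ F ∙ a) (hx0 : x ≠ 0) (hw : ∀ σ : Fˣ, ρ (dS h σ) x = ch w σ • x) : lam = w := by
  obtain ⟨c, rfl⟩ := Submodule.mem_span_singleton.1 hx
  have hone : ∀ σ : Fˣ, ch (lam - w) σ = (1 : F) := fun σ => by
    have h1 := hw σ
    have h2 : ρ (dS h σ) (c • a) = ch lam σ • (c • a) := by
      rw [map_smul, show ρ (dS h σ) a = ch lam σ • a from ha.wt σ, smul_comm]
    have h3 := smul_left_injective F hx0 (h2.symm.trans h1)
    rw [sub_eq_add_neg, ch_add h.card, h3, mul_comm, ch_neg_mul h.card]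
  have h5 := sum_ch h.card (lam - w)
  simp only [hone] at h5
  have h6 := sum_ch h.card (0 : Wt (2 * m + 1))
  simp only [ch_zero h.card, h5, if_true] at h6
  by_contra hne
  rw [if_neg (sub_ne_zero.2 hne)] at h6
  exact zero_ne_one h6

theorem pair_free : ∀ i j k : ZMod (2 * 2 + 1),
    ¬ (j = i + (hM 2 + hM 2 + hM 2) ∨ i = j + (hM 2 + hM 2 + hM 2)) ∨
    ¬ (k = i + (hM 2 + hM 2 + hM 2) ∨ i = k + (hM 2 + hM 2 + hM 2)) ∨
    ¬ (j = k + (hM 2 + hM 2 + hM 2) ∨ k = j + (hM 2 + hM 2 + hM 2)) := by decide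

theorem six_ne : ∀ i j : ZMod (2 * 2 + 1), j = i + (hM 2 + hM 2 + hM 2) →
    i ≠ j + (hM 2 + hM 2 + hM 2) := by decide

theorem five_weight : ∀ i : ZMod (2 * 2 + 1),
    pw (i + (hM 2 + hM 2)) + szδ 2 * pw i + szδ 2 * pw (i + (hM 2 + hM 2 + hM 2)) = 0 := by decide

theorem C_mem_of_coef {i j : ZMod (2 * m + 1)}
    (h0 : ∀ q, Cp h ρ q (Np h ρ i (Np h ρ j η)) ∈ J h ρ 4) (e : F) :
    C h ρ e (Np h ρ i (Np h ρ j η)) ∈ J h ρ 4 := by
  have hy : Np h ρ i (Np h ρ j η) ∈ J h ρ 2 := Np_J h ρ (Np_mem_J0 h ρ j η) i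
  refine mem_of_mkQ_eq_zero (eq_zero_of_coef h.card (szFrame h).hn
    (g := fun e => (J h ρ 4).mkQ (C h ρ e (Np h ρ i (Np h ρ j η))))
    (fun x y => mkQ_add_eq h (C_add_J h ρ hy x y)) (fun q => ?_) e)
  rw [← map_coef, ← Cp_apply]
  exact mkQ_eq_zero (h0 q)

/-- The products of three central augmentations lie deep. -/
theorem NNN_mem (hρ : Fpf ρ) (ha : (szFrame h).Eigen ρ a lam) (ha2 : a ∈ J h ρ 2) (hm : m = 2)
    (i j k : ZMod (2 * m + 1)) : Np h ρ k (Np h ρ i (Np h ρ j η)) ∈ J h ρ 5 := by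
  have key : ∀ i j k : ZMod (2 * m + 1),
      ¬ (j = i + (hM m + hM m + hM m) ∨ i = j + (hM m + hM m + hM m)) →
      Np h ρ k (Np h ρ i (Np h ρ j η)) ∈ J h ρ 5 := by
    intro i j k hij
    have h0 : ∀ q, Cp h ρ q (Np h ρ i (Np h ρ j η)) ∈ J h ρ 4 := fun q => by
      by_contra hG
      obtain ⟨-, -, ⟨-, h1⟩ | ⟨-, h1⟩⟩ := third_exc hρ ha ha2 hG
      · exact hij (Or.inl h1)
      · exact hij (Or.inr h1)
    rw [Np_apply h ρ k]
    refine coef_mem _ (fun b => ?_) k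
    obtain ⟨e, rfl⟩ := exists_th_mul h b
    rw [← C_sq h ρ]
    exact C_mem_J h ρ (i := 4) (C_mem_of_coef h0 e) e
  subst hm
  rcases pair_free i j k with h1 | h1 | h1
  · exact key i j k h1
  · rw [Np_comm h ρ i j, Np_comm h ρ k j, Np_comm h ρ k i]
    exact key i k j h1
  · rw [Np_comm h ρ k i]
    exact key k j i (fun e => h1 e)

theorem biadd_fourth {y : V} (hy : y ∈ J h ρ 2) :
    Biadd (fun e f => (J h ρ 5).mkQ (C h ρ e (C h ρ f y))) where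
  left e e' f := mkQ_add_eq h (C_add_J h ρ (C_mem_J h ρ hy f) e e')
  right e f f' := by
    refine mkQ_add_eq h ?_
    rw [← map_add, ← map_add]
    exact C_mem_J h ρ (C_add_J h ρ hy f f') e

theorem fourth_zero (hρ : Fpf ρ) (ha : (szFrame h).Eigen ρ a lam) (ha2 : a ∈ J h ρ 2) (hm : m = 2)
    (r q i j : ZMod (2 * m + 1)) :
    (J h ρ 5).mkQ (Cp h ρ r (Cp h ρ q (Np h ρ i (Np h ρ j η)))) = 0 := by
  have hy : Np h ρ i (Np h ρ j η) ∈ J h ρ 2 := Np_J h ρ (Np_mem_J0 h ρ j η) i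
  have hN : ∀ d, N h ρ d (Np h ρ i (Np h ρ j η)) ∈ J h ρ 5 := fun d => by
    refine mem_of_mkQ_eq_zero (eq_zero_of_coef h.card (szFrame h).hn
      (g := fun d => (J h ρ 5).mkQ (N h ρ d (Np h ρ i (Np h ρ j η))))
      (fun x y => mkQ_add_eq h (J_mono h ρ (by norm_num) (N_add_J h ρ hy x y))) (fun k => ?_) d)
    rw [← map_coef, ← Np_apply]
    exact mkQ_eq_zero (NNN_mem hρ ha ha2 hm i j k)
  have hB := biadd_fourth (h := h) hy
  by_cases hq : Cp h ρ q (Np h ρ i (Np h ρ j η)) ∈ J h ρ 4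
  · exact mkQ_eq_zero (Cp_mem_J h ρ hq r)
  have hswap : (J h ρ 5).mkQ (Cp h ρ r (Cp h ρ q (Np h ρ i (Np h ρ j η)))) =
      (J h ρ 5).mkQ (Cp h ρ q (Cp h ρ r (Np h ρ i (Np h ρ j η)))) := by
    have hs : ∀ e f, (J h ρ 5).mkQ (C h ρ e (C h ρ f (Np h ρ i (Np h ρ j η)))) =
        (J h ρ 5).mkQ (C h ρ f (C h ρ e (Np h ρ i (Np h ρ j η)))) := fun e f => by
      refine mkQ_eq_of_add_mem h ?_
      rw [C_comm_add h ρ]
      exact rho_mem_J h ρ 5 _ ⟨f, 0, rfl⟩ _ (rho_mem_J h ρ 5 _ ⟨e, 0, rfl⟩ _ (hN _))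
    have e1 := coef₂_comp (J h ρ 5).mkQ (C h ρ) (C h ρ) (Np h ρ i (Np h ρ j η)) r q
    have e2 := coef₂_comp (J h ρ 5).mkQ (C h ρ) (C h ρ) (Np h ρ i (Np h ρ j η)) q r
    change coef₂ _ r q = (J h ρ 5).mkQ (Cp h ρ r (Cp h ρ q (Np h ρ i (Np h ρ j η)))) at e1
    change coef₂ _ q r = (J h ρ 5).mkQ (Cp h ρ q (Cp h ρ r (Np h ρ i (Np h ρ j η)))) at e2
    rw [← e1, ← e2]
    simp only [coef₂, coef, proj, Finset.smul_sum, smul_smul]
    rw [Finset.sum_comm]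
    exact Finset.sum_congr rfl fun e _ => Finset.sum_congr rfl fun f _ => by rw [hs, mul_comm]
  by_cases hr : Cp h ρ r (Np h ρ i (Np h ρ j η)) ∈ J h ρ 4
  · rw [hswap]; exact mkQ_eq_zero (Cp_mem_J h ρ hr q)
  obtain ⟨-, -, hq'⟩ := third_exc hρ ha ha2 hq
  obtain ⟨-, -, hr'⟩ := third_exc hρ ha ha2 hr
  have hrq : r = q := by
    subst hm
    rcases hq' with ⟨q1, q2⟩ | ⟨q1, q2⟩ <;> rcases hr' with ⟨r1, r2⟩ | ⟨r1, r2⟩
    · exact r1.trans q1.symm
    · exact absurd r2 (six_ne i j q2)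
    · exact absurd q2 (six_ne i j r2)
    · exact r1.trans q1.symm
  rw [hrq]
  have e1 := coef₂_comp (J h ρ 5).mkQ (C h ρ) (C h ρ) (Np h ρ i (Np h ρ j η)) q q
  change coef₂ _ q q = (J h ρ 5).mkQ (Cp h ρ q (Cp h ρ q (Np h ρ i (Np h ρ j η)))) at e1
  rw [← e1]
  refine coef₂_self h.card (szFrame h).hn hB (fun e => ?_) q
  rw [C_sq h ρ]
  exact mkQ_eq_zero (hN _)

theorem CCNN_mem (hρ : Fpf ρ) (ha : (szFrame h).Eigen ρ a lam) (ha2 : a ∈ J h ρ 2) (hm : m = 2)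
    (e f b c : F) : C h ρ e (C h ρ f (N h ρ b (N h ρ c η))) ∈ J h ρ 5 := by
  have hn : 1 < 2 * m + 1 := (szFrame h).hn
  refine mem_of_mkQ_eq_zero ?_
  refine eq_zero_of_coef h.card hn
    (g := fun c => (J h ρ 5).mkQ (C h ρ e (C h ρ f (N h ρ b (N h ρ c η)))))
    (fun x y => mkQ_add_eq h ?_) (fun j => ?_) c
  · rw [← map_add, ← map_add, ← map_add, ← map_add, ← map_add, ← map_add]
    exact J_mono h ρ (by norm_num)
      (C_mem_J h ρ (C_mem_J h ρ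
        (N_J h ρ (N_add_L h ρ (d := 0) (v := η) Submodule.mem_top x y) b) f) e)
  · have e1 : coef (fun c => (J h ρ 5).mkQ (C h ρ e (C h ρ f (N h ρ b (N h ρ c η))))) j =
        (J h ρ 5).mkQ (C h ρ e (C h ρ f (N h ρ b (Np h ρ j η)))) := by
      rw [Np_apply]
      simp only [coef, proj, map_sum, map_smul]
    rw [e1]
    refine eq_zero_of_coef h.card hn
      (g := fun b => (J h ρ 5).mkQ (C h ρ e (C h ρ f (N h ρ b (Np h ρ j η)))))
      (fun x y => mkQ_add_eq h ?_) (fun i => ?_) b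
    · rw [← map_add, ← map_add, ← map_add, ← map_add]
      exact J_mono h ρ (by norm_num)
        (C_mem_J h ρ (C_mem_J h ρ (N_add_J h ρ (Np_mem_J0 h ρ j η) x y) f) e)
    · have e2 : coef (fun b => (J h ρ 5).mkQ (C h ρ e (C h ρ f (N h ρ b (Np h ρ j η))))) i =
          (J h ρ 5).mkQ (C h ρ e (C h ρ f (Np h ρ i (Np h ρ j η)))) := by
        rw [Np_apply h ρ i]
        simp only [coef, proj, map_sum, map_smul]
      rw [e2]
      refine eq_zero_of_coef₂ h.card hn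
        (biadd_fourth (h := h) (Np_J h ρ (Np_mem_J0 h ρ j η) i)) (fun r q => ?_) e f
      exact (coef₂_comp (J h ρ 5).mkQ (C h ρ) (C h ρ) (Np h ρ i (Np h ρ j η)) r q).trans
        (fourth_zero hρ ha ha2 hm r q i j)

theorem J4_eq_bot (hρ : Fpf ρ) (hI : Irred ρ) (ha : (szFrame h).Eigen ρ a lam) (ha2 : a ∈ J h ρ 2)
    (hm : m = 2) : J h ρ 4 = ⊥ := by
  refine J_eq_bot h ρ (J_succ_le h ρ (i := 3) fun e v hv => ?_)
  have h1 : J h ρ 3 ≤ (J h ρ 5).comap (C h ρ e) := by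
    refine J_succ_le h ρ (i := 2) fun f w hw => ?_
    have h2 : K h ρ a ≤ (J h ρ 5).comap (C h ρ e ∘ₗ C h ρ f) := by
      refine sup_le (Submodule.span_le.2 ?_) fun x hx => ?_
      · rintro _ ⟨⟨b, c⟩, rfl⟩
        rw [SetLike.mem_coe, Submodule.mem_comap, LinearMap.comp_apply]
        exact CCNN_mem hρ ha ha2 hm e f b c
      · rw [Submodule.mem_comap, LinearMap.comp_apply]
        exact C_mem_J h ρ (i := 4) (C_mem_J h ρ (i := 3) hx f) e
    have h3 := h2 (J2_le_K hρ hI ha ha2 hw)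
    rw [Submodule.mem_comap, LinearMap.comp_apply] at h3
    rwa [Submodule.mem_comap]
  exact Submodule.mem_comap.1 (h1 hv)

theorem J3_eq_bot (hρ : Fpf ρ) (hI : Irred ρ) (ha : (szFrame h).Eigen ρ a lam) (ha2 : a ∈ J h ρ 2) :
    J h ρ 3 = ⊥ := by
  by_cases h0 : ∀ q i j, Cp h ρ q (Np h ρ i (Np h ρ j η)) ∈ J h ρ 4
  · exact J_eq_bot h ρ (J3_le_J4 hρ hI ha ha2 h0)
  exfalso
  push Not at h0
  obtain ⟨q, i, j, hG⟩ := h0
  obtain ⟨hm, -, hexc⟩ := third_exc hρ ha ha2 hG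
  have h4 := J4_eq_bot hρ hI ha ha2 hm
  have hx0 : Cp h ρ q (Np h ρ i (Np h ρ j η)) ≠ 0 := fun e => hG (by rw [e]; exact Submodule.zero_mem _)
  have hx : Cp h ρ q (Np h ρ i (Np h ρ j η)) ∈ F ∙ a :=
    J_le_span hρ hI ha (i := 3) h4 (Cp_mem_J h ρ (Np_J h ρ (Np_mem_J0 h ρ j η) i) q)
  have h5 : pw q + szδ m * pw i + szδ m * pw j = 0 := by
    subst hm
    rcases hexc with ⟨h1, h2⟩ | ⟨h1, h2⟩
    · rw [h1, h2]; exact five_weight i
    · rw [h1, h2, add_right_comm]; exact five_weight j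
  have hw := weight_eq_of_mem ha (w := -lam) hx hx0 fun σ => by
    rw [k_Cp, k_Np, k_Np, k_eta ha, map_smul, map_smul, map_smul, map_smul, map_smul, map_smul]
    simp only [smul_smul, ← ch_add h.card]
    congr 2
    linear_combination h5
  exact two_lam_ne_zero hρ ha (by linear_combination hw)

end Cfsg.Lib.CIT.Rad2.SzRep
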