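import Mathlib
import Cfsg.Agent.Lib.CIT.Rad2.SzShort

/-!
An irreducible representation of a Suzuki group without fixed points of odd elements has the fixed weight of
a Frobenius twist of the natural representation, and the centre of the root group acts additively.
-/

set_option autoImplicit false
set_option linter.unusedSectionVars false

universe u

namespace Cfsg.Lib.CIT.Rad2.SzRep

open Finset
open Cfsg.Lib.Linear.Suz

variable {F : Type} [Field F] [Fintype F] [DecidableEq F] {m : ℕ} {h : Params F m}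
  {V : Type u} [AddCommGroup V] [Module F V] [Finite V] {ρ : ↥(Cfsg.Sz F m) →* Module.End F V}
  {a : V} {lam : Wt (2 * m + 1)}

local notation "η" => ρ (wS h) a

/-- The weight read off from the opposite element. -/
def om (lam : Wt (2 * m + 1)) : Wt (2 * m + 1) := 2 * (pw (hM m) - 1) * lam

theorem szδ_om (lam : Wt (2 * m + 1)) : szδ m * om lam = 2 * lam := by
  have h1 : pw (hM m) * pw (hM m) = (2 : Wt (2 * m + 1)) := by rw [← pw_add, hM_double, pw_one]
  rw [szδ, om]
  linear_combination 2 * lam * h1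

theorem om_ne_zero (hρ : Fpf ρ) (ha : (szFrame h).Eigen ρ a lam) : om lam ≠ 0 := fun e =>
  two_lam_ne_zero hρ ha (by rw [← szδ_om, e, mul_zero])

theorem eta_coeff (hρ : Fpf ρ) (hI : Irred ρ) (ha : (szFrame h).Eigen ρ a lam) {c : F} {v : V}
    (hv : v ∈ L h ρ 1) (h0 : c • η + v = 0) : c = 0 := by
  by_contra hc
  refine eta_not_mem hρ hI ha ?_
  have h1 : c • η = v := by
    rw [← sub_v h, sub_eq_zero] at h0; exact h0
  have h2 := Submodule.smul_mem (L h ρ 1) c⁻¹ hv
  rwa [← h1, smul_smul, inv_mul_cancel₀ hc, one_smul] at h2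

theorem flip_mod (hρ : Fpf ρ) (ha : (szFrame h).Eigen ρ a lam) (c : F) :
    (L h ρ 2).mkQ (ρ (wS h) (N h ρ c η)) = c ^ (om lam).val • (L h ρ 2).mkQ η +
      c ^ (om lam).val • (L h ρ 2).mkQ (C h ρ (c / th m c) η) := by
  by_cases hc : c = 0
  · subst hc
    have hv : (om lam).val ≠ 0 := fun e => om_ne_zero hρ ha ((ZMod.val_eq_zero _).1 e)
    rw [N_zero h ρ, LinearMap.zero_apply, map_zero, map_zero, zero_pow hv, zero_smul, zero_smul,
      add_zero]
  obtain ⟨u, rfl⟩ : ∃ u : Fˣ, (u : F) = c := ⟨Units.mk0 c hc, rfl⟩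
  have ha2 : a ∈ L h ρ 2 := L_mono h ρ (show 2 ≤ 1 + 2 by norm_num) (J_le_L h ρ 1 (a_mem_J1 hρ ha))
  rw [flip_N ha, map_add, map_smul, mkQ_eq_zero ha2, add_zero, map_add, smul_add, add_comm]
  rfl

theorem flip_mod_one (hρ : Fpf ρ) (ha : (szFrame h).Eigen ρ a lam) (c : F) :
    ρ (wS h) (N h ρ c η) + c ^ (om lam).val • η ∈ L h ρ 1 := by
  have h1 := flip_mod hρ ha c
  simp only [← map_smul, ← map_add] at h1
  simp only [Submodule.mkQ_apply] at h1
  rw [Submodule.Quotient.eq] at h1
  have h2 := add_mem (L_anti h ρ 1 h1)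
    (Submodule.smul_mem (L h ρ 1) (c ^ (om lam).val)
      (C_mem_L h ρ (d := 0) (v := η) Submodule.mem_top (c / th m c)))
  rw [sub_v h] at h2
  simp only [map_smul] at h2
  have e : ρ (wS h) (N h ρ c η) + (c ^ (om lam).val • η + c ^ (om lam).val • C h ρ (c / th m c) η) +
      c ^ (om lam).val • C h ρ (c / th m c) η = ρ (wS h) (N h ρ c η) + c ^ (om lam).val • η +
        (c ^ (om lam).val • C h ρ (c / th m c) η + c ^ (om lam).val • C h ρ (c / th m c) η) := by abel
  rwa [e, dbl h, add_zero] at h2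

/-- The shallow case. -/
theorem good_shallow (hρ : Fpf ρ) (hI : Irred ρ) (ha : (szFrame h).Eigen ρ a lam) (hJ : J h ρ 2 = ⊥) :
    ∃ r, (szFrame h).GoodAt ρ a lam r := by
  haveI := charP_two h
  have hn : 1 < 2 * m + 1 := (szFrame h).hn
  have hNN : ∀ b c v, N h ρ b (N h ρ c v) = 0 := fun b c v => by
    simpa [hJ] using N_J h ρ (N_mem_J0 h ρ c v) b
  have hadd : ∀ b c, N h ρ (b + c) η = N h ρ b η + N h ρ c η := fun b c => by
    rw [N_add h ρ, hNN, add_zero]
  let hf : F → F := fun c => c ^ (om lam).val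
  have hhadd : ∀ x y, hf (x + y) = hf x + hf y := fun x y => by
    have h1 := add_mem (flip_mod_one hρ ha (x + y))
      (add_mem (flip_mod_one hρ ha x) (flip_mod_one hρ ha y))
    rw [hadd, map_add] at h1
    have h2 : ρ (wS h) (N h ρ x η) + ρ (wS h) (N h ρ y η) + (x + y) ^ (om lam).val • η +
        (ρ (wS h) (N h ρ x η) + x ^ (om lam).val • η +
          (ρ (wS h) (N h ρ y η) + y ^ (om lam).val • η)) =
        (hf (x + y) + (hf x + hf y)) • η +
          ((ρ (wS h) (N h ρ x η) + ρ (wS h) (N h ρ x η)) +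
            (ρ (wS h) (N h ρ y η) + ρ (wS h) (N h ρ y η))) := by
      simp only [hf, add_smul]; abel
    rw [h2, dbl h, dbl h, add_zero, add_zero] at h1
    have h3 := eta_coeff hρ hI ha h1 (dbl h _)
    rw [← CharTwo.sub_eq_add, sub_eq_zero] at h3
    exact h3
  obtain ⟨r, hr⟩ := exists_pw_of_additive h.card hn (om lam) hf (fun s => rfl) hhadd
  have hstep : ∀ b, ∀ e, C h ρ e (N h ρ b η) ∈ F ∙ a := fun b e =>
    J_le_span hρ hI ha (i := 1) hJ (C_mem_J h ρ (N_mem_J0 h ρ b η) e)
  refine ⟨r, ?_⟩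
  refine
    { weight := ?_
      span := Frame.span_eq_top hI ha ?_
      step := ?_
      additive := ?_
      lead := ?_ }
  · show 2 * lam = szδ m * pw r
    rw [← hr, szδ_om]
  · let M := Submodule.span F (Set.range fun x : (szFrame h).T => ρ (x : ↥(Cfsg.Sz F m)) η)
    have hu : ∀ x ∈ US h, ρ x η ∈ M := fun x hx => Submodule.subset_span ⟨⟨x, hx⟩, rfl⟩
    have hC : C h ρ 1 η ∈ M := by
      rw [C_apply]; exact add_mem (hu _ ⟨1, 0, rfl⟩) (by simpa using hu 1 (one_mem _))
    show a ∈ M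
    have e : a = ρ (uS h 0 1) (ρ (uS h 1 0) η) + ρ (uS h 0 1) η + (ρ (uS h 1 0) η + η) := by
      refine (five_rel hρ ha).trans ?_
      rw [C_apply, N_apply, map_add]
    have hmem : ρ (uS h 0 1) (ρ (uS h 1 0) η) + ρ (uS h 0 1) η + (ρ (uS h 1 0) η + η) ∈ M := by
      rw [rho_rho h ρ]
      exact add_mem (add_mem (hu _ (mul_mem ⟨0, 1, rfl⟩ ⟨1, 0, rfl⟩)) (hu _ ⟨0, 1, rfl⟩))
        (by rw [← C_apply]; exact hC)
    rwa [← e] at hmem
  · rintro b x ⟨e, d, rfl⟩
    show ρ (uS h e d) (ρ (uS h 0 b) η - η) - (ρ (uS h 0 b) η - η) ∈ F ∙ a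
    rw [sub_v h (ρ (uS h 0 b) η) η, ← N_apply, sub_v h, rho_u h ρ, hNN, map_zero, zero_add, add_zero,
      add_assoc, dbl h, add_zero]
    exact hstep b e
  · intro b c
    show ρ (uS h 0 (b + c)) η - η = (ρ (uS h 0 b) η - η) + (ρ (uS h 0 c) η - η)
    rw [sub_v h, sub_v h, sub_v h, ← N_apply, ← N_apply, ← N_apply, hadd]
  · intro e
    have e' : coef (fun b => N h ρ b η) r = 0 := by
      refine Eq.trans ?_ e
      exact congrArg (fun g => coef g r) (funext fun b => (sub_v h (ρ (uS h 0 b) η) η).symm)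
    have h1 := congrArg ((L h ρ 1).mkQ ∘ₗ ρ (wS h)) e'
    rw [map_zero, map_coef] at h1
    have h2 : ∀ b, ((L h ρ 1).mkQ ∘ₗ ρ (wS h)) (N h ρ b η) = hf b • (L h ρ 1).mkQ η := fun b => by
      rw [LinearMap.comp_apply, ← map_smul]
      exact mkQ_eq_of_add_mem h (flip_mod_one hρ ha b)
    simp only [h2, coef, proj, smul_smul] at h1
    rw [← Finset.sum_smul] at h1
    have h3 : ∑ s : Fˣ, ch (-pw r) s * hf (s : F) = 1 := by
      have : ∀ s : Fˣ, ch (-pw r) s * hf (s : F) = (1 : F) := fun s => by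
        rw [show hf (s : F) = ch (om lam) s from rfl, hr, ch_neg_mul h.card]
      simp only [this, Finset.sum_const, Finset.card_univ, card_units_eq h.card, nsmul_eq_mul, mul_one]
      exact natCast_odd F (Nat.Even.sub_odd Nat.one_le_two_pow
        (even_two.pow_of_ne_zero (by omega)) odd_one)
    rw [h3, one_smul] at h1
    exact eta_not_mem hρ hI ha (mem_of_mkQ_eq_zero h1)

theorem three_two_one : ∀ i j p k : ZMod (2 * 1 + 1), i ≠ j →
    pw i + pw j + pw p = pw k + pw (p + hM 1) →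
    (p = i ∧ j = i + hM 1) ∨ (p = j ∧ i = j + hM 1) := by decide

theorem three_two (hm : 1 ≤ m) (i j p k : ZMod (2 * m + 1)) (hij : i ≠ j)
    (e : pw i + pw j + pw p = pw k + pw (p + hM m)) :
    (p = i ∧ j = i + hM m) ∨ (p = j ∧ i = j + hM m) := by
  rcases hm.eq_or_lt with hm1 | hm2
  · subst hm1; exact three_two_one i j p k hij e
  classical
  have hn : 1 < 2 * m + 1 := by omega
  have hM1 : hM m + hM m = 1 := hM_double
  have hMne : hM m ≠ 0 := by simpa using k_hM_ne hm2 one_ne_zero (by norm_num)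
  have key : ∀ i j, i ≠ j → pw (i + 1) + pw j = pw k + pw (i + hM m) → j = i + hM m := by
    intro i j _ e'
    by_cases hj : i + 1 = j
    · subst hj
      rw [pw_succ] at e'
      by_cases hk : k = i + hM m
      · rw [hk, pw_succ] at e'
        exact add_right_cancel (pw_injective hn e')
      · rcases pw_pair_eq hn hk (show pw k + pw (i + hM m) = pw (i + 1) + pw (i + 1) by
          rw [pw_succ, e']) with ⟨h1, h2⟩ | ⟨h1, h2⟩
        · exact absurd (h1.symm.trans h2) hk
        · exact absurd (h2.symm.trans h1) hk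
    · rcases pw_pair_eq hn hj e' with ⟨-, h2⟩ | ⟨-, h2⟩
      · exact h2.symm
      · exact absurd (show hM m = 0 by linear_combination hM1 - h2) hMne
  by_cases hpi : p = i
  · refine Or.inl ⟨hpi, key i j hij ?_⟩
    rw [hpi] at e
    rw [← pw_succ, ← e]; abel
  by_cases hpj : p = j
  · refine Or.inr ⟨hpj, key j i (Ne.symm hij) ?_⟩
    rw [hpj] at e
    rw [← pw_succ, ← e]; abel
  exfalso
  have hn5 : 5 ≤ 2 * m + 1 := by omega
  by_cases hk : k = p + hM m
  · rw [hk, pw_succ] at e
    have h1 : ({i, j, p} : Finset (ZMod (2 * m + 1))).card = 3 := by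
      rw [Finset.card_insert_of_notMem (by simp [hij, Ne.symm hpi]), Finset.card_pair (Ne.symm hpj)]
    have hne : ∀ S : Finset (ZMod (2 * m + 1)), S.card ≤ 3 → S ≠ univ := fun S hS e' => by
      rw [e', card_univ, ZMod.card] at hS; omega
    have h2 := congrArg Finset.card (sum_pw_eq (hne _ h1.le) (hne _ (by rw [card_singleton]; omega))
      (show ∑ x ∈ ({i, j, p} : Finset (ZMod (2 * m + 1))), pw x =
          ∑ x ∈ ({p + hM m + 1} : Finset (ZMod (2 * m + 1))), pw x by
        rw [sum_triple hij (Ne.symm hpi) (Ne.symm hpj), Finset.sum_singleton, e]))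
    rw [h1, card_singleton] at h2
    omega
  · exact triple_ne_pair hn5 hij (Ne.symm hpi) (Ne.symm hpj) hk e

set_option maxHeartbeats 1000000 in
/-- The fixed vector does not lie deep. -/
theorem not_deep (hρ : Fpf ρ) (hI : Irred ρ) (ha : (szFrame h).Eigen ρ a lam) (ha2 : a ∈ J h ρ 2) :
    False := by
  haveI := charP_two h
  have hn : 1 < 2 * m + 1 := (szFrame h).hn
  have hJ3 := J3_eq_bot hρ hI ha ha2
  have hJ2 : J h ρ 2 ≤ F ∙ a := J_le_span hρ hI ha (i := 2) hJ3
  -- the weight
  obtain ⟨i, j, hij0⟩ : ∃ i j, Np h ρ i (Np h ρ j η) ≠ 0 := by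
    by_contra hc
    push Not at hc
    have hz : ∀ b c, N h ρ b (N h ρ c η) = 0 := fun b c => by
      have hb : Biadd (fun b c => N h ρ b (N h ρ c η)) := by
        constructor
        · intro b b' e
          have h0 : N h ρ b (N h ρ b' (N h ρ e η)) ∈ J h ρ 3 :=
            J_mono h ρ (by norm_num) (N_J h ρ (N_J h ρ (N_mem_J0 h ρ e η) b') b)
          rw [hJ3, Submodule.mem_bot] at h0
          rw [N_add h ρ, h0, add_zero]
        · intro b e e'
          have h0 : N h ρ b (N h ρ e (N h ρ e' η)) ∈ J h ρ 3 :=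
            J_mono h ρ (by norm_num) (N_J h ρ (N_J h ρ (N_mem_J0 h ρ e' η) e) b)
          rw [hJ3, Submodule.mem_bot] at h0
          rw [N_add h ρ, map_add, map_add, h0, add_zero]
      refine eq_zero_of_coef₂ h.card hn hb (fun i j => ?_) b c
      exact (coef₂_comp LinearMap.id (N h ρ) (N h ρ) η i j).trans (hc i j)
    have hK : K h ρ a = ⊥ := by
      rw [K, hJ3, sup_bot_eq, Submodule.span_eq_bot]
      rintro _ ⟨⟨b, c⟩, rfl⟩
      exact hz b c
    have := J2_le_K hρ hI ha ha2 ha2
    rw [hK, Submodule.mem_bot] at this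
    exact ha.ne this
  have hij : i ≠ j := by
    intro e
    subst e
    refine hij0 ?_
    have e1 := coef₂_comp (J h ρ 3).mkQ (N h ρ) (N h ρ) η i i
    change coef₂ _ i i = (J h ρ 3).mkQ (Np h ρ i (Np h ρ i η)) at e1
    rw [coef₂_self h.card hn biadd_NN (fun s => by rw [N_sq h ρ, map_zero]) i] at e1
    have := mem_of_mkQ_eq_zero e1.symm
    rwa [hJ3, Submodule.mem_bot] at this
  have hw : om lam = pw i + pw j := by
    refine isUnit_szδ.mul_left_cancel ?_
    rw [szδ_om]
    have h1 := weight_eq_of_mem ha (w := szδ m * pw i + szδ m * pw j - lam)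
      (hJ2 (Np_J h ρ (Np_mem_J0 h ρ j η) i)) hij0 fun σ => by
        rw [k_Np, k_Np, k_eta ha]
        simp only [map_smul, smul_smul, ← ch_add h.card]
        congr 2
        ring
    linear_combination h1
  -- the second component is additive
  let Y : F → V ⧸ L h ρ 2 := fun c => c ^ (om lam).val • (L h ρ 2).mkQ (C h ρ (c / th m c) η)
  have hY : ∀ x y, Y (x + y) = Y x + Y y := fun x y => by
    obtain ⟨φ, hφ⟩ := Submodule.mem_span_singleton.1 (hJ2 (N_J h ρ (N_mem_J0 h ρ y η) x))
    have h1 := flip_mod hρ ha (x + y)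
    rw [N_add h ρ, ← hφ] at h1
    simp only [map_add, map_smul, flip_mod hρ ha] at h1
    -- compare the components
    have h2 : ((x + y) ^ (om lam).val + x ^ (om lam).val + y ^ (om lam).val + φ) • η +
        ((x + y) ^ (om lam).val • C h ρ ((x + y) / th m (x + y)) η +
          x ^ (om lam).val • C h ρ (x / th m x) η + y ^ (om lam).val • C h ρ (y / th m y) η) ∈
        L h ρ 2 := by
      refine mem_of_mkQ_eq_zero ?_
      simp only [map_add, map_smul, add_smul]
      have h3 := sub_eq_zero.2 h1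
      have hneg : ∀ w : V ⧸ L h ρ 2, -w = w := fun w => by
        rw [← neg_one_smul F, CharTwo.neg_eq, one_smul]
      simp only [sub_eq_add_neg, neg_add, hneg] at h3
      rw [← h3]
      abel
    have hc : (x + y) ^ (om lam).val + x ^ (om lam).val + y ^ (om lam).val + φ = 0 := by
      by_contra hne
      refine eta_not_mem hρ hI ha ?_
      have hC : ∀ e, C h ρ e η ∈ L h ρ 1 := fun e => C_mem_L h ρ (d := 0) Submodule.mem_top e
      have h4 := add_mem (L_anti h ρ 1 h2) (add_mem (add_mem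
        (Submodule.smul_mem (L h ρ 1) ((x + y) ^ (om lam).val) (hC ((x + y) / th m (x + y))))
        (Submodule.smul_mem (L h ρ 1) (x ^ (om lam).val) (hC (x / th m x))))
        (Submodule.smul_mem (L h ρ 1) (y ^ (om lam).val) (hC (y / th m y))))
      rw [add_assoc, dbl h, add_zero] at h4
      have h5 := Submodule.smul_mem (L h ρ 1)
        ((x + y) ^ (om lam).val + x ^ (om lam).val + y ^ (om lam).val + φ)⁻¹ h4
      rwa [smul_smul, inv_mul_cancel₀ hne, one_smul] at h5
    rw [hc, zero_smul, zero_add, add_assoc] at h2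
    have h6 := mkQ_eq_of_add_mem h h2
    simp only [map_add, map_smul] at h6
    exact h6
  have hCadd : ∀ x y, (L h ρ 2).mkQ (C h ρ (x + y) η) =
      (L h ρ 2).mkQ (C h ρ x η) + (L h ρ 2).mkQ (C h ρ y η) := fun x y =>
    mkQ_add_eq h (C_add_L h ρ (d := 0) Submodule.mem_top x y)
  have hYsum : ∀ c : Fˣ, Y c = ∑ p : ZMod (2 * m + 1),
      ch (om lam + (1 - pw (hM m)) * pw p) c • (L h ρ 2).mkQ (Cp h ρ p η) := fun c => by
    show (c : F) ^ (om lam).val • _ = _
    rw [expand h.card hn (g := fun e => (L h ρ 2).mkQ (C h ρ e η)) hCadd ((c : F) / th m (c : F)),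
      Finset.smul_sum]
    refine Finset.sum_congr rfl fun p _ => ?_
    rw [Cp_apply, map_coef, smul_smul]
    congr 1
    have he : (c : F) / th m (c : F) = ch (1 - pw (hM m)) c := by
      refine div_eq_of_eq_mul (fun e => c.ne_zero ((th_eq_zero h).1 e)) ?_
      have h1 := ch_pw h.card (0 : ZMod (2 * m + 1)) c
      rw [pw_zero, ZMod.val_zero, pow_zero, pow_one] at h1
      rw [show th m (c : F) = ch (pw (hM m)) c by rw [ch_pw h.card, hM_val h, th], ← ch_add h.card,
        sub_add_cancel, h1]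
    have h2 : pw p = ((2 ^ p.val : ℕ) : Wt (2 * m + 1)) := by rw [pw]; simp
    rw [he, ← ch_mul_natCast h.card, ← h2, ch_add h.card]
    rfl
  have hpw : ∀ p, Cp h ρ p η ∉ L h ρ 2 → (p = i ∧ j = i + hM m) ∨ (p = j ∧ i = j + hM m) := by
    intro p hp
    by_contra hcon
    refine hp (mem_of_mkQ_eq_zero ?_)
    have hinj : ∀ q, om lam + (1 - pw (hM m)) * pw q = om lam + (1 - pw (hM m)) * pw p → q = p := by
      intro q e
      have hu : IsUnit ((1 : Wt (2 * m + 1)) - pw (hM m)) := by
        refine IsUnit.of_mul_eq_one (-(pw (hM m) + 1)) ?_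
        have h1 : pw (hM m) * pw (hM m) = (2 : Wt (2 * m + 1)) := by rw [← pw_add, hM_double, pw_one]
        linear_combination h1
      exact pw_injective hn (hu.mul_left_cancel (add_left_cancel e))
    have e1 := proj_sum h.card univ (om lam + (1 - pw (hM m)) * pw p)
      (fun q => om lam + (1 - pw (hM m)) * pw q) (fun q => (L h ρ 2).mkQ (Cp h ρ q η))
      (fun c : Fˣ => Y c) hYsum
    rw [Finset.sum_eq_single p (fun q hq hne => absurd (hinj q (Finset.mem_filter.1 hq).2) hne)
      (fun h0 => (h0 (Finset.mem_filter.2 ⟨Finset.mem_univ p, rfl⟩)).elim)] at e1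
    rw [← e1, proj_sum h.card univ _ pw (coef Y) (fun c : Fˣ => Y c) fun c => by
      rw [expand h.card hn hY]; exact Finset.sum_congr rfl fun k _ => by rw [ch_pw h.card]]
    refine Finset.sum_eq_zero fun k hk => ?_
    exfalso
    have hk' := (Finset.mem_filter.1 hk).2
    refine hcon (three_two h.pos i j p k hij ?_)
    rw [hw] at hk'
    rw [pw_add p (hM m)]
    linear_combination -hk'
  have hone : ∃ p0, ∀ p, p ≠ p0 → Cp h ρ p η ∈ L h ρ 2 := by
    by_cases hj : j = i + hM m
    · refine ⟨i, fun p hp => by_contra fun hc => ?_⟩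
      rcases hpw p hc with ⟨h1, -⟩ | ⟨-, h2⟩
      · exact hp h1
      · have hzero : hM m + hM m = 0 := by linear_combination -hj - h2
        rw [hM_double] at hzero
        haveI : Fact (1 < 2 * m + 1) := ⟨hn⟩
        exact one_ne_zero hzero
    · refine ⟨j, fun p hp => by_contra fun hc => ?_⟩
      rcases hpw p hc with ⟨-, h2⟩ | ⟨h1, -⟩
      · exact hj h2
      · exact hp h1
  obtain ⟨p0, hp0⟩ := hone
  have hf : ∀ i l, (J h ρ 2).mkQ (Np h ρ i (Cp h ρ l η)) = 0 := by
    intro i l
    have hl0 : ∀ i l, l ≠ p0 → (J h ρ 2).mkQ (Np h ρ i (Cp h ρ l η)) = 0 := fun i l hl =>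
      mkQ_eq_zero (Np_mem_J h ρ (d := 2) (hp0 l hl) i)
    by_cases hl : l = p0
    swap
    · exact hl0 i l hl
    have h1 := class_sum h.card hn (biadd_first (h := h) (ρ := ρ) (a := a)) (szδ m)
      (first_diag hρ ha ha2) (szδ m * pw i + pw l)
    rw [Finset.sum_eq_single (i, l)] at h1
    · rwa [first_coef] at h1
    · rintro ⟨i', l'⟩ hq hne
      rw [first_coef]
      simp only [Finset.mem_filter, Finset.mem_univ, true_and] at hq
      by_cases hl' : l' = p0
      · exfalso
        rw [hl, hl'] at hq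
        exact hne (by rw [pw_injective hn (isUnit_szδ.mul_left_cancel (add_right_cancel hq)), hl, hl'])
      · exact hl0 i' l' hl'
    · simp
  have hfe : ∀ b e, N h ρ b (C h ρ e η) ∈ J h ρ 2 := fun b e =>
    mem_of_mkQ_eq_zero (eq_zero_of_coef₂ h.card hn biadd_first
      (fun i l => by rw [first_coef]; exact hf i l) b e)
  have hJ1 : J h ρ 1 ≤ J h ρ 2 := by
    refine J_succ_le h ρ (i := 0) fun e v hv => ?_
    have h1 := J_zero_le h ρ (Y := (J h ρ 2).comap (C h ρ e)) (fun b x => by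
      rw [Submodule.mem_comap]
      obtain ⟨c, hc⟩ := decomp hρ hI ha x
      have h2 : C h ρ e (N h ρ b (x + c • η)) ∈ J h ρ 2 := C_mem_J h ρ (i := 1) (N_L h ρ hc b) e
      have h3 : C h ρ e (N h ρ b η) ∈ J h ρ 2 := by rw [← N_comm_C h ρ]; exact hfe b e
      have e1 : x = (x + c • η) + c • η := by rw [add_assoc, dbl h, add_zero]
      rw [e1, map_add, map_add, map_smul, map_smul]
      exact add_mem h2 (Submodule.smul_mem _ _ h3))
    exact Submodule.mem_comap.1 (h1 hv)
  have h1 := a_mem_J1 hρ ha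
  rw [J_eq_bot h ρ hJ1, Submodule.mem_bot] at h1
  exact ha.ne h1

/-- The Suzuki groups are good. -/
theorem szFrame_isGood (h : Params F m) : Frame.IsGood.{u} (szFrame h) := by
  intro V _ _ _ ρ hρ hI a lam ha
  refine good_shallow hρ hI ha ?_
  by_contra hne
  exact not_deep hρ hI ha (socle hρ hI ha (rho_mem_J h ρ 2) hne)

end Cfsg.Lib.CIT.Rad2.SzRep
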